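import Cfsg.Agent.Lib.Co1Type31.Frame
import Cfsg.Agent.Lib.Co1Type31.Tables

/-!
# Conway type: computations for the centraliser of the product with parameters `4, 16`

Owner: helper31.
-/

set_option autoImplicit false
set_option maxRecDepth 100000

namespace Cfsg.Agent.Lib.Co1Type31

/-- The word of an element of order three on the line. -/
def sw : List (ℕ × ℕ) := [(3, 7), (11, 14)]

/-- The vectors orthogonal to `⟨1, 4⟩` generating its perpendicular. -/
def lb : List ℕ := [1, 4, 16, 32, 64, 128]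

/-- The coordinates of `Q ∩ C(b)`. -/
def fb : List ℕ := lb4 ++ lb4.map (· ^^^ 1)
  where lb4 : List ℕ := [0, 4, 16, 20, 64, 68, 80, 84, 128, 132, 144, 148, 192, 196, 208, 212]

/-- The radical of these coordinates. -/
def rb : List ℕ := [0, 1, 4, 5, 16, 17, 20, 21]

/-- The generators of the coded Sylow subgroup. -/
def gens : List ℕ := [2, 128, 1024, 512, 1, 4, 8, 16, 32, 64, 256, 2048]

theorem sep_b : ∀ i j : Bool, ∃ k ∈ w6, bn 4 k = i ∧ bn 16 k = j := by
  intro i j; cases i <;> cases j <;> decide +kernel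

theorem lb_spec : ∀ k ∈ lb, k < 256 ∧ b1 k = false ∧ bn 4 k = false := by decide +kernel

theorem eich4_fix : ∀ k < 256, eich 4 k = k → b1 k = false ∧ bn 4 k = false := by decide +kernel

theorem v_cases_b : w6.all (fun v => Nat.beq v 16 || Nat.beq v 20 ||
    lb.any fun k => !(bn v k == bn 16 k)) = true := by decide +kernel

/-- A map preserving the data of the product. -/
def goodB (f : ℕ → ℕ) : Bool :=
  agree (fun k => f (eich 4 k)) (fun k => eich 4 (f k)) &&
    all8.all fun k => b1 k || bn 4 k || (bn 16 (f k) == bn 16 k)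

theorem goodB_eich : w6.all (fun a => goodB (eich a)) = true := by decide +kernel

theorem goodB_four : w4.all (fun b => goodB (sg 4 b)) = true := by decide +kernel

theorem goodB_sixteen : c4.all (fun c => goodB (sg 16 c)) = true := by decide +kernel

theorem eich4_fix' {k : ℕ} (h : eich 4 k = k) (hk : k < 256) : b1 k = false ∧ bn 4 k = false :=
  eich4_fix k hk h

theorem goodB_spec {f : ℕ → ℕ} (hf : Lin8 f) (h : goodB f = true) {k : ℕ} (hk : k < 256) :
    f (eich 4 k) = eich 4 (f k) ∧ (eich 4 k = k → bn 16 (f k) = bn 16 k) := by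
  rw [goodB, Bool.and_eq_true] at h
  refine ⟨(hf.comp (eich_lin (by norm_num))).ext ((eich_lin (by norm_num)).comp hf) h.1 k hk, fun e => ?_⟩
  obtain ⟨h1, h4⟩ := eich4_fix' e hk
  have := List.all_eq_true.1 h.2 k (mem_all8.2 hk)
  simpa [h1, h4] using this

/-- The coded subgroup preserves the data of the product. -/
theorem uel_b {i : ℕ} (hi : i < 4096) {k : ℕ} (hk : k < 256) :
    uel i (eich 4 k) = eich 4 (uel i k) ∧ (eich 4 k = k → bn 16 (uel i k) = bn 16 k) := by
  obtain ⟨ha, hb, hc⟩ := par_spec i hi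
  have la : Lin8 (eich (pa i)) := eich_lin (lt_of_w6 ha)
  have lb' : Lin8 (sg 4 (pb i)) := sg_lin (by norm_num) (w4_spec _ hb).1
  have lc : Lin8 (sg 16 (pc i)) := sg_lin (by norm_num) (c4_spec _ hc).1
  have h1 := List.all_eq_true.1 goodB_eich _ ha
  have h2 := List.all_eq_true.1 goodB_four _ hb
  have h3 := List.all_eq_true.1 goodB_sixteen _ hc
  have k1 := lc.lt k hk
  have k2 := lb'.lt _ k1
  refine ⟨?_, fun e => ?_⟩
  · rw [uel, (goodB_spec lc h3 hk).1, (goodB_spec lb' h2 k1).1, (goodB_spec la h1 k2).1]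
    rfl
  · have e1 : eich 4 (sg 16 (pc i) k) = sg 16 (pc i) k := by rw [← (goodB_spec lc h3 hk).1, e]
    have e2 : eich 4 (sg 4 (pb i) (sg 16 (pc i) k)) = sg 4 (pb i) (sg 16 (pc i) k) := by
      rw [← (goodB_spec lb' h2 k1).1, e1]
    rw [uel, (goodB_spec la h1 k2).2 e2, (goodB_spec lb' h2 k1).2 e1, (goodB_spec lc h3 hk).2 e]

theorem sw_b : okWord sw = true ∧ agree (fun k => prs sw (eich 4 k)) (fun k => eich 4 (prs sw k)) = true ∧
    (lb.all fun k => bn 16 (prs sw k) == bn 16 k) = true ∧
    agree (fun k => prs sw (prs sw (prs sw (prs sw (prs sw (prs sw k)))))) id = true := by decide +kernel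

theorem gens_lt : ∀ j ∈ gens, j < 4096 := by decide

theorem center_uel : (List.range 4096).all (fun i =>
    Nat.beq i 0 || Nat.beq i 1 ||
      gens.any fun j => !(agree (fun k => uel i (uel j k)) (fun k => uel j (uel i k)))) = true := by
  decide +kernel

theorem fixed_uel : all8.all (fun k =>
    Nat.beq k 0 || Nat.beq k 1 || gens.any fun j => !(Nat.beq (uel j k) k)) = true := by decide +kernel

/-- The indices commuting with the square of the element of order three. -/
def cs : List ℕ := [0, 1, 1024, 1025, 2048, 2049, 3072, 3073]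

/-- The square of the element of order three, tabulated. -/
def s3 (k : ℕ) : ℕ :=
  (k &&& 240) ^^^ [0, 5, 8, 13, 1, 4, 9, 12, 10, 15, 2, 7, 11, 14, 3, 6].getD (k &&& 15) 0

theorem s3_eq : all8.all (fun k => Nat.beq (prs sw (prs sw k)) (s3 k)) = true := by decide +kernel

theorem cs_cover : (List.range 4096).all (fun i => cs.contains i ||
    !([2, 8, 32, 4, 16, 64, 128, 1].all fun k => Nat.beq (uel i (s3 k)) (s3 (uel i k)))) = true := by
  decide +kernel

theorem cs_comm : cs.all (fun i => cs.all fun j =>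
    agree (fun k => uel i (uel j k)) (fun k => uel j (uel i k))) = true := by decide +kernel

theorem fb_spec : ∀ k ∈ fb, k < 256 ∧ b1 k = false ∧ bn 4 k = false ∧ bn 16 k = false := by decide +kernel

theorem fb_cover : all8.all (fun k => b1 k || bn 4 k || bn 16 k || fb.contains k) = true := by
  decide +kernel

theorem rb_spec : ∀ k ∈ rb, k ∈ fb ∧ qn k = false ∧ ∀ l ∈ fb, bn k l = false := by decide +kernel

theorem rb_xor : ∀ k ∈ rb, ∀ l ∈ rb, k ^^^ l ∈ rb := by decide +kernel

theorem plane_b : fb.all (fun a => fb.all fun b => qn a || qn b || !(bn a b) ||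
    (rb.contains (a ^^^ 64) && rb.contains (b ^^^ 128)) ||
    (rb.contains (a ^^^ 128) && rb.contains (b ^^^ 64))) = true := by decide +kernel

theorem rad_b : fb.all (fun k => bn k 64 || bn k 128 || rb.contains k) = true := by decide +kernel

theorem plane_step : ∀ a ∈ [64, 128], ∀ r ∈ rb, a ^^^ r ∈ fb := by decide +kernel

/-- An isometry preserving the coordinates squares to the identity modulo the radical. -/
theorem twist_b {f : ℕ → ℕ} (hf : Iso8 f) (hF : ∀ k ∈ fb, f k ∈ fb) :
    (∀ r ∈ rb, f r ∈ rb) ∧ ∀ a ∈ [64, 128], f (f a) ^^^ a ∈ rb := by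
  have h64 : (64 : ℕ) ∈ fb := by decide
  have h128 : (128 : ℕ) ∈ fb := by decide
  have key := List.all_eq_true.1 (List.all_eq_true.1 plane_b _ (hF 64 h64)) _ (hF 128 h128)
  rw [hf.pres 64 (by norm_num), hf.pres 128 (by norm_num), hf.bn_eq (by norm_num) (by norm_num),
    show qn 64 = false by decide +kernel, show qn 128 = false by decide +kernel,
    show bn 64 128 = true by decide +kernel] at key
  simp only [Bool.false_or, Bool.not_true, Bool.or_eq_true, Bool.and_eq_true, List.contains_iff_mem] at key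
  have hrad : ∀ r ∈ rb, f r ∈ rb := by
    intro r hr
    obtain ⟨hr1, -, hr3⟩ := rb_spec r hr
    have hrl := (fb_spec r hr1).1
    have e64 : bn (f r) (f 64) = false := (hf.bn_eq hrl (by norm_num)).trans (hr3 64 h64)
    have e128 : bn (f r) (f 128) = false := (hf.bn_eq hrl (by norm_num)).trans (hr3 128 h128)
    have hl := hf.lt r hrl
    have hkey : ∀ a, ∀ s ∈ rb, a ∈ [64, 128] → bn (f r) (a ^^^ s) = false → bn (f r) a = false := by
      intro a s hs ha h
      have hs' := (rb_spec s hs)
      have hal : a < 256 := by simp at ha; omega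
      rw [bn_add hl hal (fb_spec s hs'.1).1, bn_comm (f r) s, hs'.2.2 _ (hF r hr1), Bool.xor_false] at h
      exact h
    have k2 : bn (f r) 64 = false ∧ bn (f r) 128 = false := by
      rcases key with ⟨e1, e2⟩ | ⟨e1, e2⟩
      · refine ⟨hkey 64 _ e1 (by simp) ?_, hkey 128 _ e2 (by simp) ?_⟩
        · rwa [Nat.xor_comm (f 64), ← Nat.xor_assoc, Nat.xor_self, Nat.zero_xor]
        · rwa [Nat.xor_comm (f 128), ← Nat.xor_assoc, Nat.xor_self, Nat.zero_xor]
      · refine ⟨hkey 64 _ e2 (by simp) ?_, hkey 128 _ e1 (by simp) ?_⟩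
        · rwa [Nat.xor_comm (f 128), ← Nat.xor_assoc, Nat.xor_self, Nat.zero_xor]
        · rwa [Nat.xor_comm (f 64), ← Nat.xor_assoc, Nat.xor_self, Nat.zero_xor]
    have := List.all_eq_true.1 rad_b _ (hF r hr1)
    simpa [k2.1, k2.2] using this
  have hback : ∀ {a b : ℕ}, a < 256 → f a ^^^ b ∈ rb → b < 256 → f b ^^^ a ∈ rb → f (f a) ^^^ a ∈ rb := by
    intro a b ha e hb e'
    have hfa : f a = b ^^^ (f a ^^^ b) := by
      rw [Nat.xor_comm (f a), ← Nat.xor_assoc, Nat.xor_self, Nat.zero_xor]
    rw [hfa, hf.add b hb _ (fb_spec _ (rb_spec _ e).1).1, Nat.xor_assoc, Nat.xor_comm (f _) a,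
      ← Nat.xor_assoc]
    exact rb_xor _ e' _ (hrad _ e)
  refine ⟨hrad, fun a ha => ?_⟩
  simp only [List.mem_cons, List.not_mem_nil, or_false] at ha
  rcases key with ⟨e1, e2⟩ | ⟨e1, e2⟩ <;> rcases ha with rfl | rfl
  · exact hback (by norm_num) e1 (by norm_num) e1
  · exact hback (by norm_num) e2 (by norm_num) e2
  · exact hback (by norm_num) e1 (by norm_num) e2
  · exact hback (by norm_num) e2 (by norm_num) e1

end Cfsg.Agent.Lib.Co1Type31
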