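import Cfsg.Agent.Lib.Co1Type31.Local
import Cfsg.Agent.Lib.Co1Type31.DataB

/-!
# Conway type: a Sylow two-subgroup of the centraliser of the product with parameters `4, 16`

It lies in `C(z)`, so the product is not conjugate to `z`.

Owner: helper31.
-/

set_option autoImplicit false
set_option maxRecDepth 100000

namespace Cfsg.Agent.Lib.Co1Type31

variable {G : Type*} [Group G]

namespace Duo

variable {z : G} {Q : Subgroup G} {co : G → ℕ} {ac : G → ℕ → ℕ} {x n : G}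
  (d : Duo z Q co ac x n) {b : G}
include d

theorem fb_of_comm (hb : Form Q co ac n z b 4 16) {q : G} (hq : q ∈ Q) (hqb : Commute q b) :
    InA Q co q ∧ co q ∈ fb := by
  obtain ⟨hbz, hbk⟩ := d.form_commute hb
  have hlt := d.fr.co_lt q hq
  have e := d.fr.conj b hbz q hq
  rw [mul_inv_eq_iff_eq_mul.2 hqb.eq.symm, hbk _ hlt] at e
  obtain ⟨h1, h4⟩ := eich4_fix _ hlt e.symm
  have ha : (4 : ℕ) ∈ w6 := by decide +kernel
  have e2 := d.form_wconj ha hb ⟨hq, h1⟩
  rw [mul_inv_eq_iff_eq_mul.2 hqb.eq, h4, Bool.false_xor, eq_comm, mul_eq_left, ← d.ee_zero] at e2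
  have h16 := (d.ee_inj e2).2
  refine ⟨⟨hq, h1⟩, ?_⟩
  have := List.all_eq_true.1 fb_cover _ (mem_all8.2 hlt)
  simpa [h1, h4, h16] using this

theorem comm_of_fb (hb : Form Q co ac n z b 4 16) {q : G} (hq : q ∈ Q) (hk : co q ∈ fb) : Commute q b := by
  obtain ⟨-, h1, h4, h16⟩ := fb_spec _ hk
  have e := d.form_wconj (by decide +kernel : (4 : ℕ) ∈ w6) hb ⟨hq, h1⟩
  rw [h4, h16, Bool.xor_false, d.ee_zero, mul_one] at e
  exact mul_inv_eq_iff_eq_mul.1 e

variable [Finite G]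

omit [Finite G] in
/-- A lift commuting with the product. -/
theorem lift_b (hb : Form Q co ac n z b 4 16) (hb2 : b * b = 1) {g : G} (hg : Commute g z)
    (hcomm : ∀ k < 256, ac g (eich 4 k) = eich 4 (ac g k))
    (hlb : ∀ k ∈ lb, bn 16 (ac g k) = bn 16 k) : ∃ q ∈ Q, Commute (g * q) b := by
  obtain ⟨hbz, hbk⟩ := d.form_commute hb
  have ha : (4 : ℕ) ∈ w6 := by decide +kernel
  set t := g⁻¹ * b * g with ht
  have htz : Commute t z := (hg.inv_left.mul_left hbz).mul_left hg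
  have ht2 : t * t = 1 := by
    calc t * t = g⁻¹ * (b * b) * g := by rw [ht]; group
      _ = 1 := by rw [hb2]; group
  obtain ⟨v, hv, hF, -, -⟩ := d.form_of_act ha (by norm_num) htz ht2 fun k hk => by
    rw [ht, d.fr.ac_mul (hg.inv_left.mul_left hbz) hg hk, d.fr.ac_mul hg.inv_left hbz (d.fr.ac_lt hg hk),
      hbk _ (d.fr.ac_lt hg hk), ← hcomm k hk, d.fr.ac_inv hg (eich_lt ha hk)]
  have hvk : ∀ k ∈ lb, bn v k = bn 16 k := by
    intro k hk
    obtain ⟨hkl, hk1, hk4⟩ := lb_spec k hk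
    obtain ⟨r, hr, rfl⟩ := d.fr.co_surj k hkl
    have e1 := d.form_wconj ha hF ⟨hr, hk1⟩
    have hm := d.fr.norm g hg r hr
    have hco := d.fr.conj g hg r hr
    have hfix : eich 4 (ac g (co r)) = ac g (co r) := by
      rw [← hcomm _ hkl, eich_trivial hk1, hk4]
      rfl
    obtain ⟨g1, g4⟩ := eich4_fix _ (d.fr.ac_lt hg hkl) hfix
    have e2 := d.form_wconj ha hb (show InA Q co (g * r * g⁻¹) from ⟨hm, by rw [hco]; exact g1⟩)
    rw [hco, g4, hlb _ hk, Bool.false_xor] at e2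
    rw [hk4] at e1
    have e3 : r * t * r⁻¹ = t * ee z x false (bn 16 (co r)) := by
      have h3 : g⁻¹ * ee z x false (bn 16 (co r)) * g = ee z x false (bn 16 (co r)) := by
        cases bn 16 (co r)
        · simp [ee, pw]
        · simp only [ee, pw, cond_false, cond_true, one_mul]
          rw [mul_assoc, ← hg.eq, inv_mul_cancel_left]
      calc r * t * r⁻¹ = g⁻¹ * ((g * r * g⁻¹) * b * (g * r * g⁻¹)⁻¹) * g := by rw [ht]; group
        _ = t * (g⁻¹ * ee z x false (bn 16 (co r)) * g) := by rw [e2, ht]; group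
        _ = _ := by rw [h3]
    rw [Bool.false_xor] at e1
    exact (d.ee_inj (mul_left_cancel (e1.symm.trans e3))).2
  obtain ⟨s, hs, hsz, hF'⟩ : ∃ s ∈ Q, Commute s z ∧ Form Q co ac n z (s * t * s⁻¹) 4 16 := by
    have := List.all_eq_true.1 v_cases_b v hv
    simp only [Bool.or_eq_true, List.any_eq_true] at this
    rcases this with (e | e) | ⟨k, hk, e⟩
    · refine ⟨1, one_mem Q, Commute.one_left z, ?_⟩
      rw [Nat.eq_of_beq_eq_true e] at hF
      simpa using hF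
    · obtain ⟨q, hq, hq2⟩ := d.fr.co_surj 2 (by norm_num)
      rw [Nat.eq_of_beq_eq_true e] at hF
      exact ⟨q, hq, d.fr.es.comm q hq, d.form_shift ha hF hq hq2⟩
    · rw [hvk k hk] at e
      simp at e
  obtain ⟨w, hw, hwb⟩ := d.form_unique ha sep_b hF' hb
  refine ⟨(w * s)⁻¹, inv_mem (mul_mem hw.1 hs), mul_inv_eq_iff_eq_mul.1 ?_⟩
  calc g * (w * s)⁻¹ * b * (g * (w * s)⁻¹)⁻¹
      = g * ((w * s)⁻¹ * (w * (s * t * s⁻¹) * w⁻¹) * (w * s)) * g⁻¹ := by rw [hwb]; group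
    _ = b := by rw [ht]; group

/-- Elements of the coded Sylow subgroup have representatives commuting with the product. -/
theorem lift_sylU (hb : Form Q co ac n z b 4 16) (hb2 : b * b = 1) {s : G} (hs : s ∈ d.fr.sylU) :
    ∃ q ∈ Q, s * q ∈ d.fr.sylU ∧ Commute (s * q) b := by
  obtain ⟨hsz, i, hi, ei⟩ := hs
  have h4 : (4 : ℕ) ∈ w6 := by decide +kernel
  obtain ⟨q, hq, hqb⟩ := d.lift_b hb hb2 hsz
    (fun k hk => by rw [ei _ (eich_lt h4 hk), ei k hk, (uel_b hi hk).1])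
    fun k hk => by
      obtain ⟨hkl, hk1, hk4⟩ := lb_spec k hk
      rw [ei k hkl, (uel_b hi hkl).2 (by rw [eich_trivial hk1, hk4]; rfl)]
  exact ⟨q, hq, mul_mem ⟨hsz, i, hi, ei⟩ (d.fr.Q_le_sylU hq), hqb⟩

/-- The two-subgroup of `C(z) ∩ C(b)` over the coded Sylow subgroup. -/
def sylB (b : G) : Subgroup G := d.fr.sylU ⊓ Subgroup.centralizer ({b} : Set G)

theorem mem_sylB {a : G} : a ∈ d.sylB b ↔ a ∈ d.fr.sylU ∧ Commute a b :=
  ⟨fun h => ⟨h.1, Subgroup.mem_centralizer_singleton_iff.1 h.2⟩,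
    fun h => ⟨h.1, Subgroup.mem_centralizer_singleton_iff.2 h.2.eq⟩⟩

theorem sylB_max (hb : Form Q co ac n z b 4 16) (hb2 : b * b = 1) {J : Subgroup G} (hJ : IsPGroup 2 J)
    (hJc : ∀ a ∈ J, Commute a z ∧ Commute a b) (hle : d.sylB b ≤ J) : J = d.sylB b := by
  have hQ2 : IsPGroup 2 Q := IsPGroup.of_card (n := 9) (by rw [d.fr.card]; norm_num)
  have hJQ : IsPGroup 2 (J ⊔ Q : Subgroup G) := by
    refine hJ.to_sup_of_normal_right' hQ2 fun a ha => ?_
    refine Subgroup.mem_normalizer_iff.2 fun q => ⟨d.fr.norm a (hJc a ha).1 q, fun h => ?_⟩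
    have := d.fr.norm a⁻¹ (hJc a ha).1.inv_left _ h
    simpa [mul_assoc] using this
  have he := d.fr.eq_sylU hJQ (sup_le (fun a ha => Subgroup.mem_centralizer_singleton_iff.2 (hJc a ha).1.eq)
      (fun q hq => Subgroup.mem_centralizer_singleton_iff.2 (d.fr.es.comm q hq).eq)) fun s hs => by
    obtain ⟨q, hq, hsq, hqb⟩ := d.lift_sylU hb hb2 hs
    have := mul_mem (Subgroup.mem_sup_left (T := Q) (hle (d.mem_sylB.2 ⟨hsq, hqb⟩)))
      (Subgroup.mem_sup_right (S := J) (inv_mem hq))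
    rwa [mul_inv_cancel_right] at this
  exact le_antisymm (fun a ha => d.mem_sylB.2 ⟨he ▸ Subgroup.mem_sup_left ha, (hJc a ha).2⟩) hle

theorem sylB_isPGroup : IsPGroup 2 (d.sylB b) := d.fr.sylU_isPGroup.to_le inf_le_left

theorem sylB_mem (hb : Form Q co ac n z b 4 16) : b ∈ d.sylB b := by
  obtain ⟨hbz, hbk⟩ := d.form_commute hb
  refine d.mem_sylB.2 ⟨⟨hbz, 1, by norm_num, fun k hk => (hbk k hk).trans ?_⟩, Commute.refl b⟩
  exact (eich_lin (by norm_num)).ext (uel_lin (by norm_num)) (by decide +kernel) k hk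

theorem sylB_card_lt (hb : Form Q co ac n z b 4 16) : Nat.card (d.sylB b) < 2 ^ 21 := by
  rw [← d.fr.sylU_card]
  refine lt_of_le_of_ne (Subgroup.card_le_of_le inf_le_left) fun e => ?_
  have he : d.sylB b = d.fr.sylU := Subgroup.eq_of_le_of_card_ge inf_le_left e.ge
  obtain ⟨q, hq, hq32⟩ := d.fr.co_surj 32 (by norm_num)
  have hmem : q ∈ d.sylB b := he.symm ▸ d.fr.Q_le_sylU hq
  have := (d.fb_of_comm hb hq (d.mem_sylB.1 hmem).2).2
  rw [hq32] at this
  exact absurd this (by decide)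

/-- The central involutions. -/
theorem sylB_center (hb : Form Q co ac n z b 4 16) (hb2 : b * b = 1) {y : G} (hy : y ∈ d.sylB b)
    (hyc : ∀ a ∈ d.sylB b, Commute y a) : ∃ j, y = pw z j ∨ y = b * pw z j := by
  obtain ⟨⟨hyz, i, hi, ei⟩, hyb⟩ := d.mem_sylB.1 hy
  have hgen : ∀ j ∈ gens, ∃ s ∈ d.sylB b, ∀ k < 256, ac s k = uel j k := by
    intro j hj
    have hj' : j < 4096 := gens_lt j hj
    obtain ⟨c, hc, hck⟩ := d.fr.exists_uel hj'
    obtain ⟨q, hq, hcq, hqb⟩ := d.lift_sylU hb hb2 (s := c) ⟨hc, j, hj', hck⟩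
    exact ⟨_, d.mem_sylB.2 ⟨hcq, hqb⟩, fun k hk => by
      rw [d.fr.ac_mul hc (d.fr.es.comm q hq) hk, d.fr.ac_Q hq hk, hck k hk]⟩
  -- a flip in the subgroup
  obtain ⟨h, hhz, hhb, hhx, hhk, -⟩ := d.exists_flip (p := (48, 52)) (by decide +kernel) (by decide +kernel)
    (by decide +kernel) (by decide +kernel) sep_b hb
  have hh : h ∈ d.sylB b := d.mem_sylB.2 ⟨⟨hhz, 192, by norm_num, fun k hk => (hhk k hk).trans
    ((pr_lin (by norm_num) (by norm_num)).ext (uel_lin (by norm_num)) (by decide +kernel) k hk)⟩, hhb⟩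
  -- the elements of `Q` central in the subgroup
  have hQc : ∀ {w : G}, w ∈ Q → (∀ a ∈ d.sylB b, Commute w a) → ∃ j, w = pw z j := by
    intro w hw hwc
    have hk := List.all_eq_true.1 fixed_uel _ (mem_all8.2 (d.fr.co_lt w hw))
    simp only [Bool.or_eq_true, List.any_eq_true] at hk
    rcases hk with hk | ⟨j, hj, hk⟩
    · obtain ⟨i, j, rfl⟩ := d.exists_ee hw
        (hk.imp Nat.eq_of_beq_eq_true Nat.eq_of_beq_eq_true)
      have e := d.ee_flip hhz hhx i j
      rw [mul_inv_eq_iff_eq_mul.2 (hwc h hh).eq.symm] at e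
      have := (d.ee_inj e).2
      cases i
      · exact ⟨j, one_mul _⟩
      · cases j <;> cases this
    · exfalso
      obtain ⟨s, hs, hsk⟩ := hgen j hj
      have hsz : Commute s z := (d.mem_sylB.1 hs).1.1
      have e := d.fr.conj s hsz w hw
      rw [mul_inv_eq_iff_eq_mul.2 (hwc s hs).eq.symm, hsk _ (d.fr.co_lt w hw)] at e
      rw [← e, Nat.beq_refl] at hk
      simp at hk
  have hk := List.all_eq_true.1 center_uel i (List.mem_range.2 hi)
  simp only [Bool.or_eq_true, List.any_eq_true] at hk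
  rcases hk with (hk | hk) | ⟨j, hj, hk⟩
  · obtain rfl := Nat.eq_of_beq_eq_true hk
    obtain ⟨j, e⟩ := hQc (d.fr.faithful y hyz fun k hk => (ei k hk).trans (uel_zero hk)) hyc
    exact ⟨j, Or.inl e⟩
  · obtain rfl := Nat.eq_of_beq_eq_true hk
    obtain ⟨hbz, hbk⟩ := d.form_commute hb
    have hby : b * y ∈ Q := d.fr.faithful _ (hbz.mul_left hyz) fun k hk => by
      have h4 : (4 : ℕ) ∈ w6 := by decide +kernel
      rw [d.fr.ac_mul hbz hyz hk, ei k hk, hbk _ ((uel_lin (by norm_num)).lt k hk),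
        ← (eich_lin (by norm_num : (4 : ℕ) < 256)).ext (uel_lin (by norm_num)) (by decide +kernel) k hk,
        eich_self h4 hk]
    obtain ⟨j, e⟩ := hQc hby fun a ha => ((d.mem_sylB.1 ha).2.symm).mul_left (hyc a ha)
    exact ⟨j, Or.inr (by rw [← e, ← mul_assoc, hb2, one_mul])⟩
  · exfalso
    obtain ⟨s, hs, hsk⟩ := hgen j hj
    have hsz : Commute s z := (d.mem_sylB.1 hs).1.1
    have hj' : j < 4096 := gens_lt j hj
    have : agree (fun k => uel i (uel j k)) (fun k => uel j (uel i k)) = true :=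
      List.all_eq_true.2 fun k hk' => by
        have hk8 := bits8_lt k hk'
        show Nat.beq (uel i (uel j k)) (uel j (uel i k)) = true
        rw [← hsk k hk8, ← ei k hk8, ← ei _ (d.fr.ac_lt hsz hk8), ← hsk _ (d.fr.ac_lt hyz hk8),
          ← d.fr.ac_mul hyz hsz hk8, ← d.fr.ac_mul hsz hyz hk8, (hyc s hs).eq]
        exact Nat.beq_refl _
    rw [this] at hk
    simp at hk

/-- The subgroup is a Sylow two-subgroup of `C(b)`. -/
theorem sylB_top (hb : Form Q co ac n z b 4 16) (hb2 : b * b = 1) {S : Subgroup G} (hS : IsPGroup 2 S)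
    (hSb : ∀ a ∈ S, Commute a b) : Nat.card S ≤ Nat.card (d.sylB b) := by
  by_contra hlt
  obtain ⟨hbz, hbk⟩ := d.form_commute hb
  obtain ⟨g, hgb, hgne, hgT, -⟩ := exists_moved (z := z) (fun a ha => (d.mem_sylB.1 ha).1.1)
    (fun a ha => (d.mem_sylB.1 ha).2) d.sylB_isPGroup hS hSb (not_le.1 hlt)
    fun J hJ hJc hle => d.sylB_max hb hb2 hJ hJc hle
  have hzT : z ∈ d.sylB b := d.mem_sylB.2 ⟨d.fr.Q_le_sylU d.fr.es.mem, hbz.symm⟩
  have hcen : ∀ a ∈ d.sylB b, Commute (g * z * g⁻¹) a := by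
    intro a ha
    have hfin : ∃ a' ∈ d.sylB b, g * a' * g⁻¹ = a := by
      have hinj : Function.Injective fun a' : d.sylB b => (⟨g * a' * g⁻¹, hgT _ a'.2⟩ : d.sylB b) :=
        fun u v e => Subtype.ext (by simpa using congrArg Subtype.val e)
      obtain ⟨a', e⟩ := (Finite.injective_iff_surjective.1 hinj) ⟨a, ha⟩
      exact ⟨a', a'.2, congrArg Subtype.val e⟩
    obtain ⟨a', ha', rfl⟩ := hfin
    simpa using (d.mem_sylB.1 ha').1.1.symm.map (MulAut.conj g).toMonoidHom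
  obtain ⟨j, hj⟩ := d.sylB_center hb hb2 (hgT z hzT) hcen
  have hgz : g * z * g⁻¹ = b * z := by
    rcases hj with hj | hj <;> cases j
    · exact absurd hj (by simpa [pw] using d.fr.es.ne)
    · exact absurd hj hgne
    · exfalso
      simp only [pw, cond_false, mul_one] at hj
      have e : z = b := by
        calc z = g⁻¹ * (g * z * g⁻¹) * g := by group
          _ = b := by rw [hj, mul_assoc, ← hgb.eq, inv_mul_cancel_left]
      have := (d.form_commute hb).2 2 (by norm_num)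
      rw [← e, d.fr.ac_Q d.fr.es.mem (by norm_num)] at this
      exact absurd this (by decide +kernel)
    · exact hj
  -- `g` normalises `C(z) ∩ C(b)`
  have hH : ∀ a, Commute a z → Commute a b →
      Commute (g * a * g⁻¹) z ∧ Commute (g * a * g⁻¹) b ∧ Commute (g⁻¹ * a * g) z ∧
        Commute (g⁻¹ * a * g) b := fun a haz hab =>
    have h := d.pair_norm hb2 hgb hgz haz hab
    ⟨h.1.1, h.1.2, h.2.1, h.2.2⟩
  -- the normal subgroup lies in the subgroup
  set N := (Q ⊓ Subgroup.centralizer ({b} : Set G)).map (MulAut.conj g).toMonoidHom with hN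
  have hNmem : ∀ {q}, q ∈ Q → Commute q b → g * q * g⁻¹ ∈ N := fun hq hqb =>
    ⟨_, ⟨hq, Subgroup.mem_centralizer_singleton_iff.2 hqb.eq⟩, rfl⟩
  have hNc : ∀ a ∈ N, Commute a z ∧ Commute a b := by
    rintro _ ⟨q, ⟨hq, hqb⟩, rfl⟩
    have := hH q (d.fr.es.comm q hq) (Subgroup.mem_centralizer_singleton_iff.1 hqb)
    exact ⟨this.1, this.2.1⟩
  have hnorm : ∀ a ∈ d.sylB b, ∀ u ∈ N, a * u * a⁻¹ ∈ N := by
    rintro a ha _ ⟨q, ⟨hq, hqb⟩, rfl⟩
    obtain ⟨haU, hab⟩ := d.mem_sylB.1 ha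
    obtain ⟨-, -, h3, h4⟩ := hH a haU.1 hab
    have hqb' : Commute q b := Subgroup.mem_centralizer_singleton_iff.1 hqb
    have e : a * (MulAut.conj g).toMonoidHom q * a⁻¹ =
        g * ((g⁻¹ * a * g) * q * (g⁻¹ * a * g)⁻¹) * g⁻¹ := by
      simp only [MulEquiv.coe_toMonoidHom, MulAut.conj_apply]; group
    rw [e]
    refine hNmem (d.fr.norm _ h3 q hq) ?_
    have := hqb'.map (MulAut.conj (g⁻¹ * a * g)).toMonoidHom
    simp only [MulEquiv.coe_toMonoidHom, MulAut.conj_apply, mul_inv_eq_iff_eq_mul.2 h4.eq] at this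
    exact this
  have hJ : IsPGroup 2 (d.sylB b ⊔ N : Subgroup G) := by
    have hQ2 : IsPGroup 2 Q := IsPGroup.of_card (n := 9) (by rw [d.fr.card]; norm_num)
    refine d.sylB_isPGroup.to_sup_of_normal_right' ((hQ2.to_le inf_le_left).map _) fun a ha => ?_
    refine Subgroup.mem_normalizer_iff.2 fun u => ⟨hnorm a ha u, fun h => ?_⟩
    have := hnorm a⁻¹ (inv_mem ha) _ h
    simpa [mul_assoc] using this
  have hNT : N ≤ d.sylB b := by
    refine le_sup_right.trans_eq (d.sylB_max hb hb2 hJ (fun a ha => ?_) le_sup_left)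
    have hle : d.sylB b ⊔ N ≤ Subgroup.centralizer ({z} : Set G) ⊓ Subgroup.centralizer ({b} : Set G) :=
      sup_le (fun a ha => ⟨d.fr.sylU_le ha.1, ha.2⟩) fun a ha =>
        ⟨Subgroup.mem_centralizer_singleton_iff.2 (hNc a ha).1.eq,
          Subgroup.mem_centralizer_singleton_iff.2 (hNc a ha).2.eq⟩
    exact ⟨Subgroup.mem_centralizer_singleton_iff.1 (hle ha).1,
      Subgroup.mem_centralizer_singleton_iff.1 (hle ha).2⟩
  -- an element of order three and its fixed elements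
  obtain ⟨hok, hsw4, hswb, hsw6⟩ := sw_b
  have hL := prs_lin hok
  have h4 : (4 : ℕ) ∈ w6 := by decide +kernel
  obtain ⟨c, hc, hck⟩ := d.fr.exists_prs hok
  obtain ⟨q, hq, hcqb⟩ := d.lift_b hb hb2 hc (fun k hk => by
      rw [hck _ (eich_lt h4 hk), hck k hk]
      exact (hL.comp (eich_lin (by norm_num))).ext ((eich_lin (by norm_num)).comp hL) hsw4 k hk)
    fun k hk => by
      rw [hck k (lb_spec k hk).1]
      exact beq_iff_eq.1 (List.all_eq_true.1 hswb k hk)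
  set h := c * q with hh
  have hhz : Commute h z := hc.mul_left (d.fr.es.comm q hq)
  have hhk : ∀ k < 256, ac h k = prs sw k := fun k hk => by
    rw [hh, d.fr.ac_mul hc (d.fr.es.comm q hq) hk, d.fr.ac_Q hq hk, hck k hk]
  obtain ⟨-, -, hsz, hsb⟩ := hH h hhz hcqb
  set s := g⁻¹ * h * g with hs
  have hsF : ∀ k ∈ fb, ac s k ∈ fb := by
    intro k hk
    obtain ⟨r, hr, rfl⟩ := d.fr.co_surj k (fb_spec k hk).1
    rw [← d.fr.conj s hsz r hr]
    refine (d.fb_of_comm hb (d.fr.norm s hsz r hr) ?_).2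
    simpa [mul_inv_eq_iff_eq_mul.2 hsb.eq] using (d.comm_of_fb hb hr hk).map (MulAut.conj s).toMonoidHom
  obtain ⟨hrad, htw⟩ := twist_b (d.fr.iso hsz) hsF
  set φ : G → G := fun q => s * (s * q * s⁻¹) * s⁻¹ with hφ
  have hφQ : ∀ {q}, q ∈ Q → φ q ∈ Q ∧ co (φ q) = ac s (ac s (co q)) := fun {q} hq => by
    have h1 := d.fr.norm s hsz q hq
    exact ⟨d.fr.norm s hsz _ h1, by rw [hφ, d.fr.conj s hsz _ h1, d.fr.conj s hsz q hq]⟩
  have hφm : ∀ q q', φ (q * q') = φ q * φ q' := fun q q' => by simp only [hφ]; group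
  have hφrb : ∀ {q}, q ∈ Q → co q ∈ rb → φ q ∈ Q ∧ co (φ q) ∈ rb := fun hq hk =>
    ⟨(hφQ hq).1, (hφQ hq).2 ▸ hrad _ (hrad _ hk)⟩
  have hfix : ∀ a ∈ [64, 128], ∃ p ∈ Q, Commute p b ∧ co p ^^^ a ∈ rb ∧
      ∀ k < 256, prs sw (prs sw (ac (g * p * g⁻¹) k)) = ac (g * p * g⁻¹) (prs sw (prs sw k)) := by
    intro a ha
    have hal : a < 256 := by simp at ha; omega
    have haf : a ∈ fb := by simp at ha; rcases ha with rfl | rfl <;> decide
    obtain ⟨r, hr, hra⟩ := d.fr.co_surj a hal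
    obtain ⟨hφr, hφrc⟩ := hφQ hr
    set γ := r⁻¹ * φ r with hγ
    have hγQ : γ ∈ Q := mul_mem (inv_mem hr) hφr
    have hγc : co γ ∈ rb := by
      rw [hγ, d.fr.co_mul _ (inv_mem hr) _ hφr, d.fr.co_inv hr, hφrc, hra, Nat.xor_comm]
      exact htw a ha
    obtain ⟨hδQ, hδc⟩ := hφrb hγQ hγc
    obtain ⟨hεQ, hεc⟩ := hφrb hδQ hδc
    set δ := φ γ with hδ
    set ε := φ δ with hε
    have hpQ : r * δ ∈ Q := mul_mem hr hδQ
    have hpc : co (r * δ) ^^^ a = co δ := by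
      rw [d.fr.co_mul r hr δ hδQ, hra, Nat.xor_comm a, Nat.xor_assoc, Nat.xor_self, Nat.xor_zero]
    have hpb : Commute (r * δ) b :=
      (d.comm_of_fb hb hr (hra.symm ▸ haf)).mul_left (d.comm_of_fb hb hδQ (rb_spec _ hδc).1)
    refine ⟨r * δ, hpQ, hpb, hpc.symm ▸ hδc, fun k hk => ?_⟩
    set P := g * (r * δ) * g⁻¹ with hP
    have hPT : P ∈ d.sylB b := hNT (hNmem hpQ hpb)
    have hPz : Commute P z := (d.mem_sylB.1 hPT).1.1
    have hnz : Commute (g * r * g⁻¹) z :=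
      (d.mem_sylB.1 (hNT (hNmem hr (d.comm_of_fb hb hr (hra.symm ▸ haf))))).1.1
    -- `ε γ δ` is the commutator with a cube
    have hδγ : Commute δ γ := (d.fr.commute_Q hδQ hγQ).2 ((rb_spec _ hδc).2.2 _ (rb_spec _ hγc).1)
    have hδ2 : δ * δ = 1 := by rw [d.fr.sq δ hδQ, (rb_spec _ hδc).2.1]; rfl
    have hφ1 : φ r = r * γ := by rw [hγ]; group
    have hφp : φ (r * δ) = r * δ * (γ * δ * ε) := by
      calc φ (r * δ) = φ r * ε := by rw [hφm, ← hε]
        _ = r * (δ * δ) * γ * ε := by rw [hφ1, hδ2, mul_one]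
        _ = r * δ * (δ * γ) * ε := by group
        _ = r * δ * (γ * δ) * ε := by rw [hδγ.eq]
        _ = _ := by group
    have h2 : φ (φ r) = r * (γ * δ) :=
      calc φ (φ r) = φ (r * γ) := congrArg φ hφ1
        _ = φ r * δ := hφm r γ
        _ = _ := by rw [hφ1, mul_assoc]
    have h3 : φ (φ (φ r)) = r * (γ * δ * ε) :=
      calc φ (φ (φ r)) = φ (r * (γ * δ)) := congrArg φ h2
        _ = φ r * φ (γ * δ) := hφm r (γ * δ)
        _ = φ r * (δ * ε) := congrArg (φ r * ·) (hφm γ δ)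
        _ = _ := by rw [hφ1]; group
    set θ := h * h with hθ
    have hθz : Commute θ z := hhz.mul_left hhz
    have hθg : ∀ q, θ * (g * q * g⁻¹) * θ⁻¹ = g * φ q * g⁻¹ := fun q => by
      simp only [hφ, hθ, hs]; group
    have hθk : ∀ k < 256, ac θ k = prs sw (prs sw k) := fun k hk => by
      rw [hθ, d.fr.ac_mul hhz hhz hk, hhk k hk, hhk _ (hL.lt k hk)]
    have hθ3 : θ * θ * θ ∈ Q := d.fr.faithful _ ((hθz.mul_left hθz).mul_left hθz) fun k hk => by
      rw [d.fr.ac_mul (hθz.mul_left hθz) hθz hk, hθk k hk,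
        d.fr.ac_mul hθz hθz (hL.lt _ (hL.lt k hk)), hθk _ (hL.lt _ (hL.lt k hk)),
        hθk _ (hL.lt _ (hL.lt _ (hL.lt _ (hL.lt k hk))))]
      exact (hL.comp (hL.comp (hL.comp (hL.comp (hL.comp hL))))).ext Lin8.id' hsw6 k hk
    have hcube : g * (γ * δ * ε) * g⁻¹ ∈ Q := by
      have e : g * (γ * δ * ε) * g⁻¹ =
          ((g * r * g⁻¹)⁻¹ * (θ * θ * θ) * (g * r * g⁻¹)⁻¹⁻¹) * (θ * θ * θ)⁻¹ := by
        calc g * (γ * δ * ε) * g⁻¹ = (g * r * g⁻¹)⁻¹ * (g * φ (φ (φ r)) * g⁻¹) := by rw [h3]; group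
          _ = (g * r * g⁻¹)⁻¹ * (θ * (θ * (θ * (g * r * g⁻¹) * θ⁻¹) * θ⁻¹) * θ⁻¹) := by
              rw [hθg, hθg, hθg]
          _ = _ := by group
      rw [e]
      exact mul_mem (d.fr.norm _ hnz.inv_left _ hθ3) (inv_mem hθ3)
    have hθP : θ * P * θ⁻¹ = P * (g * (γ * δ * ε) * g⁻¹) := by
      rw [hP, hθg, hφp]; group
    have e := congrArg (fun w => ac w (prs sw (prs sw k))) hθP
    have hl2 := hL.lt _ (hL.lt k hk)
    simp only [d.fr.ac_conj hPz hθz hl2, d.fr.ac_mul hPz (d.fr.es.comm _ hcube) hl2,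
      d.fr.ac_Q hcube hl2] at e
    rw [← hθk k hk, d.fr.ac_inv hθz hk, hθk _ (d.fr.ac_lt hPz hk)] at e
    rw [e, ← hθk k hk]
  obtain ⟨p, hp, hpb, hpc, hp3⟩ := hfix 64 (by simp)
  obtain ⟨p', hp', hpb', hpc', hp3'⟩ := hfix 128 (by simp)
  set P := g * p * g⁻¹ with hP
  set P' := g * p' * g⁻¹ with hP'
  have hidx : ∀ {u : G}, u ∈ d.sylB b → (∀ k < 256, prs sw (prs sw (ac u k)) = ac u (prs sw (prs sw k))) →
      ∃ i ∈ cs, i < 4096 ∧ ∀ k < 256, ac u k = uel i k := by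
    intro u hu hcomm
    obtain ⟨⟨huz, i, hi, ei⟩, -⟩ := d.mem_sylB.1 hu
    refine ⟨i, ?_, hi, ei⟩
    have := List.all_eq_true.1 cs_cover i (List.mem_range.2 hi)
    have hs3 : ∀ k < 256, prs sw (prs sw k) = s3 k := fun k hk =>
      Nat.eq_of_beq_eq_true (List.all_eq_true.1 s3_eq k (mem_all8.2 hk))
    rw [show ([2, 8, 32, 4, 16, 64, 128, 1].all fun k => Nat.beq (uel i (s3 k)) (s3 (uel i k))) = true from
      List.all_eq_true.2 fun k hk => by
        have hk8 : k < 256 := by simp at hk; omega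
        show Nat.beq (uel i (s3 k)) (s3 (uel i k)) = true
        rw [← hs3 k hk8, ← hs3 _ ((uel_lin hi).lt k hk8), ← ei k hk8, hcomm k hk8,
          ei _ (hL.lt _ (hL.lt k hk8))]
        exact Nat.beq_refl _, Bool.not_true, Bool.or_false, List.contains_iff_mem] at this
    exact this
  have hPT : P ∈ d.sylB b := hNT (hNmem hp hpb)
  have hPT' : P' ∈ d.sylB b := hNT (hNmem hp' hpb')
  obtain ⟨i, hic, hi, ei⟩ := hidx hPT hp3
  obtain ⟨j, hjc, hj, ej⟩ := hidx hPT' hp3'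
  have hPz := (d.mem_sylB.1 hPT).1.1
  have hPz' := (d.mem_sylB.1 hPT').1.1
  have hsame : ∀ k < 256, ac (P * P') k = ac (P' * P) k := fun k hk => by
    rw [d.fr.ac_mul hPz hPz' hk, d.fr.ac_mul hPz' hPz hk, ej k hk, ei _ ((uel_lin hj).lt k hk), ei k hk,
      ej _ ((uel_lin hi).lt k hk)]
    exact ((uel_lin hi).comp (uel_lin hj)).ext ((uel_lin hj).comp (uel_lin hi))
      (List.all_eq_true.1 (List.all_eq_true.1 cs_comm i hic) j hjc) k hk
  have hbn : bn (co p) (co p') = true := by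
    have key : ∀ r ∈ rb, ∀ r' ∈ rb, bn (64 ^^^ r) (128 ^^^ r') = true := by decide +kernel
    have := key _ hpc _ hpc'
    rwa [Nat.xor_comm (co p), ← Nat.xor_assoc, Nat.xor_self, Nat.zero_xor, Nat.xor_comm (co p'),
      ← Nat.xor_assoc, Nat.xor_self, Nat.zero_xor] at this
  have hcz : P * P' = P' * P * (b * z) := by
    have e := d.fr.comm_Q hp hp'
    rw [hbn] at e
    calc P * P' = g * ((p * p' * p⁻¹) * p) * g⁻¹ := by rw [hP, hP']; group
      _ = g * (p' * (p * z)) * g⁻¹ := by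
        rw [e, pw, cond_true, mul_assoc p', (d.fr.es.comm p hp).eq]
      _ = P' * P * (g * z * g⁻¹) := by rw [hP, hP']; group
      _ = _ := by rw [hgz]
  have hz2 := d.fr.ac_inv (hPz'.mul_left hPz) (show 2 < 256 by norm_num)
  have hbzz : Commute (b * z) z := hbz.mul_left (Commute.refl z)
  have e := hsame 2 (by norm_num)
  rw [hcz, d.fr.ac_mul (hPz'.mul_left hPz) hbzz (by norm_num)] at e
  have e' := congrArg (ac (P' * P)⁻¹) e
  rw [d.fr.ac_inv (hPz'.mul_left hPz) (d.fr.ac_lt hbzz (by norm_num)), hz2,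
    d.fr.ac_mul hbz (Commute.refl z) (by norm_num), d.fr.ac_Q d.fr.es.mem (by norm_num),
    hbk 2 (by norm_num)] at e'
  exact absurd e' (by decide +kernel)

end Duo

end Cfsg.Agent.Lib.Co1Type31
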