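import Cfsg.Agent.Lib.Co1Type31.Frame
import Cfsg.Agent.Lib.Co1Type31.Tables
import Mathlib.GroupTheory.Sylow

/-!
# Conway type: the Sylow two-subgroup of `C(z)` over the coded one

Owner: helper31.
-/

set_option autoImplicit false

namespace Cfsg.Agent.Lib.Co1Type31

open Cfsg.Agent.Lib.LargeExtraspecial.Basic

variable {G : Type*} [Group G]

/-- `g` acts as a coded element of the Sylow subgroup. -/
def InU (ac : G → ℕ → ℕ) (g : G) : Prop := ∃ i < 4096, ∀ k < 256, ac g k = uel i k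

theorem uel_zero_check : agree (uel 0) id = true := by decide +kernel

theorem uel_zero {k : ℕ} (hk : k < 256) : uel 0 k = k :=
  (uel_lin (by norm_num)).ext Lin8.id' uel_zero_check k hk

namespace Frame

variable {z : G} {Q : Subgroup G} {co : G → ℕ} {ac : G → ℕ → ℕ} (h : Frame z Q co ac)
include h

theorem inU_Q {q : G} (hq : q ∈ Q) : InU ac q :=
  ⟨0, by norm_num, fun _ hk => by rw [h.ac_Q hq hk, uel_zero hk]⟩

theorem inU_mul {g g' : G} (hg : Commute g z) (hg' : Commute g' z) (hU : InU ac g) (hU' : InU ac g') :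
    InU ac (g * g') := by
  obtain ⟨i, hi, e⟩ := hU
  obtain ⟨j, hj, e'⟩ := hU'
  obtain ⟨l, hl, -, -, -, el⟩ := uel_mul hi hj
  exact ⟨l, hl, fun k hk => by
    rw [h.ac_mul hg hg' hk, e' k hk, e _ ((uel_lin hj).lt k hk), el k hk]⟩

/-- The eighth power of an element over the coded subgroup lies in `Q`. -/
theorem pow_eight {g : G} (hg : Commute g z) (hU : InU ac g) : g ^ 8 ∈ Q := by
  obtain ⟨i, hi, e⟩ := hU
  have hsq : ∀ {g : G} {i}, Commute g z → i < 4096 → (∀ k < 256, ac g k = uel i k) →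
      ∃ l < 4096, (∀ k < 256, ac (g * g) k = uel l k) ∧ pc l = 0 ∧ (pc i = 0 → pb l = 0) ∧
        (pb i = 0 → pc i = 0 → pa l = 0) := by
    intro g i hg hi e
    obtain ⟨l, hl, ec, eb, ea, el⟩ := uel_mul hi hi
    refine ⟨l, hl, fun k hk => ?_, by rw [ec, Nat.xor_self], fun hc => ?_, fun hb hc => ?_⟩
    · rw [h.ac_mul hg hg hk, e k hk, e _ ((uel_lin hi).lt k hk), el k hk]
    · rw [eb, hc, Nat.eq_of_beq_eq_true (List.all_eq_true.1 sg16_zero _ (par_spec i hi).2.1),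
        Nat.xor_self]
    · rw [ea hb hc hb hc, Nat.xor_self]
  obtain ⟨l, hl, el, hlc, -, -⟩ := hsq hg hi e
  have hg2 := hg.mul_left hg
  obtain ⟨m, hm, em, hmc, hmb, -⟩ := hsq hg2 hl el
  obtain ⟨p, hp, ep, hpc, hpb, hpa⟩ := hsq (hg2.mul_left hg2) hm em
  refine h.faithful _ (hg.pow_left 8) fun k hk => ?_
  have e8 : g ^ 8 = g * g * (g * g) * (g * g * (g * g)) := by simp only [pow_succ, pow_zero, one_mul, mul_assoc]
  rw [e8, ep k hk, uel, hpa (hmb hlc) hmc, hpb hmc, hpc]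
  have hz : ∀ k < 256, eich 0 (sg 4 0 (sg 16 0 k)) = k := by decide +kernel
  exact hz k hk

theorem exists_eichW {a : ℕ} (ha : a ∈ w6) : ∃ c, Commute c z ∧ ∀ k < 256, ac c k = eich a k := by
  refine ind6 (P := fun a => ∃ c, Commute c z ∧ ∀ k < 256, ac c k = eich a k) ?_ (fun j hj a ha h' => ?_) a ha
  · exact ⟨1, Commute.one_left z, fun k hk => by rw [h.ac_Q (one_mem Q) hk, eich_zero hk]⟩
  · obtain ⟨c, hc, hck⟩ := h'
    obtain ⟨⟨j', ws⟩, -, he⟩ := List.any_eq_true.1 (List.all_eq_true.1 words6_spec j hj)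
    simp only [Bool.and_eq_true] at he
    obtain ⟨d, hd, hdk⟩ := h.exists_prs he.1.2
    refine ⟨c * d, hc.mul_left hd, fun k hk => ?_⟩
    have hj' := bits6_w6 j hj
    rw [h.ac_mul hc hd hk, hdk k hk, (prs_lin he.1.2).ext (eich_lin (lt_of_w6 hj')) he.2 k hk,
      hck _ (eich_lt hj' hk), eich_mul ha hj' hk]

theorem exists_uel {i : ℕ} (hi : i < 4096) : ∃ c, Commute c z ∧ ∀ k < 256, ac c k = uel i k := by
  obtain ⟨ha, hb, hc⟩ := par_spec i hi
  obtain ⟨c₁, hc₁, e₁⟩ := h.exists_eichW ha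
  obtain ⟨⟨b', ws⟩, -, he⟩ := List.any_eq_true.1 (List.all_eq_true.1 words4_spec _ hb)
  simp only [Bool.and_eq_true] at he
  obtain ⟨c₂, hc₂, e₂⟩ := h.exists_prs he.1.2
  obtain ⟨⟨c', ws'⟩, -, he'⟩ := List.any_eq_true.1 (List.all_eq_true.1 words2_spec _ hc)
  simp only [Bool.and_eq_true] at he'
  obtain ⟨c₃, hc₃, e₃⟩ := h.exists_prs he'.1.2
  have l2 : Lin8 (sg 4 (pb i)) := sg_lin (by norm_num) (w4_spec _ hb).1
  have l3 : Lin8 (sg 16 (pc i)) := sg_lin (by norm_num) (c4_spec _ hc).1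
  refine ⟨c₁ * (c₂ * c₃), hc₁.mul_left (hc₂.mul_left hc₃), fun k hk => ?_⟩
  rw [h.ac_mul hc₁ (hc₂.mul_left hc₃) hk, h.ac_mul hc₂ hc₃ hk, e₃ k hk,
    (prs_lin he'.1.2).ext l3 he'.2 k hk, e₂ _ (l3.lt k hk),
    (prs_lin he.1.2).ext l2 he.2 _ (l3.lt k hk), e₁ _ (l2.lt _ (l3.lt k hk))]
  rfl

variable [Finite G]

/-- The preimage of the coded Sylow subgroup. -/
def sylU : Subgroup G where
  carrier := {g | Commute g z ∧ InU ac g}
  one_mem' := ⟨Commute.one_left z, h.inU_Q (one_mem Q)⟩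
  mul_mem' := fun ha hb => ⟨ha.1.mul_left hb.1, h.inU_mul ha.1 hb.1 ha.2 hb.2⟩
  inv_mem' := fun {g} hg => by
    have hpow : ∀ m : ℕ, InU ac (g ^ m) := fun m => by
      induction m with
      | zero => rw [pow_zero]; exact h.inU_Q (one_mem Q)
      | succ m ih => rw [pow_succ]; exact h.inU_mul (hg.1.pow_left m) hg.1 ih hg.2
    refine ⟨hg.1.inv_left, ?_⟩
    have e : g⁻¹ = g ^ (orderOf g - 1) := by
      rw [inv_eq_iff_mul_eq_one, ← pow_succ', Nat.sub_add_cancel (orderOf_pos g), pow_orderOf_eq_one]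
    rw [e]
    exact hpow _

theorem mem_sylU {g : G} : g ∈ h.sylU ↔ Commute g z ∧ InU ac g := Iff.rfl

theorem sylU_le : h.sylU ≤ Subgroup.centralizer ({z} : Set G) := fun _ hg =>
  Subgroup.mem_centralizer_singleton_iff.2 hg.1.eq

theorem Q_le_sylU : Q ≤ h.sylU := fun q hq => ⟨h.es.comm q hq, h.inU_Q hq⟩

theorem sylU_isPGroup : IsPGroup 2 h.sylU := by
  rintro ⟨g, hg, hU⟩
  refine ⟨5, Subtype.ext ?_⟩
  show g ^ (2 ^ 5) = 1
  have hq := h.pow_eight hg hU
  have e2 := h.sq _ hq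
  have e : g ^ (2 ^ 5) = g ^ 8 * g ^ 8 * (g ^ 8 * g ^ 8) := by group
  rw [e, e2, pw_mul h.es.sq, Bool.xor_self]
  rfl

/-- A two-subgroup of `C(z)` has order at most `2 ^ 21`. -/
theorem two_le {J : Subgroup G} (hJ : IsPGroup 2 J) (hJC : J ≤ Subgroup.centralizer ({z} : Set G)) :
    Nat.card J ≤ 2 ^ 21 := by
  have : Fact (Nat.Prime 2) := ⟨Nat.prime_two⟩
  obtain ⟨m, hm⟩ := IsPGroup.iff_card.1 hJ
  have hd := Subgroup.card_dvd_of_le hJC
  rw [hm, h.cardC, show (89181388800 : ℕ) = 2 ^ 21 * 42525 by norm_num] at hd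
  have hc : Nat.Coprime (2 ^ m) 42525 := Nat.Coprime.pow_left m (by norm_num)
  rw [hm]
  exact Nat.le_of_dvd (by norm_num) (hc.dvd_of_dvd_mul_right hd)

theorem sylU_card : Nat.card h.sylU = 2 ^ 21 := by
  classical
  refine le_antisymm (h.two_le h.sylU_isPGroup h.sylU_le) ?_
  choose! l hl using fun i => h.exists_uel (i := i)
  let φ : Fin 4096 × Q → h.sylU := fun p => ⟨l p.1.1 * p.2,
    mul_mem (⟨(hl _ p.1.2).1, _, p.1.2, (hl _ p.1.2).2⟩ : l p.1.1 ∈ h.sylU) (h.Q_le_sylU p.2.2)⟩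
  have hφ : Function.Injective φ := by
    rintro ⟨i, q⟩ ⟨j, r⟩ e
    have e' : l i.1 * (q : G) = l j.1 * (r : G) := congrArg Subtype.val e
    have hij : i = j := by
      have hk : ∀ k < 256, uel i.1 k = uel j.1 k := fun k hk => by
        have := congrArg (fun g => ac g k) e'
        simp only [h.ac_mul (hl _ i.2).1 (h.es.comm _ q.2) hk,
          h.ac_mul (hl _ j.2).1 (h.es.comm _ r.2) hk, h.ac_Q q.2 hk, h.ac_Q r.2 hk,
          (hl _ i.2).2 k hk, (hl _ j.2).2 k hk] at this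
        exact this
      have d : udec (uel i.1) = udec (uel j.1) := by
        rw [udec, udec, hk 2 (by norm_num), hk 8 (by norm_num), hk 32 (by norm_num)]
      rw [Nat.eq_of_beq_eq_true (List.all_eq_true.1 udec_uel _ (List.mem_range.2 i.2)),
        Nat.eq_of_beq_eq_true (List.all_eq_true.1 udec_uel _ (List.mem_range.2 j.2))] at d
      exact Fin.ext d
    subst hij
    exact Prod.ext rfl (Subtype.ext (mul_left_cancel e'))
  have := Nat.card_le_card_of_injective φ hφ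
  rw [Nat.card_prod, Nat.card_fin, h.card] at this
  simpa using this

theorem eq_sylU {J : Subgroup G} (hJ : IsPGroup 2 J) (hJC : J ≤ Subgroup.centralizer ({z} : Set G))
    (hle : h.sylU ≤ J) : J = h.sylU :=
  (Subgroup.eq_of_le_of_card_ge hle (by rw [h.sylU_card]; exact h.two_le hJ hJC)).symm

/-- Every involution is conjugate into `C(z)`. -/
theorem exists_conj_commute {x : G} (hx : orderOf x = 2) : ∃ g : G, Commute (g * x * g⁻¹) z := by
  have : Fact (Nat.Prime 2) := ⟨Nat.prime_two⟩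
  set C := Subgroup.centralizer ({z} : Set G) with hC
  obtain ⟨T, hT⟩ := h.sylU_isPGroup.exists_le_sylow
  have hcomm : ∀ c ∈ C, Commute c z := fun c hc => Subgroup.mem_centralizer_singleton_iff.1 hc
  have hTC : (T : Subgroup G) ≤ C := by
    have : Group.IsNilpotent (T : Subgroup G) := T.2.isNilpotent
    by_contra hne
    have hlt : h.sylU.subgroupOf (T : Subgroup G) < ⊤ := by
      refine lt_top_iff_ne_top.2 fun e => hne ?_
      rw [Subgroup.subgroupOf_eq_top] at e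
      exact e.trans h.sylU_le
    obtain ⟨y, hyN, hy⟩ :=
      SetLike.exists_of_lt (Group.normalizerCondition_of_isNilpotent (h.sylU.subgroupOf (T : Subgroup G)) hlt)
    have hyinv : ∀ a ∈ h.sylU, (y : G)⁻¹ * a * (y : G) ∈ h.sylU := fun a ha => by
      have := (Subgroup.mem_normalizer_iff.1 (inv_mem hyN) ⟨a, hT ha⟩).1 ha
      rw [inv_inv, Subgroup.mem_subgroupOf] at this
      simpa only [Subgroup.coe_mul, Subgroup.coe_inv] using this
    set w := (y : G) * z * (y : G)⁻¹ with hw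
    have hwc : ∀ q ∈ Q, Commute w q := fun q hq => by
      have h1 : Commute z ((y : G)⁻¹ * q * (y : G)) := (hyinv q (h.Q_le_sylU hq)).1.symm
      have h2 := h1.map (MulAut.conj (y : G))
      simpa [hw, mul_assoc] using h2
    have hwz : w = z := (h.cent w hwc).resolve_left fun e => h.es.ne (by simpa [hw] using e)
    have hyC : (y : G) ∈ C := Subgroup.mem_centralizer_singleton_iff.2 (mul_inv_eq_iff_eq_mul.1 hwz)
    have he := h.eq_sylU (J := (T : Subgroup G) ⊓ C) (T.2.to_le inf_le_left) inf_le_right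
      (le_inf hT h.sylU_le)
    refine hy ?_
    show (y : G) ∈ h.sylU
    rw [← he]
    exact ⟨y.2, hyC⟩
  have hp : IsPGroup 2 (Subgroup.zpowers x) :=
    IsPGroup.of_card (n := 1) (by rw [Nat.card_zpowers, hx, pow_one])
  obtain ⟨T', hT'⟩ := hp.exists_le_sylow
  obtain ⟨g, hg⟩ := MulAction.exists_smul_eq G T' T
  refine ⟨g, hcomm _ (hTC ?_)⟩
  rw [← hg, Sylow.coe_subgroup_smul]
  exact ⟨x, hT' (Subgroup.mem_zpowers x), rfl⟩

/-- An involution of `C(z)` is conjugate in `C(z)` into the coded Sylow subgroup. -/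
theorem exists_conj_sylU {t : G} (htz : Commute t z) (ht : t * t = 1) :
    ∃ c, Commute c z ∧ c * t * c⁻¹ ∈ h.sylU := by
  have : Fact (Nat.Prime 2) := ⟨Nat.prime_two⟩
  set C := Subgroup.centralizer ({z} : Set G) with hC
  set tC : C := ⟨t, Subgroup.mem_centralizer_singleton_iff.2 htz.eq⟩ with htC
  have hp : IsPGroup 2 (Subgroup.zpowers tC) := by
    rintro ⟨u, m, rfl⟩
    refine ⟨1, Subtype.ext ?_⟩
    have e : tC * tC = 1 := Subtype.ext ht
    show (tC ^ m) ^ (2 ^ 1) = 1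
    rw [pow_one, pow_two, ← (Commute.refl tC).mul_zpow m, e, one_zpow]
  obtain ⟨P, hP⟩ := hp.exists_le_sylow
  have hS : IsPGroup 2 (h.sylU.subgroupOf C) :=
    h.sylU_isPGroup.of_equiv (Subgroup.subgroupOfEquivOfLe h.sylU_le).symm
  obtain ⟨P₀, hP₀⟩ := hS.exists_le_sylow
  have hP₀' : (P₀ : Subgroup C).map C.subtype = h.sylU := by
    refine h.eq_sylU (P₀.2.map _) (Subgroup.map_subtype_le _) fun g hg => ?_
    exact ⟨⟨g, h.sylU_le hg⟩, hP₀ hg, rfl⟩
  obtain ⟨c, hc⟩ := MulAction.exists_smul_eq C P P₀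
  refine ⟨(c : G), Subgroup.mem_centralizer_singleton_iff.1 c.2, ?_⟩
  rw [← hP₀', ← hc, Sylow.coe_subgroup_smul]
  exact ⟨c * tC * c⁻¹, ⟨tC, hP (Subgroup.mem_zpowers tC), rfl⟩, rfl⟩

/-- The five kinds of involutions of `C(z)` outside `Q`. -/
theorem exists_std {t : G} (htz : Commute t z) (ht : t * t = 1) (htQ : t ∉ Q) :
    ∃ c, Commute c z ∧ ∃ s < 5, ∀ k < 256, ac (c * t * c⁻¹) k = stdF s k := by
  obtain ⟨c₀, hc₀, hz₁, i, hi, ei⟩ := h.exists_conj_sylU htz ht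
  set t₁ := c₀ * t * c₀⁻¹ with ht₁
  have ht₁2 : t₁ * t₁ = 1 := by
    calc t₁ * t₁ = c₀ * (t * t) * c₀⁻¹ := by rw [ht₁]; group
      _ = 1 := by rw [ht]; group
  have hcov := List.all_eq_true.1 invTable_covers i (List.mem_range.2 hi)
  have hinv : agree (fun k => uel i (uel i k)) id = true := List.all_eq_true.2 fun k hk => by
    have hk' := bits8_lt k hk
    show Nat.beq (uel i (uel i k)) k = true
    rw [← ei k hk', ← ei _ (h.ac_lt hz₁ hk'), ← h.ac_mul hz₁ hz₁ hk', ht₁2, h.ac_Q (one_mem Q) hk']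
    exact Nat.beq_refl k
  rw [hinv, Bool.not_true, Bool.false_or, Bool.or_eq_true] at hcov
  rcases hcov with hid | htab
  · exfalso
    have hm : t₁ ∈ Q := h.faithful t₁ hz₁ fun k hk =>
      (ei k hk).trans ((uel_lin hi).ext Lin8.id' hid k hk)
    refine htQ ?_
    have := h.norm c₀⁻¹ hc₀.inv_left t₁ hm
    rwa [ht₁, show c₀⁻¹ * (c₀ * t * c₀⁻¹) * c₀⁻¹⁻¹ = t by group] at this
  · obtain ⟨⟨i', e⟩, hmem, hie⟩ := List.any_eq_true.1 htab
    obtain rfl : i' = i := Nat.eq_of_beq_eq_true hie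
    have hs := List.all_eq_true.1 invTable_spec _ hmem
    simp only [Bool.and_eq_true] at hs
    have hs5 : e % 8 < 5 := Nat.le_of_ble_eq_true hs.1.1
    obtain ⟨c, hc, hck⟩ := h.exists_prs hs.1.2
    refine ⟨c * c₀, hc.mul_left hc₀, e % 8, hs5, fun k hk => ?_⟩
    rw [show c * c₀ * t * (c * c₀)⁻¹ = c * t₁ * c⁻¹ by rw [ht₁]; group, h.ac_conj hz₁ hc hk]
    have hk' := h.ac_lt hc.inv_left hk
    rw [ei _ hk', hck _ ((uel_lin hi).lt _ hk'),
      ((prs_lin hs.1.2).comp (uel_lin hi)).ext ((stdF_lin hs5).comp (prs_lin hs.1.2)) hs.2 _ hk',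
      ← hck _ hk', h.ac_inv' hc hk]

end Frame

end Cfsg.Agent.Lib.Co1Type31
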