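import Cfsg.Agent.Lib.Co1Type31.Rho
import Cfsg.Agent.Lib.Co1Type31.Sylow

/-!
# Conway type: at most three classes of involutions

An involution acting as a transvection of a point is conjugate to `z` or to one of the products with
parameters `4, 16` and `12, 52`; one acting as a transvection of a line times a transvection is
conjugate to one acting with more than sixteen fixed vectors.

Owner: helper31.
-/

set_option autoImplicit false
set_option maxRecDepth 100000

namespace Cfsg.Agent.Lib.Co1Type31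

theorem cert4 : ∀ v ∈ w6, bn 4 v = false → qn v = false →
    ∃ p ∈ pairs6, pr p 4 = 4 ∧ pr p v ∈ [0, 4, 16, 20] := by decide +kernel

theorem cert12 : ∀ v ∈ w6, bn 12 v = true → qn v = true →
    ∃ p ∈ pairs6, pr p 12 = 12 ∧ pr p v ∈ [52, 56] := by decide +kernel

/-- The fixed vectors of a map. -/
def fixSet (f : ℕ → ℕ) : Finset ℕ := (Finset.range 256).filter fun k => Nat.beq (f k) k

theorem stdF_fix : ∀ s ∈ [2, 3, 4], (fixSet (stdF s)).card = 16 := by decide +kernel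

theorem lp_card : (lp.toFinset ×ˢ Finset.range 2).card = 32 := by decide +kernel

theorem stdF_ne_eich : ∀ s ∈ [2, 3, 4], ∀ b ∈ w6, agree (eich b) (stdF s) = false := by decide +kernel

/-- The parameter of a standard map of the second kind. -/
def stdA (s : ℕ) : ℕ := [0, 0, 64, 128, 192].getD s 0

theorem stdA_spec : ∀ s ∈ [2, 3, 4], stdA s ∈ lp ∧ s < 5 ∧ stdA s ≠ 0 ∧
    agree (fun k => sg 4 16 (eich (stdA s) k)) (stdF s) = true ∧
    agree (fun k => stdF s (stdF s k)) id = true ∧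
    ∀ k < 256, (stdF s k ^^^ k = 0 ∨ stdF s k ^^^ k = 1) →
      b1 k = false ∧ bn k 4 = false ∧ bn k 16 = false := by decide +kernel

theorem lp_mask_aux : all8.all (fun k => b1 k || bn k 4 || bn k 16 || lp.contains (k &&& 252)) = true := by
  decide +kernel

theorem lp_mask {k : ℕ} (hk : k < 256) (h1 : b1 k = false) (h2 : bn k 4 = false)
    (h3 : bn k 16 = false) : k &&& 252 ∈ lp := by
  have := List.all_eq_true.1 lp_mask_aux k (mem_all8.2 hk)
  simpa [h1, h2, h3] using this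

theorem sign_cases : ∀ s ∈ [2, 3, 4], ∀ v ∈ lp, ∀ y ∈ lq,
    bn (stdA s) v = qn (stdA s) → bn y (stdA s) = Bool.xor (bn (stdA s) v) (qn v) →
    (∀ e ∈ lp, bn y e = bn v e) ∨ (∀ e ∈ lp, bn y e = bn (v ^^^ stdA s) e) := by decide +kernel

theorem lp_mask_inj : ∀ e ∈ lp, ∀ i < 2, ((e ^^^ i) &&& 252 = e ∧ ((e ^^^ i) &&& 1) = i) := by
  decide +kernel

variable {G : Type*} [Group G]

/-- The three standard kinds. -/
def Std (Q : Subgroup G) (co : G → ℕ) (ac : G → ℕ → ℕ) (n z t : G) : Prop :=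
  InB Q n z t ∨ Form Q co ac n z t 4 16 ∨ Form Q co ac n z t 12 52

theorem mul_self_conj {t : G} (h : t * t = 1) (c : G) : c * t * c⁻¹ * (c * t * c⁻¹) = 1 := by
  calc c * t * c⁻¹ * (c * t * c⁻¹) = c * (t * t) * c⁻¹ := by group
    _ = 1 := by rw [h]; group

namespace Duo

variable {z : G} {Q : Subgroup G} {co : G → ℕ} {ac : G → ℕ → ℕ} {x n : G}
  (d : Duo z Q co ac x n)
include d

/-- An involution acting as a transvection of the point. -/
theorem std_of_eich {t : G} {s : ℕ} (hs : s < 2) (htz : Commute t z) (ht : t * t = 1)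
    (hk : ∀ k < 256, ac t k = stdF s k) :
    ∃ c, Commute c z ∧ Std Q co ac n z (c * t * c⁻¹) := by
  obtain ⟨g, hg, hg2⟩ := d.fr.co_surj 2 (by norm_num)
  have hgz := d.fr.es.comm g hg
  interval_cases s
  · have ha : (4 : ℕ) ∈ w6 := by decide +kernel
    obtain ⟨v, hv, hF, h1, h2⟩ := d.form_of_act ha (by norm_num) htz ht hk
    obtain ⟨p, hp, hp4, hpv⟩ := cert4 v hv h1 h2
    obtain ⟨c, hc, hcx, hck⟩ := d.exists_prE hp
    have hF1 := d.form_conj hp ha hc hcx hck hF
    rw [hp4] at hF1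
    simp only [List.mem_cons, List.not_mem_nil, or_false] at hpv
    have hsh := d.form_shift ha hF1 hg hg2
    have e : g * (c * t * c⁻¹) * g⁻¹ = g * c * t * (g * c)⁻¹ := by group
    rcases hpv with h | h | h | h <;> rw [h] at hF1 hsh
    · exact ⟨c, hc, Or.inl (d.form_inB hF1)⟩
    · exact ⟨g * c, hgz.mul_left hc, Or.inl (e ▸ d.form_inB (by simpa using hsh))⟩
    · exact ⟨c, hc, Or.inr (Or.inl hF1)⟩
    · exact ⟨g * c, hgz.mul_left hc, Or.inr (Or.inl (e ▸ hsh))⟩
  · have ha : (12 : ℕ) ∈ w6 := by decide +kernel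
    obtain ⟨v, hv, hF, h1, h2⟩ := d.form_of_act ha (by norm_num) htz ht hk
    obtain ⟨p, hp, hp12, hpv⟩ := cert12 v hv h1 h2
    obtain ⟨c, hc, hcx, hck⟩ := d.exists_prE hp
    have hF1 := d.form_conj hp ha hc hcx hck hF
    rw [hp12] at hF1
    simp only [List.mem_cons, List.not_mem_nil, or_false] at hpv
    have hsh := d.form_shift ha hF1 hg hg2
    rcases hpv with h | h <;> rw [h] at hF1 hsh
    · exact ⟨c, hc, Or.inr (Or.inr hF1)⟩
    · exact ⟨g * c, hgz.mul_left hc, Or.inr (Or.inr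
        ((show g * (c * t * c⁻¹) * g⁻¹ = g * c * t * (g * c)⁻¹ by group) ▸ hsh))⟩

/-- The commutation of a product with a lift. -/
theorem form_lift {t u : G} {a v e : ℕ} (ha : a ∈ w6) (he : e ∈ w6) (h : Form Q co ac n z t a v)
    (hu : InB Q n z u) (hua : Act ac u e) :
    t * u * t⁻¹ = u * ee z x (Bool.xor (bn a e) (bn v e)) (bn v e) := by
  obtain ⟨w, r, hw, hwa, hr, hrv, rfl⟩ := h
  have hBu : bn e (co r) = bn v e := by
    rw [← bn_mask he (d.fr.co_lt r hr.1) hr.2, hrv, bn_comm]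
  have h1 : r * u * r⁻¹ = ee z x (bn v e) (bn v e) * u := by
    rw [← hBu, ← d.com_act e he u r hu hua hr]
    simp only [com]
    group
  have hc : w * ee z x (bn v e) (bn v e) * w⁻¹ = ee z x (bn v e) (bn v e) :=
    d.central_conj (d.B_comm hw).1 (d.B_comm hw).2 _ _
  have h2 : w * u * w⁻¹ = ee z x (bn a e) false * u := by
    have h' := d.com_BB ha he hw hu hwa hua
    rw [show ee z x (bn a e) false = pw x (bn a e) from mul_one _, ← h']
    simp only [com]
    group
  calc w * r * u * (w * r)⁻¹ = w * (r * u * r⁻¹) * w⁻¹ := by group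
    _ = (w * ee z x (bn v e) (bn v e) * w⁻¹) * (w * u * w⁻¹) := by rw [h1]; group
    _ = ee z x (bn v e) (bn v e) * ee z x (bn a e) false * u := by rw [hc, h2, mul_assoc]
    _ = _ := by
      rw [d.ee_mul, Bool.xor_false, Bool.xor_comm, (d.ee_comm (d.B_comm hu).1 (d.B_comm hu).2 _ _).eq]

variable [Finite G]

/-- A product with the middle element, whose sign agrees with its second parameter. -/
theorem isConj_eich_of_rho {m t : G} {s v : ℕ} (hs : s ∈ [2, 3, 4]) (hm : Mid Q co ac z m)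
    (hF : Form Q co ac n z (m * t) (stdA s) v) (htz : Commute t z) (ht : t * t = 1)
    (hk : ∀ k < 256, ac t k = stdF s k)
    (hsign : ∀ e ∈ lp, ∀ u, InB Q n z u → Act ac u e → m * u * m⁻¹ = u * ee z x false (bn v e)) :
    ∃ c t', IsConj t t' ∧ Commute t' z ∧ t' * t' = 1 ∧ Commute c z ∧ ∃ s' < 2,
      ∀ k < 256, ac (c * t' * c⁻¹) k = stdF s' k := by
  obtain ⟨haL, hs5, -, -, -, -⟩ := stdA_spec s hs
  obtain ⟨haw, -, -⟩ := lp_spec _ haL
  obtain ⟨w, r, hw, hwa, hr, hrv, hmt⟩ := hF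
  have hF : Form Q co ac n z (m * t) (stdA s) v := ⟨w, r, hw, hwa, hr, hrv, hmt⟩
  have hte : t = m * (m * t) := by rw [← mul_assoc, hm.sq, one_mul]
  have htx : Commute t x := by
    rw [hte]
    refine (d.mid_x hm).mul_left ?_
    rw [hmt]
    exact (d.B_comm hw).1.mul_left (d.A_comm hr).1
  set t' := n * t * n⁻¹ with ht'
  have ht'z : Commute t' z := by
    have := htx.map (MulAut.conj n).toMonoidHom
    simpa [ht', d.nx] using this
  have ht'x : Commute t' x := d.sq_commute htz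
  have ht'2 : t' * t' = 1 := mul_self_conj ht n
  have ht'Q : t' ∉ Q := by
    intro hm'
    have hc2 : Commute (n * n) z := by
      refine mul_inv_eq_iff_eq_mul.1 ?_
      calc n * n * z * (n * n)⁻¹ = n * (n * z * n⁻¹) * n⁻¹ := by group
        _ = z := by rw [d.nz, d.nx]
    have hB : InB Q n z t := by
      refine ⟨?_, htz⟩
      have := d.fr.norm _ hc2.inv_left t' hm'
      rwa [show (n * n)⁻¹ * t' * (n * n)⁻¹⁻¹ = n⁻¹ * t * n by rw [ht']; group] at this
    obtain ⟨b, hb, hbk⟩ := d.exists_act hB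
    have := stdF_ne_eich s hs b hb
    rw [agree, List.all_eq_false] at this
    obtain ⟨k, hk8, hne⟩ := this
    exact hne (by rw [← hbk k (bits8_lt k hk8), hk k (bits8_lt k hk8)]; exact Nat.beq_refl _)
  obtain ⟨c, hc, s', hs', hk'⟩ := d.fr.exists_std ht'z ht'2 ht'Q
  refine ⟨c, t', isConj_iff.2 ⟨n, rfl⟩, ht'z, ht'2, hc, ?_⟩
  by_cases h2 : s' < 2
  · exact ⟨s', h2, hk'⟩
  exfalso
  have hs'' : s' ∈ [2, 3, 4] := by
    simp only [List.mem_cons, List.not_mem_nil, or_false]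
    omega
  classical
  choose! L hL using d.lift
  have hfix : ∀ e ∈ lp, ∀ i < 2, ac t' (co (n * L e * n⁻¹) ^^^ i) = co (n * L e * n⁻¹) ^^^ i := by
    intro e he i hi
    have he6 := (lp_spec e he).1
    obtain ⟨hu, hua⟩ := hL e he6
    have hA := d.A_of_B hu
    have e1 : t * L e * t⁻¹ = L e * ee z x (Bool.xor (bn (stdA s) e) (bn v e)) false := by
      have h1 := d.form_lift haw he6 hF hu hua
      have h2 := hsign e he _ hu hua
      have hce := d.central_conj (d.mid_x hm) hm.comm (Bool.xor (bn (stdA s) e) (bn v e)) (bn v e)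
      calc t * L e * t⁻¹ = m * ((m * t) * L e * (m * t)⁻¹) * m⁻¹ := by
            conv_lhs => rw [hte]
            group
        _ = (m * L e * m⁻¹) * (m * ee z x (Bool.xor (bn (stdA s) e) (bn v e)) (bn v e) * m⁻¹) := by
            rw [h1]; group
        _ = _ := by
            rw [hce, h2, mul_assoc, d.ee_mul]
            congr 2 <;> cases bn (stdA s) e <;> cases bn v e <;> rfl
    have e2 : t' * (n * L e * n⁻¹) * t'⁻¹ = n * L e * n⁻¹ * pw z (Bool.xor (bn (stdA s) e) (bn v e)) := by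
      calc t' * (n * L e * n⁻¹) * t'⁻¹ = n * (t * L e * t⁻¹) * n⁻¹ := by rw [ht']; group
        _ = n * L e * n⁻¹ * (n * ee z x (Bool.xor (bn (stdA s) e) (bn v e)) false * n⁻¹) := by rw [e1]; group
        _ = _ := by
          congr 1
          cases Bool.xor (bn (stdA s) e) (bn v e)
          · simp [ee, pw]
          · simpa [ee, pw] using d.nx
    have hlt := d.fr.co_lt _ hA.1
    have hk0 : ac t' (co (n * L e * n⁻¹)) = co (n * L e * n⁻¹) := by
      rw [← d.fr.conj t' ht'z _ hA.1, e2]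
      cases Bool.xor (bn (stdA s) e) (bn v e)
      · simp [pw]
      · show co (n * L e * n⁻¹ * z) = _
        rw [d.fr.co_mul _ hA.1 _ d.fr.es.mem, d.fr.co_z, Nat.xor_zero]
    have hk1 : ac t' 1 = 1 := by
      rw [← d.cox, ← d.fr.conj t' ht'z x d.xQ, mul_inv_eq_iff_eq_mul.2 ht'x.eq]
    interval_cases i
    · simpa using hk0
    · rw [d.fr.ac_xor ht'z hlt (by norm_num), hk0, hk1]
  have hcard := stdF_fix s' hs''
  let φ : ℕ × ℕ → ℕ := fun p => ac c (co (n * L p.1 * n⁻¹) ^^^ p.2)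
  have hlt : ∀ p ∈ lp.toFinset ×ˢ Finset.range 2, p.1 ∈ lp ∧ p.2 < 2 ∧
      co (n * L p.1 * n⁻¹) ^^^ p.2 < 256 ∧ b1 (co (n * L p.1 * n⁻¹)) = false := fun p hp => by
    rw [Finset.mem_product, List.mem_toFinset, Finset.mem_range] at hp
    have hA := d.A_of_B (hL _ (lp_spec _ hp.1).1).1
    exact ⟨hp.1, hp.2, xor_lt (d.fr.co_lt _ hA.1) (by omega), hA.2⟩
  have hle := Finset.card_le_card_of_injOn φ (s := lp.toFinset ×ˢ Finset.range 2)
    (t := fixSet (stdF s')) (fun p hp => ?_) ?_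
  · rw [lp_card, hcard] at hle
    omega
  · obtain ⟨h1, h2, h3, -⟩ := hlt p hp
    have hl := d.fr.ac_lt hc h3
    simp only [fixSet, Finset.coe_filter, Set.mem_ofPred_eq, Finset.mem_range]
    refine ⟨hl, ?_⟩
    show Nat.beq (stdF s' (ac c _)) _ = true
    rw [← hk' _ hl, d.fr.ac_conj ht'z hc hl, d.fr.ac_inv hc h3, hfix _ h1 _ h2]
    exact Nat.beq_refl _
  · intro p hp q hq hpq
    obtain ⟨h1, h2, h3, hb⟩ := hlt p hp
    obtain ⟨k1, k2, k3, kb⟩ := hlt q hq
    have e := congrArg (ac c⁻¹) hpq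
    simp only [φ, d.fr.ac_inv hc h3, d.fr.ac_inv hc k3] at e
    have hA := d.A_of_B (hL _ (lp_spec _ h1).1).1
    have kA := d.A_of_B (hL _ (lp_spec _ k1).1).1
    have hx : co ((n * L p.1 * n⁻¹)⁻¹ * (n * L q.1 * n⁻¹)) = p.2 ^^^ q.2 := by
      rw [d.fr.co_mul _ (inv_mem hA.1) _ kA.1, d.fr.co_inv hA.1]
      have e' := congrArg (fun k => k ^^^ q.2) e
      simp only [Nat.xor_assoc, Nat.xor_self, Nat.xor_zero] at e'
      rw [← e', ← Nat.xor_assoc, Nat.xor_self, Nat.zero_xor]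
    have hmem : (n * L p.1 * n⁻¹)⁻¹ * (n * L q.1 * n⁻¹) ∈ Q := mul_mem (inv_mem hA.1) kA.1
    obtain ⟨i, j, hij⟩ := d.exists_ee hmem (by rw [hx]; interval_cases p.2 <;> interval_cases q.2 <;> simp)
    have hpB := (hL _ (lp_spec _ h1).1)
    have hqB := (hL _ (lp_spec _ k1).1)
    have hn : ∃ i' j', (L p.1)⁻¹ * L q.1 = ee z x i' j' := by
      refine ⟨j, i, ?_⟩
      have h' : n * ((L p.1)⁻¹ * L q.1) * n⁻¹ = ee z x i j := by rw [← hij]; group
      calc (L p.1)⁻¹ * L q.1 = n⁻¹ * (n * ((L p.1)⁻¹ * L q.1) * n⁻¹) * n := by group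
        _ = _ := by
          rw [h']
          cases i <;> cases j <;> simp [ee, pw, mul_assoc]
          · simpa [mul_assoc] using d.nx'
          · simpa [mul_assoc] using d.nz'
          · calc n⁻¹ * (x * (z * n)) = (n⁻¹ * x * n) * (n⁻¹ * z * n) := by group
              _ = z * x := by rw [d.nz', d.nx']
              _ = x * z := d.xz.eq.symm
    obtain ⟨i', j', hn⟩ := hn
    rw [inv_mul_eq_iff_eq_mul] at hn
    have hee : ∀ k < 256, ac (ee z x i' j') k = k := fun k hk => d.fr.ac_Q (d.ee_mem i' j') hk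
    have hpe : p.1 = q.1 := eich_inj (lp_spec _ h1).1 (lp_spec _ k1).1 fun k hk => by
      rw [← hpB.2 k hk, ← hqB.2 k hk, hn, d.fr.ac_mul hpB.1.2 (d.fr.es.comm _ (d.ee_mem i' j')) hk,
        hee k hk]
    refine Prod.ext hpe ?_
    rw [hpe] at e
    exact Nat.xor_right_injective e

/-- An involution acting as a transvection of a line times a transvection. -/
theorem isConj_eich {t : G} {s : ℕ} (hs : s ∈ [2, 3, 4]) (htz : Commute t z) (ht : t * t = 1)
    (hk : ∀ k < 256, ac t k = stdF s k) :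
    ∃ c t', IsConj t t' ∧ Commute t' z ∧ t' * t' = 1 ∧ Commute c z ∧ ∃ s' < 2,
      ∀ k < 256, ac (c * t' * c⁻¹) k = stdF s' k := by
  obtain ⟨haL, hs5, -, hA, hinv, hperp⟩ := stdA_spec s hs
  obtain ⟨haw, -, -⟩ := lp_spec _ haL
  obtain ⟨m, -, hm, -, -, -, -⟩ := d.exists_mid_frame (p := 4) (ws := wd1) (q := 16) (by simp)
  obtain ⟨y, hy, hsign⟩ := d.mid_sign hm
  obtain ⟨u, hu, hua⟩ := d.lift (stdA s) haw
  have hmu : ∀ k < 256, ac (m * u) k = stdF s k := fun k hk' => by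
    rw [d.fr.ac_mul hm.comm hu.2 hk', hua k hk', hm.act _ (eich_lt haw hk')]
    exact (rho_lin.comp (eich_lin (lt_of_w6 haw))).ext (stdF_lin hs5) hA k hk'
  have hmuz := hm.comm.mul_left hu.2
  obtain ⟨r, hr⟩ : ∃ r, r = (m * u)⁻¹ * t := ⟨_, rfl⟩
  have hrQ : r ∈ Q := hr ▸ d.fr.faithful _ (hmuz.inv_left.mul_left htz) fun k hk' => by
    rw [d.fr.ac_mul hmuz.inv_left htz hk', hk k hk', ← hmu k hk', d.fr.ac_inv hmuz hk']
  have htr : t = m * u * r := by rw [hr]; group
  have hmi : m⁻¹ = m := inv_eq_of_mul_eq_one_right hm.sq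
  -- the square of `m u`
  have hw2 : ∃ i j, m * u * (m * u) = ee z x i j := by
    refine ⟨qn (stdA s), bn y (stdA s), ?_⟩
    calc m * u * (m * u) = (m * u * m⁻¹) * u := by rw [hmi]; group
      _ = u * ee z x false (bn y (stdA s)) * u := by rw [hsign _ haL u hu hua]
      _ = (u * u) * ee z x false (bn y (stdA s)) := by
        rw [mul_assoc, ← (d.ee_comm (d.B_comm hu).1 (d.B_comm hu).2 _ _).eq, ← mul_assoc]
      _ = _ := by
        rw [d.sq_act _ haw u hu hua, show pw x (qn (stdA s)) = ee z x (qn (stdA s)) false from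
          (mul_one _).symm, d.ee_mul, Bool.xor_false, Bool.false_xor]
  -- the coordinate of `r`
  have hlt := d.fr.co_lt r hrQ
  obtain ⟨hb, hb4, hb16⟩ : b1 (co r) = false ∧ bn (co r) 4 = false ∧ bn (co r) 16 = false := by
    obtain ⟨i, j, hij⟩ := hw2
    refine hperp _ hlt ?_
    have e0 : (m * u * (m * u)) * ((m * u)⁻¹ * r * (m * u)⁻¹⁻¹) * r = 1 := by
      rw [← ht, htr]; group
    have hn := d.fr.norm _ hmuz.inv_left r hrQ
    have e := congrArg co e0
    rw [hij, d.fr.co_mul _ (mul_mem (d.ee_mem i j) hn) r hrQ, d.fr.co_mul _ (d.ee_mem i j) _ hn,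
      d.fr.conj _ hmuz.inv_left r hrQ, d.co_ee, d.fr.co_one] at e
    have hi' : ac (m * u)⁻¹ (co r) = stdF s (co r) := by
      have h2 : stdF s (stdF s (co r)) = co r :=
        ((stdF_lin hs5).comp (stdF_lin hs5)).ext Lin8.id' hinv _ hlt
      conv_lhs => rw [← h2, ← hmu _ ((stdF_lin hs5).lt _ hlt)]
      exact d.fr.ac_inv hmuz ((stdF_lin hs5).lt _ hlt)
    rw [hi', Nat.xor_assoc] at e
    cases i
    · exact Or.inl (by simpa using e)
    · exact Or.inr (Nat.eq_of_xor_eq_zero e).symm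
  set v := co r &&& 252 with hv
  have hvl : v ∈ lp := lp_mask hlt hb hb4 hb16
  have hrA : InA Q co r := ⟨hrQ, hb⟩
  have hF : Form Q co ac n z (m * t) (stdA s) v := ⟨u, r, hu, hua, hrA, rfl, by
    rw [htr, ← mul_assoc, ← mul_assoc, hm.sq, one_mul]⟩
  have hmr : Commute r m := hm.cent r hrQ hb4 hb16
  have hsq : t * t = ee z x false (bn y (stdA s)) * ee z x (Bool.xor (bn (stdA s) v) (qn (stdA s)))
      (Bool.xor (bn (stdA s) v) (qn v)) := by
    have hce := d.ee_comm (d.B_comm hu).1 (d.B_comm hu).2 false (bn y (stdA s))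
    rw [← d.form_sq haw ⟨u, r, hu, hua, hrA, rfl, rfl⟩, htr]
    calc m * u * r * (m * u * r) = (m * u * m⁻¹) * (m * r * m⁻¹) * (m * m) * (u * r) := by group
      _ = (ee z x false (bn y (stdA s)) * u) * r * (u * r) := by
        rw [hm.sq, mul_one, mul_inv_eq_iff_eq_mul.2 hmr.eq.symm, hsign _ haL u hu hua, hce.eq]
      _ = _ := by group
  rw [ht, d.ee_mul, Bool.false_xor] at hsq
  obtain ⟨e1, e2⟩ := d.ee_inj (hsq.symm.trans (d.ee_zero).symm)
  have h1 : bn (stdA s) v = qn (stdA s) := by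
    revert e1; cases bn (stdA s) v <;> cases qn (stdA s) <;> decide
  have h2 : bn y (stdA s) = Bool.xor (bn (stdA s) v) (qn v) := by
    revert e2; cases bn y (stdA s) <;> cases bn (stdA s) v <;> cases qn v <;> decide
  rcases sign_cases s hs v hvl y hy h1 h2 with h | h
  · exact d.isConj_eich_of_rho hs hm hF htz ht hk fun e he w hw hwa => by
      rw [← h e he]; exact hsign e he w hw hwa
  · obtain ⟨g, hg, hg2⟩ := d.fr.co_surj 2 (by norm_num)
    have hgz := d.fr.es.comm g hg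
    have hgm : Commute g m := hm.cent g hg (by rw [hg2]; rfl) (by rw [hg2]; rfl)
    have hF' := d.form_shift haw hF hg hg2
    have hmt : g * (m * t) * g⁻¹ = m * (g * t * g⁻¹) := by
      rw [← mul_assoc, hgm.eq]; group
    rw [hmt] at hF'
    have htz' : Commute (g * t * g⁻¹) z := (hgz.mul_left htz).mul_left hgz.inv_left
    have hk' : ∀ k < 256, ac (g * t * g⁻¹) k = stdF s k := fun k hk' => by
      rw [d.fr.ac_conj htz hgz hk', d.fr.ac_Q (inv_mem hg) hk', hk k hk',
        d.fr.ac_Q hg ((stdF_lin hs5).lt k hk')]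
    obtain ⟨c, t', e, h'⟩ := d.isConj_eich_of_rho hs hm hF' htz' (mul_self_conj ht g) hk'
      fun e he w hw hwa => by rw [← h e he]; exact hsign e he w hw hwa
    exact ⟨c, t', (isConj_iff.2 ⟨g, rfl⟩).trans e, h'⟩

/-- Every involution is conjugate to `z` or to one of two products. -/
theorem isConj_std {t : G} (ht : orderOf t = 2) :
    IsConj t z ∨ ∃ t', IsConj t t' ∧
      (Form Q co ac n z t' 4 16 ∨ Form Q co ac n z t' 12 52) := by
  obtain ⟨g, hg⟩ := d.fr.exists_conj_commute ht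
  have hto : ∀ c : G, orderOf (c * t * c⁻¹) = 2 := fun c => by
    rw [← ht]
    exact orderOf_injective (MulAut.conj c).toMonoidHom (MulAut.conj c).injective t
  have hsq : ∀ {u : G}, orderOf u = 2 → u * u = 1 := fun {u} hu => by
    rw [← pow_two, ← hu, pow_orderOf_eq_one]
  have htc : IsConj t (g * t * g⁻¹) := isConj_iff.2 ⟨g, rfl⟩
  by_cases hQ : g * t * g⁻¹ ∈ Q
  · exact Or.inl (htc.trans (d.isConj_Q hQ (hto g)).symm)
  obtain ⟨t₁, h1, h1z, h12, s, hs, hk⟩ : ∃ t₁, IsConj t t₁ ∧ Commute t₁ z ∧ t₁ * t₁ = 1 ∧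
      ∃ s < 2, ∀ k < 256, ac t₁ k = stdF s k := by
    obtain ⟨c, hc, s, hs, hk⟩ := d.fr.exists_std hg (hsq (hto g)) hQ
    have hcz : Commute (c * (g * t * g⁻¹) * c⁻¹) z := (hc.mul_left hg).mul_left hc.inv_left
    have hcc : IsConj t (c * (g * t * g⁻¹) * c⁻¹) := htc.trans (isConj_iff.2 ⟨c, rfl⟩)
    have hc2 : c * (g * t * g⁻¹) * c⁻¹ * (c * (g * t * g⁻¹) * c⁻¹) = 1 :=
      mul_self_conj (hsq (hto g)) c
    by_cases h2 : s < 2
    · exact ⟨_, hcc, hcz, hc2, s, h2, hk⟩
    · obtain ⟨e, t', hct, ht'z, ht'2, hez, hs'⟩ := d.isConj_eich (s := s)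
        (by simp only [List.mem_cons, List.not_mem_nil, or_false]; omega) hcz hc2 hk
      exact ⟨_, (hcc.trans hct).trans (isConj_iff.2 ⟨e, rfl⟩),
        (hez.mul_left ht'z).mul_left hez.inv_left, mul_self_conj ht'2 e, hs'⟩
  obtain ⟨c, -, hS⟩ := d.std_of_eich hs h1z h12 hk
  have hcc : IsConj t (c * t₁ * c⁻¹) := h1.trans (isConj_iff.2 ⟨c, rfl⟩)
  rcases hS with hB | hS
  · refine Or.inl (hcc.trans (d.isConj_B hB ?_).symm)
    obtain ⟨e, he⟩ := isConj_iff.1 hcc
    rw [← he]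
    exact hto e
  · exact Or.inr ⟨_, hcc, hS⟩

end Duo

end Cfsg.Agent.Lib.Co1Type31
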