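import Cfsg.Agent.Lib.Co1Type31.Frame

/-!
# Conway type: computations for the centraliser of the product with parameters `12, 52`

`o4` is the perpendicular of `⟨12, 52⟩` in the space of dimension six, an elliptic space of dimension
four with five singular points.

Owner: helper31.
-/

set_option autoImplicit false
set_option maxRecDepth 100000

namespace Cfsg.Agent.Lib.Co1Type31

/-- The perpendicular of the two parameters. -/
def o4 : List ℕ := [0, 28, 44, 48, 64, 92, 108, 112, 128, 156, 172, 176, 192, 220, 236, 240]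

/-- The coordinates of `Q ∩ C(c)`. -/
def fc : List ℕ := o4 ++ o4.map (· ^^^ 1)

/-- The five singular vectors. -/
def five : List ℕ := [64, 128, 236, 240, 220]

/-- The five-cycle of the five singular vectors. -/
def cyc (s : ℕ) : ℕ := five.getD ((five.idxOf s + 1) % 5) 0

/-- The map of the five singular vectors given by a code. -/
def fmap (code s : ℕ) : ℕ := five.getD (code / 5 ^ five.idxOf s % 5) 0

/-- Iteration on a single value. -/
def it (f : ℕ → ℕ) : ℕ → ℕ → ℕ
  | 0, s => s
  | m + 1, s => f (it f m s)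

/-- The code of a map of the five singular vectors. -/
def fcode (f : ℕ → ℕ) : ℕ :=
  five.idxOf (f 64) + 5 * (five.idxOf (f 128) + 5 * (five.idxOf (f 236) + 5 * (five.idxOf (f 240) +
    5 * five.idxOf (f 220))))

theorem sep_c : ∀ i j : Bool, ∃ k ∈ w6, bn 12 k = i ∧ bn 52 k = j := by
  intro i j; cases i <;> cases j <;> decide +kernel

theorem o4_spec : ∀ e ∈ o4, e ∈ w6 ∧ e ∈ fc ∧ bn 12 e = false ∧ bn 52 e = false := by decide +kernel

theorem fc_spec : ∀ k ∈ fc, k < 256 ∧ b1 k = false ∧ bn 12 k = false ∧ bn 52 k = false ∧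
    k &&& 252 ∈ o4 := by decide +kernel

theorem fc_cover : all8.all (fun k => b1 k || bn 12 k || bn 52 k || fc.contains k) = true := by
  decide +kernel

theorem eich12_fix : ∀ k < 256, eich 12 k = k → b1 k = false ∧ bn 12 k = false := by decide +kernel

theorem eich12_point : ∀ k < 256, (eich 12 k ^^^ k ≠ 0 → qn (eich 12 k ^^^ k) = false →
    eich 12 k ^^^ k = 1) := by decide +kernel

theorem eich12_twelve : ∀ k < 256, b1 k = true → (eich 12 k ^^^ k) &&& 252 = 12 := by decide +kernel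

theorem eich4_sing : ∀ k < 256, qn (eich 4 k ^^^ k) = false := by decide +kernel

theorem five_spec : ∀ s ∈ five, s ∈ o4 ∧ s < 256 ∧ b1 s = false ∧ qn s = false := by decide +kernel

theorem five_cover : ∀ k ∈ fc, qn k = false → k &&& 252 = 0 ∨ k &&& 252 ∈ five := by decide +kernel

theorem five_span : ∀ e ∈ o4, e = 0 ∨ e ∈ five ∨ ∃ s ∈ five, ∃ t ∈ five, e = s ^^^ t := by
  decide +kernel

theorem third_param : ∀ a ∈ w6, qn a = true → bn 12 a = true →
    (∀ s ∈ five, bn s a = false) → a = 52 ∨ a = 56 := by decide +kernel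

theorem bits6_split : ∀ j ∈ bits6, ∃ a ∈ [0, 12], ∃ b ∈ [0, 52], ∃ e ∈ o4, j = a ^^^ (b ^^^ e) := by
  decide +kernel

theorem refl12_spec : (12 : ℕ) ∈ ns6 ∧ refl 12 52 = 56 ∧ refl 12 56 = 52 ∧ refl 12 12 = 12 ∧
    ∀ s ∈ five, refl 12 s = s := by decide +kernel

theorem beta_cases : ∀ a ∈ w6, (∀ s ∈ five, bn a s = false) → a ∈ [0, 12, 52, 56] := by decide +kernel

theorem rest_cases : all8.all (fun k => (fc.any fun l => bn k l) ||
    (!(b1 k) && [0, 12, 52, 56].contains (k &&& 252))) = true := by decide +kernel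

theorem central_cases : ∀ a ∈ [0, 12, 52, 56], ∀ v ∈ [0, 12, 52, 56],
    bn a v = qn a → qn v = bn a v →
    Bool.xor (Bool.xor (bn a 12) (bn v 12)) (bn a 52) = false →
    Bool.xor (bn v 12) (Bool.xor (bn a 52) (bn v 52)) = false →
    pr (12, 28) a = a → pr (12, 28) v ^^^ pr (12, 28) a = v →
    (a = 0 ∧ v = 0) ∨ (a = 12 ∧ v = 52) := by decide +kernel

theorem flip_c : ((12, 28) : ℕ × ℕ) ∈ pairs6 ∧ pr (12, 28) 12 = 12 ∧ pr (12, 28) 52 ^^^ 12 = 52 ∧
    agree (fun k => pr (12, 28) (pr (12, 28) k)) id = true := by decide +kernel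

theorem cycle_c : ((28, 44) : ℕ × ℕ) ∈ pairs6 ∧ ((92, 156) : ℕ × ℕ) ∈ pairs6 ∧
    pr (92, 156) 12 = 12 ∧ pr (92, 156) 52 = 52 ∧ pr (28, 44) 12 = 12 ∧ pr (28, 44) 52 = 52 ∧
    ∀ s ∈ five, pr (28, 44) (pr (92, 156) s) = cyc s := by decide +kernel

theorem fcode_lt : ∀ a ∈ five, ∀ b ∈ five, ∀ c ∈ five, ∀ e ∈ five, ∀ f ∈ five,
    five.idxOf a + 5 * (five.idxOf b + 5 * (five.idxOf c + 5 * (five.idxOf e + 5 * five.idxOf f))) < 3125 := by
  intro a ha b hb c hc e he f hf
  have h : ∀ a ∈ five, five.idxOf a < 5 := by decide +kernel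
  have := h a ha
  have := h b hb
  have := h c hc
  have := h e he
  have := h f hf
  omega

/-- A two-element of a two-group normalised by a five-cycle fixes the five points. -/
theorem no_move : (List.range 3125).all (fun code =>
    (five.all fun s => Nat.beq (fmap code s) s) ||
      !(five.all fun s => Nat.beq (it (fmap code) 4 s) s) ||
      !((List.range 5).all fun i => five.all fun s => Nat.beq
        (it (fun u => it (fmap code) 3 (it cyc i (fmap code (it cyc (5 - i) u)))) 4 s) s)) = true := by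
  decide +kernel

theorem fmap_fcode {f : ℕ → ℕ} (hf : ∀ s ∈ five, f s ∈ five) : ∀ s ∈ five, fmap (fcode f) s = f s := by
  have h : ∀ a ∈ five, five.idxOf a < 5 ∧ five.getD (five.idxOf a) 0 = a := by decide +kernel
  have h1 := h _ (hf 64 (by decide))
  have h2 := h _ (hf 128 (by decide))
  have h3 := h _ (hf 236 (by decide))
  have h4 := h _ (hf 240 (by decide))
  have h5 := h _ (hf 220 (by decide))
  intro s hs
  simp only [five, List.mem_cons, List.not_mem_nil, or_false] at hs
  have key : ∀ a b c e g : ℕ, a < 5 → b < 5 → c < 5 → e < 5 → g < 5 →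
      let m := a + 5 * (b + 5 * (c + 5 * (e + 5 * g)))
      m / 5 ^ 0 % 5 = a ∧ m / 5 ^ 1 % 5 = b ∧ m / 5 ^ 2 % 5 = c ∧ m / 5 ^ 3 % 5 = e ∧ m / 5 ^ 4 % 5 = g := by
    intro a b c e g ha hb hc he hg
    simp only [pow_zero, pow_one, Nat.reducePow]
    omega
  obtain ⟨k0, k1, k2, k3, k4⟩ := key _ _ _ _ _ h1.1 h2.1 h3.1 h4.1 h5.1
  rcases hs with rfl | rfl | rfl | rfl | rfl
  · rw [fmap, show five.idxOf 64 = 0 by decide, fcode, k0, h1.2]
  · rw [fmap, show five.idxOf 128 = 1 by decide, fcode, k1, h2.2]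
  · rw [fmap, show five.idxOf 236 = 2 by decide, fcode, k2, h3.2]
  · rw [fmap, show five.idxOf 240 = 3 by decide, fcode, k3, h4.2]
  · rw [fmap, show five.idxOf 220 = 4 by decide, fcode, k4, h5.2]

end Cfsg.Agent.Lib.Co1Type31
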