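import Cfsg.Agent.Lib.Co1Type31.Local
import Cfsg.Agent.Lib.Co1Type31.DataC
import Cfsg.Agent.Lib.Co1Type31.Classes

/-!
# Conway type: a Sylow two-subgroup of the centraliser of the product with parameters `12, 52`

It lies in `C(z)`. An element fixing the five singular vectors of the perpendicular of the parameters
acts as a transvection.

Owner: helper31.
-/

set_option autoImplicit false
set_option maxRecDepth 100000

namespace Cfsg.Agent.Lib.Co1Type31

variable {G : Type*} [Group G]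

namespace Duo

variable {z : G} {Q : Subgroup G} {co : G → ℕ} {ac : G → ℕ → ℕ} {x n : G}
  (d : Duo z Q co ac x n) {b : G}
include d

theorem fc_of_comm (hb : Form Q co ac n z b 12 52) {q : G} (hq : q ∈ Q) (hqb : Commute q b) :
    co q ∈ fc := by
  obtain ⟨hbz, hbk⟩ := d.form_commute hb
  have hlt := d.fr.co_lt q hq
  have e := d.fr.conj b hbz q hq
  rw [mul_inv_eq_iff_eq_mul.2 hqb.eq.symm, hbk _ hlt] at e
  obtain ⟨h1, h12⟩ := eich12_fix _ hlt e.symm
  have e2 := d.form_wconj (by decide +kernel : (12 : ℕ) ∈ w6) hb ⟨hq, h1⟩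
  rw [mul_inv_eq_iff_eq_mul.2 hqb.eq, h12, Bool.false_xor, eq_comm, mul_eq_left, ← d.ee_zero] at e2
  have h52 := (d.ee_inj e2).2
  have := List.all_eq_true.1 fc_cover _ (mem_all8.2 hlt)
  simpa [h1, h12, h52] using this

theorem comm_of_fc (hb : Form Q co ac n z b 12 52) {q : G} (hq : q ∈ Q) (hk : co q ∈ fc) :
    Commute q b := by
  obtain ⟨-, h1, h12, h52, -⟩ := fc_spec _ hk
  have e := d.form_wconj (by decide +kernel : (12 : ℕ) ∈ w6) hb ⟨hq, h1⟩
  rw [h12, h52, Bool.xor_false, d.ee_zero, mul_one] at e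
  exact mul_inv_eq_iff_eq_mul.1 e

/-- An element of `C(z) ∩ C(b)` fixes the point, the first parameter modulo it, and the coordinates. -/
theorem stab_c (hb : Form Q co ac n z b 12 52) {g : G} (hgz : Commute g z) (hgb : Commute g b) :
    ac g 1 = 1 ∧ ac g 12 &&& 252 = 12 ∧ ∀ k ∈ fc, ac g k ∈ fc := by
  obtain ⟨hbz, hbk⟩ := d.form_commute hb
  have hG := d.fr.iso hgz
  have h12 : (12 : ℕ) ∈ w6 := by decide +kernel
  have hE : ∀ k < 256, ac g (eich 12 k) = eich 12 (ac g k) := fun k hk => by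
    rw [← hbk k hk, ← d.fr.ac_mul hgz hbz hk, hgb.eq, d.fr.ac_mul hbz hgz hk, hbk _ (hG.lt k hk)]
  have hD : ∀ k < 256, ac g (eich 12 k ^^^ k) = eich 12 (ac g k) ^^^ ac g k := fun k hk => by
    rw [hG.add _ (eich_lt h12 hk) k hk, hE k hk]
  have h1 : ac g 1 = 1 := by
    have e := hD 4 (by norm_num)
    rw [show eich 12 4 ^^^ 4 = 1 by decide +kernel] at e
    have hne : ac g 1 ≠ 0 := fun h0 => by
      have := congrArg (ac g⁻¹) h0
      rw [d.fr.ac_inv hgz (by norm_num), (d.fr.iso hgz.inv_left).zero] at this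
      omega
    rw [e] at hne ⊢
    exact eich12_point _ (hG.lt 4 (by norm_num)) hne
      (by rw [← e, hG.pres 1 (by norm_num)]; decide +kernel)
  refine ⟨h1, ?_, fun k hk => ?_⟩
  · have e := hD 2 (by norm_num)
    rw [show eich 12 2 ^^^ 2 = 12 ^^^ 1 by decide +kernel, hG.add 12 (by norm_num) 1 (by norm_num),
      h1] at e
    have h := eich12_twelve _ (hG.lt 2 (by norm_num))
      (by rw [hG.b1_eq' h1 (by norm_num)]; decide +kernel)
    rwa [← e, xor_mask, show (1 : ℕ) &&& 252 = 0 by decide, Nat.xor_zero] at h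
  · obtain ⟨r, hr, rfl⟩ := d.fr.co_surj k (fc_spec k hk).1
    rw [← d.fr.conj g hgz r hr]
    refine d.fc_of_comm hb (d.fr.norm g hgz r hr) ?_
    simpa [mul_inv_eq_iff_eq_mul.2 hgb.eq] using (d.comm_of_fc hb hr hk).map (MulAut.conj g).toMonoidHom

/-- The induced map of the five singular vectors. -/
theorem five_map (hb : Form Q co ac n z b 12 52) {g : G} (hgz : Commute g z) (hgb : Commute g b) {s : ℕ}
    (hs : s ∈ five) : ac g s &&& 252 ∈ five := by
  obtain ⟨ho, hsl, -, hsq⟩ := five_spec s hs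
  obtain ⟨h1, -, hF⟩ := d.stab_c hb hgz hgb
  have hG := d.fr.iso hgz
  refine (five_cover _ (hF s (o4_spec s ho).2.1) (by rw [hG.pres s hsl]; exact hsq)).resolve_left
    fun h0 => ?_
  rcases mask_cases (hG.lt s hsl) ((hG.b1_eq' h1 hsl).trans (five_spec s hs).2.2.1) with e | e <;>
    rw [h0] at e
  · have := congrArg (ac g⁻¹) e
    rw [d.fr.ac_inv hgz hsl, (d.fr.iso hgz.inv_left).zero] at this
    subst this
    exact absurd hs (by decide)
  · have := congrArg (ac g⁻¹) (e.trans h1.symm)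
    rw [d.fr.ac_inv hgz hsl, d.fr.ac_inv hgz (by norm_num)] at this
    subst this
    exact absurd hs (by decide)

theorem five_mul (hb : Form Q co ac n z b 12 52) {g g' : G} (hgz : Commute g z) (hgb : Commute g b)
    (hgz' : Commute g' z) (hgb' : Commute g' b) {s : ℕ} (hs : s ∈ five) :
    ac (g * g') s &&& 252 = ac g (ac g' s &&& 252) &&& 252 := by
  have hsl := (five_spec s hs).2.1
  have hG := d.fr.iso hgz
  have h1 := (d.stab_c hb hgz hgb).1
  have hlt := (d.fr.iso hgz').lt s hsl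
  have hb1 : b1 (ac g' s) = false :=
    ((d.fr.iso hgz').b1_eq' (d.stab_c hb hgz' hgb').1 hsl).trans (five_spec s hs).2.2.1
  rw [d.fr.ac_mul hgz hgz' hsl]
  have hm : ac g' s &&& 252 < 256 := lt_of_w6 (mem_w6 hlt)
  rcases mask_cases hlt hb1 with e | e
  · rw [← e]
  · conv_lhs => rw [e, hG.add _ hm 1 (by norm_num), h1, xor_mask, show (1 : ℕ) &&& 252 = 0 by decide,
      Nat.xor_zero]

/-- An element fixing the five singular vectors acts as a transvection. -/
theorem eich_of_five (hb : Form Q co ac n z b 12 52) {g : G} (hgz : Commute g z) (hgb : Commute g b)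
    (hfix : ∀ s ∈ five, ac g s &&& 252 = s) : ∃ a ∈ w6, ∀ k < 256, ac g k = eich a k := by
  obtain ⟨h1, h12, -⟩ := d.stab_c hb hgz hgb
  have hG := d.fr.iso hgz
  have hmask : ∀ {j}, j < 256 → b1 j = false → b1 (ac g j) = false := fun hj h =>
    (hG.b1_eq' h1 hj).trans h
  have h52w : (52 : ℕ) ∈ w6 := by decide +kernel
  have hxor : ∀ {i j : ℕ}, i < 256 → j < 256 → ac g (i ^^^ j) &&& 252 = (ac g i &&& 252) ^^^ (ac g j &&& 252) :=
    fun hi hj => by rw [hG.add _ hi _ hj, xor_mask]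
  have ho : ∀ e ∈ o4, ac g e &&& 252 = e := fun e he => by
    rcases five_span e he with rfl | hs | ⟨s, hs, t, ht, rfl⟩
    · rw [hG.zero]; rfl
    · exact hfix e hs
    · rw [hxor (five_spec s hs).2.1 (five_spec t ht).2.1, hfix s hs, hfix t ht]
  set a := ac g 52 &&& 252 with ha
  have ha6 : a ∈ w6 := mem_w6 (hG.lt 52 (by norm_num))
  have hb52 := hmask (show 52 < 256 by norm_num) (by decide +kernel)
  have hbn : ∀ i < 256, b1 i = false → bn (ac g i &&& 252) a = bn i 52 := fun i hi hi1 => by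
    rw [ha, bn_mask2 (hG.lt i hi) (hG.lt 52 (by norm_num)) (hmask hi hi1) hb52, hG.bn_eq hi (by norm_num)]
  have hcases : a = 52 ∨ a = 56 := by
    refine third_param a ha6 ?_ ?_ fun s hs => ?_
    · rw [ha, qn_mask (hG.lt 52 (by norm_num)) hb52, hG.pres 52 (by norm_num)]
      decide +kernel
    · have := hbn 12 (by norm_num) (by decide +kernel)
      rw [h12] at this
      rw [this]
      decide +kernel
    · have := hbn s (five_spec s hs).2.1 (five_spec s hs).2.2.1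
      rw [hfix s hs] at this
      rw [this, bn_comm]
      exact (o4_spec s (five_spec s hs).1).2.2.2
  have main : ∀ {f : ℕ → ℕ}, Iso8 f → f 1 = 1 → (∀ e ∈ o4, f e &&& 252 = e) → f 12 &&& 252 = 12 →
      f 52 &&& 252 = 52 → ∃ c ∈ w6, ∀ k < 256, f k = eich c k := by
    intro f hf hf1 hfo hf12 hf52
    refine hf.eich_of_radical hf1 fun j hj => ?_
    obtain ⟨p, hp, q, hq, e, he, hj'⟩ := bits6_split j hj
    have hjl := lt_of_w6 (bits6_w6 j hj)
    have hfj : f j &&& 252 = j := by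
      have hpl : p < 256 ∧ f p &&& 252 = p := by
        simp only [List.mem_cons, List.not_mem_nil, or_false] at hp
        rcases hp with rfl | rfl
        · exact ⟨by norm_num, by rw [hf.zero]; rfl⟩
        · exact ⟨by norm_num, hf12⟩
      have hql : q < 256 ∧ f q &&& 252 = q := by
        simp only [List.mem_cons, List.not_mem_nil, or_false] at hq
        rcases hq with rfl | rfl
        · exact ⟨by norm_num, by rw [hf.zero]; rfl⟩
        · exact ⟨by norm_num, hf52⟩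
      have hel := lt_of_w6 (o4_spec e he).1
      rw [hj', hf.add _ hpl.1 _ (xor_lt hql.1 hel), hf.add _ hql.1 _ hel, xor_mask, xor_mask, hpl.2,
        hql.2, hfo e he]
    have hjb : b1 (f j) = false := (hf.b1_eq' hf1 hjl).trans (w6_spec j (bits6_w6 j hj)).2.2.1
    rcases mask_cases (hf.lt j hjl) hjb with e' | e' <;> rw [hfj] at e'
    · exact Or.inl e'
    · exact Or.inr e'
  rcases hcases with e | e
  · exact main hG h1 ho h12 e
  · exfalso
    obtain ⟨r12, r52, r56, r1212, rs⟩ := refl12_spec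
    have hR : Iso8 (refl 12) := ⟨refl_lin (by norm_num), fun k _ => refl_qn (by decide +kernel)⟩
    have hC : Iso8 (fun k => refl 12 (ac g k)) :=
      ⟨hR.toLin8.comp hG.toLin8, fun k hk => (hR.pres _ (hG.lt k hk)).trans (hG.pres k hk)⟩
    have hrm : ∀ {k}, k < 256 → refl 12 k &&& 252 = refl 12 (k &&& 252) := fun hk => (refl_mask r12 hk).1
    obtain ⟨c, hc, hck⟩ := main hC (by show refl 12 (ac g 1) = 1; rw [h1, refl_one r12])
      (fun e he => by
        show refl 12 (ac g e) &&& 252 = e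
        rw [hrm (hG.lt e (lt_of_w6 (o4_spec e he).1)), ho e he, refl,
          show bn 12 e = false from (o4_spec e he).2.2.1]
        rfl)
      (by show refl 12 (ac g 12) &&& 252 = 12; rw [hrm (hG.lt 12 (by norm_num)), h12, r1212])
      (by show refl 12 (ac g 52) &&& 252 = 52; rw [hrm (hG.lt 52 (by norm_num)), ← ha, e, r56])
    obtain ⟨u, hu, huk⟩ := d.lift c hc
    refine d.fr.not_refl (g * u) (hgz.mul_left hu.2) 12 (by norm_num) (by decide +kernel) fun k hk => ?_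
    rw [d.fr.ac_mul hgz hu.2 hk, huk k hk]
    have hl := eich_lt hc hk
    have h := hck _ hl
    rw [eich_self hc hk] at h
    conv_rhs => rw [← h]
    rw [refl_refl (by norm_num) (hG.lt _ hl)]

variable [Finite G]

/-- The elements acting as transvections. -/
def kerC (b : G) : Subgroup G where
  carrier := {g | Commute g z ∧ Commute g b ∧ ∃ a ∈ w6, ∀ k < 256, ac g k = eich a k}
  one_mem' := ⟨Commute.one_left z, Commute.one_left b, 0, by decide +kernel,
    fun k hk => by rw [d.fr.ac_Q (one_mem Q) hk, eich_zero hk]⟩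
  mul_mem' := by
    rintro g g' ⟨hg, hgb, a, ha, e⟩ ⟨hg', hgb', a', ha', e'⟩
    exact ⟨hg.mul_left hg', hgb.mul_left hgb', _, w6_xor ha ha', fun k hk => by
      rw [d.fr.ac_mul hg hg' hk, e' k hk, e _ (eich_lt ha' hk), eich_mul ha ha' hk]⟩
  inv_mem' := by
    rintro g ⟨hg, hgb, a, ha, e⟩
    refine ⟨hg.inv_left, hgb.inv_left, a, ha, fun k hk => ?_⟩
    conv_lhs => rw [← eich_self ha hk, ← e _ (eich_lt ha hk)]
    exact d.fr.ac_inv hg (eich_lt ha hk)

omit [Finite G] in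
theorem kerC_isPGroup : IsPGroup 2 (d.kerC b) := by
  rintro ⟨g, hg, hgb, a, ha, e⟩
  refine ⟨3, Subtype.ext ?_⟩
  show g ^ (2 ^ 3) = 1
  have hq : g * g ∈ Q := d.fr.faithful _ (hg.mul_left hg) fun k hk => by
    rw [d.fr.ac_mul hg hg hk, e k hk, e _ (eich_lt ha hk), eich_self ha hk]
  have e4 : g ^ (2 ^ 3) = g * g * (g * g) * (g * g * (g * g)) := by
    norm_num [pow_succ, mul_assoc]
  rw [e4, d.fr.sq _ hq, pw_mul d.fr.es.sq, Bool.xor_self]
  rfl

omit [Finite G] in
theorem kerC_conj (hb : Form Q co ac n z b 12 52) {g u : G} (hgz : Commute g z) (hgb : Commute g b)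
    (hu : u ∈ d.kerC b) : g * u * g⁻¹ ∈ d.kerC b := by
  obtain ⟨huz, hub, a, ha, e⟩ := hu
  have hz : Commute (g * u * g⁻¹) z := (hgz.mul_left huz).mul_left hgz.inv_left
  refine ⟨hz, (hgb.mul_left hub).mul_left hgb.inv_left, ?_⟩
  have h1 := (d.stab_c hb hgz hgb).1
  have h1i := (d.stab_c hb hgz.inv_left hgb.inv_left).1
  refine (d.fr.iso hz).eich_of_radical ?_ fun j hj => ?_
  · rw [d.fr.ac_conj huz hgz (by norm_num), h1i, e 1 (by norm_num), eich_trivial (by decide +kernel),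
      show bn a 1 = false by rw [b1_eq (lt_of_w6 ha)]; exact (w6_spec a ha).2.2.1]
    exact h1
  · have hjl := lt_of_w6 (bits6_w6 j hj)
    have hG := d.fr.iso hgz.inv_left
    rw [d.fr.ac_conj huz hgz hjl, e _ (hG.lt j hjl),
      eich_trivial ((hG.b1_eq' h1i hjl).trans (w6_spec j (bits6_w6 j hj)).2.2.1)]
    cases bn a (ac g⁻¹ j)
    · exact Or.inl (d.fr.ac_inv' hgz hjl)
    · refine Or.inr ?_
      rw [cond_true, d.fr.ac_xor hgz (hG.lt j hjl) (by norm_num), d.fr.ac_inv' hgz hjl, h1]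

omit [Finite G] in
theorem kerC_Q (hb : Form Q co ac n z b 12 52) {q : G} (hq : q ∈ Q) (hk : co q ∈ fc) : q ∈ d.kerC b :=
  ⟨d.fr.es.comm q hq, d.comm_of_fc hb hq hk, 0, by decide +kernel,
    fun k hk' => by rw [d.fr.ac_Q hq hk', eich_zero hk']⟩

omit [Finite G] in
/-- A maximal two-subgroup of `C(z) ∩ C(b)` containing the transvections and a flip. -/
theorem exists_sylC (hb : Form Q co ac n z b 12 52) :
    ∃ (T : Subgroup G) (h : G), IsPGroup 2 T ∧ d.kerC b ≤ T ∧ h ∈ T ∧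
      (∀ a ∈ T, Commute a z ∧ Commute a b) ∧
      (∀ J : Subgroup G, IsPGroup 2 J → (∀ a ∈ J, Commute a z ∧ Commute a b) → T ≤ J → J = T) ∧
      h * x * h⁻¹ = x * z ∧
      ∀ t a' v', a' ∈ w6 → Form Q co ac n z t a' v' →
        Form Q co ac n z (h * t * h⁻¹) (pr (12, 28) a') (pr (12, 28) v' ^^^ pr (12, 28) a') := by
  have : Fact (Nat.Prime 2) := ⟨Nat.prime_two⟩
  obtain ⟨hp, hp12, hp52, hpp⟩ := flip_c
  obtain ⟨h, hhz, hhb, hhx, hhk, hhF⟩ := d.exists_flip (p := (12, 28)) (by decide +kernel) hp hp12 hp52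
    sep_c hb
  have hl := pairs6_lin hp
  have h2 : h * h ∈ Q := d.fr.faithful _ (hhz.mul_left hhz) fun k hk => by
    rw [d.fr.ac_mul hhz hhz hk, hhk k hk, hhk _ (hl.lt k hk)]
    exact (hl.comp hl).ext Lin8.id' hpp k hk
  have h8 : h ^ 8 = 1 := by
    have e4 : h ^ 8 = h * h * (h * h) * (h * h * (h * h)) := by
      simp only [pow_succ, pow_zero, one_mul, mul_assoc]
    rw [e4, d.fr.sq _ h2, pw_mul d.fr.es.sq, Bool.xor_self]
    rfl
  have hH : IsPGroup 2 (Subgroup.zpowers h) := by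
    rintro ⟨u, m, rfl⟩
    refine ⟨3, Subtype.ext ?_⟩
    show (h ^ m) ^ (2 ^ 3) = 1
    rw [show (2 : ℕ) ^ 3 = 8 from rfl, ← zpow_natCast (h ^ m) 8, ← zpow_mul, mul_comm, zpow_mul,
      zpow_natCast, h8, one_zpow]
  have hcomm : ∀ {a : G}, a ∈ Subgroup.zpowers h → Commute a z ∧ Commute a b := by
    rintro a ⟨m, rfl⟩
    exact ⟨hhz.zpow_left m, hhb.zpow_left m⟩
  have hKh : IsPGroup 2 (d.kerC b ⊔ Subgroup.zpowers h : Subgroup G) := by
    refine d.kerC_isPGroup.to_sup_of_normal_left' hH fun a ha => ?_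
    obtain ⟨haz, hab⟩ := hcomm ha
    refine Subgroup.mem_normalizer_iff.2 fun u => ⟨d.kerC_conj hb haz hab, fun hu => ?_⟩
    have := d.kerC_conj hb haz.inv_left hab.inv_left hu
    simpa [mul_assoc] using this
  set H := Subgroup.centralizer ({z} : Set G) ⊓ Subgroup.centralizer ({b} : Set G) with hHd
  have hmem : ∀ {a : G}, a ∈ H ↔ Commute a z ∧ Commute a b := fun {a} =>
    ⟨fun h => ⟨Subgroup.mem_centralizer_singleton_iff.1 h.1, Subgroup.mem_centralizer_singleton_iff.1 h.2⟩,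
      fun h => ⟨Subgroup.mem_centralizer_singleton_iff.2 h.1.eq,
        Subgroup.mem_centralizer_singleton_iff.2 h.2.eq⟩⟩
  have hle : d.kerC b ⊔ Subgroup.zpowers h ≤ H :=
    sup_le (fun a ha => hmem.2 ⟨ha.1, ha.2.1⟩) fun a ha => hmem.2 (hcomm ha)
  obtain ⟨P, hP⟩ := (hKh.of_equiv (Subgroup.subgroupOfEquivOfLe hle).symm).exists_le_sylow
  have hsub : d.kerC b ⊔ Subgroup.zpowers h ≤ (P : Subgroup H).map H.subtype :=
    fun a ha => ⟨⟨a, hle ha⟩, hP ha, rfl⟩
  refine ⟨(P : Subgroup H).map H.subtype, h, P.2.map _, le_sup_left.trans hsub,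
    hsub (Subgroup.mem_sup_right (Subgroup.mem_zpowers h)),
    fun a ha => hmem.1 (Subgroup.map_subtype_le _ ha), fun J hJ hJc hTJ => ?_, hhx, hhF⟩
  have hJH : J ≤ H := fun a ha => hmem.2 (hJc a ha)
  have hPJ : (P : Subgroup H) ≤ J.subgroupOf H := fun a ha => hTJ ⟨a, ha, rfl⟩
  have he := P.3 (hJ.of_equiv (Subgroup.subgroupOfEquivOfLe hJH).symm) hPJ
  exact le_antisymm (fun a ha => ⟨⟨a, hJH ha⟩, he ▸ ha, rfl⟩) hTJ

omit [Finite G] in
/-- The central involutions of such a subgroup. -/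
theorem sylC_center (hb : Form Q co ac n z b 12 52) {T : Subgroup G} {h : G} (hKT : d.kerC b ≤ T)
    (hhT : h ∈ T) (hbT : ∀ a ∈ T, Commute a b) (hhz : Commute h z) (hhx : h * x * h⁻¹ = x * z)
    (hhF : ∀ t a' v', a' ∈ w6 → Form Q co ac n z t a' v' →
      Form Q co ac n z (h * t * h⁻¹) (pr (12, 28) a') (pr (12, 28) v' ^^^ pr (12, 28) a'))
    {y : G} (hyz : Commute y z) (hyb : Commute y b) (hy2 : y * y = 1) (hyc : ∀ a ∈ T, Commute y a) :
    ∃ j, y = pw z j ∨ y = b * pw z j := by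
  have hfix : ∀ k ∈ fc, ac y k = k := fun k hk => by
    obtain ⟨r, hr, rfl⟩ := d.fr.co_surj k (fc_spec k hk).1
    rw [← d.fr.conj y hyz r hr, mul_inv_eq_iff_eq_mul.2 (hyc r (hKT (d.kerC_Q hb hr hk))).eq]
  obtain ⟨a, ha, hak⟩ := d.eich_of_five hb hyz hyb fun s hs => by
    obtain ⟨ho, -, -, -⟩ := five_spec s hs
    rw [hfix s (o4_spec s ho).2.1]
    exact (w6_spec s (o4_spec s ho).1).2.1
  have ha4 : a ∈ [0, 12, 52, 56] := by
    refine beta_cases a ha fun s hs => ?_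
    obtain ⟨ho, hsl, hs1, -⟩ := five_spec s hs
    have e := hfix s (o4_spec s ho).2.1
    rw [hak s hsl, eich_trivial hs1] at e
    cases hh : bn a s
    · rfl
    · rw [hh, cond_true] at e
      have := congrArg (fun k => k ^^^ s) e
      simp at this
  obtain ⟨u, hu, hua⟩ := d.lift a ha
  obtain ⟨r, hr⟩ : ∃ r, r = u⁻¹ * y := ⟨_, rfl⟩
  have hrQ : r ∈ Q := hr ▸ d.fr.faithful _ (hu.2.inv_left.mul_left hyz) fun k hk => by
    rw [d.fr.ac_mul hu.2.inv_left hyz hk, hak k hk, ← hua k hk, d.fr.ac_inv hu.2 hk]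
  have hyr : y = u * r := by rw [hr]; group
  have hrest : b1 (co r) = false ∧ co r &&& 252 ∈ [0, 12, 52, 56] := by
    have := List.all_eq_true.1 rest_cases _ (mem_all8.2 (d.fr.co_lt r hrQ))
    simp only [Bool.or_eq_true, List.any_eq_true, Bool.and_eq_true, Bool.not_eq_true',
      List.contains_iff_mem] at this
    refine this.resolve_left fun ⟨l, hl, hbl⟩ => ?_
    obtain ⟨s, hs, rfl⟩ := d.fr.co_surj l (fc_spec l hl).1
    obtain ⟨-, hs1, -, -, hso⟩ := fc_spec _ hl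
    have hea : bn a (co s) = false := by
      rw [← bn_mask ha (d.fr.co_lt s hs) hs1]
      have key : ∀ a ∈ [0, 12, 52, 56], ∀ e ∈ o4, bn a e = false := by decide +kernel
      exact key a ha4 _ hso
    have hsu : Commute s u := d.com_one ha hu hua hs (by rw [b1_eq (d.fr.co_lt s hs)]; exact hs1)
      (by rw [bn_comm]; exact hea)
    have hsy : Commute s y := (hyc s (hKT (d.kerC_Q hb hs hl))).symm
    have := (d.fr.commute_Q hrQ hs).1 (hr ▸ (hsu.inv_right.mul_right hsy)).symm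
    rw [this] at hbl
    cases hbl
  have hF : Form Q co ac n z y a (co r &&& 252) := ⟨u, r, hu, hua, ⟨hrQ, hrest.1⟩, rfl, hyr⟩
  generalize hv : co r &&& 252 = v at hrest hF
  have h12 : (12 : ℕ) ∈ w6 := by decide +kernel
  have hsq := d.form_sq ha hF
  rw [hy2, ← d.ee_zero] at hsq
  obtain ⟨q1, q2⟩ := d.ee_inj hsq
  have e1 : bn a v = qn a := by revert q1; cases bn a v <;> cases qn a <;> decide
  have e2 : qn v = bn a v := by revert q2; cases bn a v <;> cases qn v <;> decide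
  have hcm := d.form_comm ha hF hb fun w hw hwa => d.form_lift ha h12 hF hw hwa
  rw [mul_inv_eq_iff_eq_mul.2 hyb.eq, eq_comm, mul_eq_left, ← d.ee_zero] at hcm
  obtain ⟨c1, c2⟩ := d.ee_inj hcm
  have hfl := hhF y a v ha hF
  rw [mul_inv_eq_iff_eq_mul.2 (hyc h hhT).eq.symm] at hfl
  obtain ⟨f1, f2⟩ := d.form_params (pr_w6 flip_c.1 ha) ha hfl hF
  rcases central_cases a ha4 v hrest.2 e1 e2 c1 c2 f1 f2 with ⟨rfl, rfl⟩ | ⟨rfl, rfl⟩
  · have hyB := d.form_inB hF
    obtain ⟨i, j, rfl⟩ := d.act_zero hyB fun k hk => hak k hk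
    have e := d.ee_flip hhz hhx i j
    rw [mul_inv_eq_iff_eq_mul.2 (hyc h hhT).eq.symm] at e
    have := (d.ee_inj e).2
    cases i
    · exact ⟨j, Or.inl (one_mul _)⟩
    · cases j <;> cases this
  · obtain ⟨i, j, rfl⟩ := d.form_eq h12 hb hF
    have hbh : h * b * h⁻¹ = b := mul_inv_eq_iff_eq_mul.2 (hbT h hhT).eq
    have e : h * (b * ee z x i j) * h⁻¹ = b * ee z x i (Bool.xor i j) := by
      rw [show h * (b * ee z x i j) * h⁻¹ = (h * b * h⁻¹) * (h * ee z x i j * h⁻¹) by group, hbh,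
        d.ee_flip hhz hhx]
    rw [mul_inv_eq_iff_eq_mul.2 (hyc h hhT).eq.symm] at e
    have := (d.ee_inj (mul_left_cancel e)).2
    cases i
    · exact ⟨j, Or.inr (congrArg (b * ·) (one_mul _))⟩
    · cases j <;> cases this

/-- Some maximal two-subgroup of `C(z) ∩ C(b)` is a Sylow two-subgroup of `C(b)`. -/
theorem sylC_top (hb : Form Q co ac n z b 12 52) (hb2 : b * b = 1) :
    ∃ T : Subgroup G, IsPGroup 2 T ∧ (∀ a ∈ T, Commute a z ∧ Commute a b) ∧ z ∈ T ∧
      Nat.card T < 2 ^ 21 ∧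
      (∀ y ∈ T, y * y = 1 → (∀ a ∈ T, Commute y a) → ∃ j, y = pw z j ∨ y = b * pw z j) ∧
      ∀ S : Subgroup G, IsPGroup 2 S → (∀ a ∈ S, Commute a b) → Nat.card S ≤ Nat.card T := by
  obtain ⟨hbz, hbk⟩ := d.form_commute hb
  obtain ⟨T, h, hT, hKT, hhT, hTc, hmax, hhx, hhF⟩ := d.exists_sylC hb
  have hzT : z ∈ T := hKT (d.kerC_Q hb d.fr.es.mem (by rw [d.fr.co_z]; decide +kernel))
  have hcenter : ∀ y ∈ T, y * y = 1 → (∀ a ∈ T, Commute y a) → ∃ j, y = pw z j ∨ y = b * pw z j :=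
    fun y hy hy2 hyc => d.sylC_center hb hKT hhT (fun a ha => (hTc a ha).2) (hTc h hhT).1 hhx hhF
      (hTc y hy).1 (hTc y hy).2 hy2 hyc
  have hQ2 : IsPGroup 2 Q := IsPGroup.of_card (n := 9) (by rw [d.fr.card]; norm_num)
  have hTC : T ≤ Subgroup.centralizer ({z} : Set G) := fun a ha =>
    Subgroup.mem_centralizer_singleton_iff.2 (hTc a ha).1.eq
  have hlt : Nat.card T < 2 ^ 21 := by
    refine lt_of_le_of_ne (d.fr.two_le hT hTC) fun e => ?_
    have hTQ : IsPGroup 2 (T ⊔ Q : Subgroup G) := by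
      refine hT.to_sup_of_normal_right' hQ2 fun a ha => ?_
      refine Subgroup.mem_normalizer_iff.2 fun q => ⟨d.fr.norm a (hTc a ha).1 q, fun h => ?_⟩
      have := d.fr.norm a⁻¹ (hTc a ha).1.inv_left _ h
      simpa [mul_assoc] using this
    have hle : Nat.card (T ⊔ Q : Subgroup G) ≤ Nat.card T := by
      rw [e]
      exact d.fr.two_le hTQ (sup_le hTC fun q hq =>
        Subgroup.mem_centralizer_singleton_iff.2 (d.fr.es.comm q hq).eq)
    have he : T = T ⊔ Q := Subgroup.eq_of_le_of_card_ge le_sup_left hle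
    obtain ⟨q, hq, hq4⟩ := d.fr.co_surj 4 (by norm_num)
    have := d.fc_of_comm hb hq (hTc q (he.symm ▸ Subgroup.mem_sup_right hq)).2
    rw [hq4] at this
    exact absurd this (by decide)
  refine ⟨T, hT, hTc, hzT, hlt, hcenter, fun S hS hSb => ?_⟩
  by_contra hlt'
  obtain ⟨g, hgb, hgne, hgT, -⟩ := exists_moved (z := z) (fun a ha => (hTc a ha).1)
    (fun a ha => (hTc a ha).2) hT hS hSb (not_le.1 hlt') hmax
  have hcen : ∀ a ∈ T, Commute (g * z * g⁻¹) a := by
    intro a ha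
    have hfin : ∃ a' ∈ T, g * a' * g⁻¹ = a := by
      have hinj : Function.Injective fun a' : T => (⟨g * a' * g⁻¹, hgT _ a'.2⟩ : T) :=
        fun u v e => Subtype.ext (by simpa using congrArg Subtype.val e)
      obtain ⟨a', e⟩ := (Finite.injective_iff_surjective.1 hinj) ⟨a, ha⟩
      exact ⟨a', a'.2, congrArg Subtype.val e⟩
    obtain ⟨a', ha', rfl⟩ := hfin
    simpa using (hTc a' ha').1.symm.map (MulAut.conj g).toMonoidHom
  have hbQ : b ∉ Q := fun hm => by
    have := hbk 2 (by norm_num)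
    rw [d.fr.ac_Q hm (by norm_num)] at this
    exact absurd this (by decide +kernel)
  obtain ⟨j, hj⟩ := hcenter _ (hgT z hzT) (mul_self_conj d.fr.es.sq g) hcen
  have hgz : g * z * g⁻¹ = b * z := by
    rcases hj with hj | hj <;> cases j
    · exact absurd hj (by simpa [pw] using d.fr.es.ne)
    · exact absurd hj hgne
    · exfalso
      simp only [pw, cond_false, mul_one] at hj
      have e : z = b := by
        calc z = g⁻¹ * (g * z * g⁻¹) * g := by group
          _ = b := by rw [hj, mul_assoc, ← hgb.eq, inv_mul_cancel_left]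
      exact hbQ (e ▸ d.fr.es.mem)
    · exact hj
  -- a five-cycle in `C(z) ∩ C(b)`
  obtain ⟨hp1, hp2, a12, a52, c12, c52, hcyc⟩ := cycle_c
  obtain ⟨e₁, he₁, hex₁, hek₁⟩ := d.exists_prE hp1
  obtain ⟨e₂, he₂, hex₂, hek₂⟩ := d.exists_prE hp2
  have h12 : (12 : ℕ) ∈ w6 := by decide +kernel
  have hF1 := d.form_conj hp2 h12 he₂ hex₂ hek₂ hb
  rw [a12, a52] at hF1
  have hF2 := d.form_conj hp1 h12 he₁ hex₁ hek₁ hF1
  rw [c12, c52] at hF2
  obtain ⟨w, hw, hwb⟩ := d.form_unique h12 sep_c hF2 hb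
  have hwz := (d.A_comm hw).2
  set γ := w * e₁ * e₂ with hγ
  have hγz : Commute γ z := (hwz.mul_left he₁).mul_left he₂
  have hγb : Commute γ b := mul_inv_eq_iff_eq_mul.1 (by
    calc γ * b * γ⁻¹ = w * (e₁ * (e₂ * b * e₂⁻¹) * e₁⁻¹) * w⁻¹ := by rw [hγ]; group
      _ = b := hwb)
  have hγk : ∀ s ∈ five, ac γ s &&& 252 = cyc s := fun s hs => by
    have hsl := (five_spec s hs).2.1
    have h2 := (pairs6_lin hp2).lt s hsl
    rw [hγ, d.fr.ac_mul (hwz.mul_left he₁) he₂ hsl, hek₂ s hsl, d.fr.ac_mul hwz he₁ h2, hek₁ _ h2,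
      d.fr.ac_Q hw.1 ((pairs6_lin hp1).lt _ h2), hcyc s hs]
    have key : ∀ s ∈ five, cyc s &&& 252 = cyc s := by decide +kernel
    exact key s hs
  -- `C(z) ∩ C(b)` and the normal subgroup
  have hH : ∀ a, Commute a z → Commute a b →
      (Commute (g * a * g⁻¹) z ∧ Commute (g * a * g⁻¹) b) ∧
        (Commute (g⁻¹ * a * g) z ∧ Commute (g⁻¹ * a * g) b) := fun a => d.pair_norm hb2 hgb hgz
  have hfive : ∀ q ∈ Q, Commute q b → ∀ s ∈ five, ac (g * q * g⁻¹) s &&& 252 = s := by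
    intro q hq hqb
    set m := g * q * g⁻¹ with hm
    obtain ⟨hmz, hmb⟩ := (hH q (d.fr.es.comm q hq) hqb).1
    have hC : ∀ {a : G}, Commute a z ∧ Commute a b → ∀ s ∈ five, ac a s &&& 252 ∈ five :=
      fun h _ hs => d.five_map hb h.1 h.2 hs
    have hpowc : ∀ (a : G), Commute a z ∧ Commute a b → ∀ i : ℕ, Commute (a ^ i) z ∧ Commute (a ^ i) b :=
      fun a h i => ⟨h.1.pow_left i, h.2.pow_left i⟩
    have hit : ∀ (a : G) (f : ℕ → ℕ), Commute a z ∧ Commute a b → (∀ s ∈ five, ac a s &&& 252 = f s) →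
        ∀ i : ℕ, ∀ s ∈ five, ac (a ^ i) s &&& 252 = it f i s ∧ it f i s ∈ five := by
      intro a f ha hf i
      induction i with
      | zero =>
        intro s hs
        rw [pow_zero, d.fr.ac_Q (one_mem Q) (five_spec s hs).2.1]
        exact ⟨(w6_spec s (o4_spec s (five_spec s hs).1).1).2.1, hs⟩
      | succ i ih =>
        intro s hs
        obtain ⟨e, hmem⟩ := ih s hs
        obtain ⟨hiz, hib⟩ := hpowc a ha i
        rw [pow_succ', d.five_mul hb ha.1 ha.2 hiz hib hs, e, hf _ hmem]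
        exact ⟨rfl, by rw [show it f (i + 1) s = f (it f i s) from rfl, ← hf _ hmem]; exact hC ha _ hmem⟩
    have hQ4 : ∀ {r : G}, r ∈ Q → r ^ 4 = 1 := fun {r} hr => by
      rw [show r ^ 4 = r * r * (r * r) by simp only [pow_succ, pow_zero, one_mul, mul_assoc],
        d.fr.sq r hr, pw_mul d.fr.es.sq, Bool.xor_self]
      rfl
    have hg4 : ∀ {r : G}, r ∈ Q → (g * r * g⁻¹) ^ 4 = 1 := fun {r} hr => by
      rw [conj_pow, hQ4 hr, mul_one, mul_inv_cancel]
    set f := fmap (fcode fun s => ac m s &&& 252) with hf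
    have hmf : ∀ s ∈ five, ac m s &&& 252 = f s := fun s hs =>
      (fmap_fcode (f := fun s => ac m s &&& 252) (hC ⟨hmz, hmb⟩) s hs).symm
    intro s hs
    rw [hmf s hs]
    have hlt : (fcode fun s => ac m s &&& 252) < 3125 :=
      fcode_lt _ (hC ⟨hmz, hmb⟩ 64 (by decide)) _ (hC ⟨hmz, hmb⟩ 128 (by decide))
        _ (hC ⟨hmz, hmb⟩ 236 (by decide)) _ (hC ⟨hmz, hmb⟩ 240 (by decide))
        _ (hC ⟨hmz, hmb⟩ 220 (by decide))
    have key := List.all_eq_true.1 no_move _ (List.mem_range.2 hlt)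
    simp only [Bool.or_eq_true, Bool.not_eq_true', List.all_eq_false, List.all_eq_true] at key
    rcases key with (key | ⟨t, ht, key⟩) | ⟨i, hi, key⟩
    · exact Nat.eq_of_beq_eq_true (key s hs)
    · exfalso
      refine key ?_
      have := (hit m f ⟨hmz, hmb⟩ hmf 4 t ht).1
      rw [hg4 hq, d.fr.ac_Q (one_mem Q) (five_spec t ht).2.1,
        (w6_spec t (o4_spec t (five_spec t ht).1).1).2.1] at this
      rw [← hf, ← this]
      exact Nat.beq_refl t
    · exfalso
      refine key fun t ht => ?_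
      have hi5 : i < 5 := List.mem_range.1 hi
      set F := fun u => it f 3 (it cyc i (f (it cyc (5 - i) u))) with hF
      set a := m ^ 3 * (γ ^ i * (m * γ ^ (5 - i))) with ha
      have hm3 := hpowc m ⟨hmz, hmb⟩ 3
      have hgi := hpowc γ ⟨hγz, hγb⟩ i
      have hgj := hpowc γ ⟨hγz, hγb⟩ (5 - i)
      have hac : Commute a z ∧ Commute a b :=
        ⟨hm3.1.mul_left (hgi.1.mul_left (hmz.mul_left hgj.1)),
          hm3.2.mul_left (hgi.2.mul_left (hmb.mul_left hgj.2))⟩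
      have haF : ∀ u ∈ five, ac a u &&& 252 = F u := by
        intro u hu
        obtain ⟨u1, m1⟩ := hit γ cyc ⟨hγz, hγb⟩ hγk (5 - i) u hu
        have m2 : f (it cyc (5 - i) u) ∈ five := (hmf _ m1) ▸ hC ⟨hmz, hmb⟩ _ m1
        obtain ⟨u3, m3⟩ := hit γ cyc ⟨hγz, hγb⟩ hγk i _ m2
        obtain ⟨u4, -⟩ := hit m f ⟨hmz, hmb⟩ hmf 3 _ m3
        rw [ha, d.five_mul hb hm3.1 hm3.2 (hgi.1.mul_left (hmz.mul_left hgj.1))
            (hgi.2.mul_left (hmb.mul_left hgj.2)) hu,
          d.five_mul hb hgi.1 hgi.2 (hmz.mul_left hgj.1) (hmb.mul_left hgj.2) hu,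
          d.five_mul hb hmz hmb hgj.1 hgj.2 hu, u1, hmf _ m1, u3, u4]
      have ha4 : ∀ u ∈ five, ac (a ^ 4) u &&& 252 = u := by
        -- `a` is an element of the normal subgroup times one acting trivially on the five vectors
        have h5 : ∀ u ∈ five, ac (γ ^ 5) u &&& 252 = u := fun u hu => by
          rw [(hit γ cyc ⟨hγz, hγb⟩ hγk 5 u hu).1]
          have key : ∀ u ∈ five, it cyc 5 u = u := by decide +kernel
          exact key u hu
        have hk1 : γ ^ 5 ∈ d.kerC b := by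
          obtain ⟨hz5, hb5⟩ := hpowc γ ⟨hγz, hγb⟩ 5
          exact ⟨hz5, hb5, d.eich_of_five hb hz5 hb5 h5⟩
        set r' := (g⁻¹ * γ ^ i * g) * q * (g⁻¹ * γ ^ i * g)⁻¹ with hr'
        obtain ⟨hsz, hsb⟩ := (hH _ hgi.1 hgi.2).2
        have hr'Q : q ^ 3 * r' ∈ Q := mul_mem (pow_mem hq 3) (d.fr.norm _ hsz q hq)
        set N := g * (q ^ 3 * r') * g⁻¹ with hN
        have haN : a = N * γ ^ 5 := by
          have e5 : γ ^ 5 = γ ^ i * γ ^ (5 - i) := by rw [← pow_add]; congr 1; omega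
          rw [ha, hN, e5, hm, hr', conj_pow]
          group
        have hNb : Commute (q ^ 3 * r') b := by
          refine (hqb.pow_left 3).mul_left ?_
          exact (hsb.mul_left hqb).mul_left hsb.inv_left
        obtain ⟨hNz, hNb'⟩ := (hH _ (d.fr.es.comm _ hr'Q) hNb).1
        have hNf : ∀ u ∈ five, ac N u &&& 252 = F u := fun u hu => by
          rw [← haF u hu, haN, d.five_mul hb hNz hNb' hk1.1 hk1.2.1 hu, h5 u hu]
        intro u hu
        rw [(hit a F hac haF 4 u hu).1, ← (hit N F ⟨hNz, hNb'⟩ hNf 4 u hu).1, hg4 hr'Q,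
          d.fr.ac_Q (one_mem Q) (five_spec u hu).2.1, (w6_spec u (o4_spec u (five_spec u hu).1).1).2.1]
      have := (hit a F hac haF 4 t ht).1
      rw [ha4 t ht] at this
      show Nat.beq (it F 4 t) t = true
      rw [← this]
      exact Nat.beq_refl t
  -- two elements of the normal subgroup with commutator `b z`
  obtain ⟨r, hr, hrc⟩ := d.fr.co_surj 64 (by norm_num)
  obtain ⟨r', hr', hrc'⟩ := d.fr.co_surj 128 (by norm_num)
  have hrb := d.comm_of_fc hb hr (by rw [hrc]; decide)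
  have hrb' := d.comm_of_fc hb hr' (by rw [hrc']; decide)
  obtain ⟨hPz, hPb⟩ := (hH r (d.fr.es.comm r hr) hrb).1
  obtain ⟨hPz', hPb'⟩ := (hH r' (d.fr.es.comm r' hr') hrb').1
  obtain ⟨a, ha, hak⟩ := d.eich_of_five hb hPz hPb (hfive r hr hrb)
  obtain ⟨a', ha', hak'⟩ := d.eich_of_five hb hPz' hPb' (hfive r' hr' hrb')
  have hsame : ∀ k < 256, ac (g * r * g⁻¹ * (g * r' * g⁻¹)) k =
      ac (g * r' * g⁻¹ * (g * r * g⁻¹)) k := fun k hk => by
    rw [d.fr.ac_mul hPz hPz' hk, d.fr.ac_mul hPz' hPz hk, hak' k hk, hak _ (eich_lt ha' hk), hak k hk,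
      hak' _ (eich_lt ha hk), eich_mul ha ha' hk, eich_mul ha' ha hk, Nat.xor_comm]
  have hcz : g * r * g⁻¹ * (g * r' * g⁻¹) = g * r' * g⁻¹ * (g * r * g⁻¹) * (b * z) := by
    have e := d.fr.comm_Q hr hr'
    rw [hrc, hrc', show bn 64 128 = true by decide +kernel] at e
    calc g * r * g⁻¹ * (g * r' * g⁻¹) = g * ((r * r' * r⁻¹) * r) * g⁻¹ := by group
      _ = g * (r' * (r * z)) * g⁻¹ := by
        rw [e, pw, cond_true, mul_assoc r', (d.fr.es.comm r hr).eq]
      _ = g * r' * g⁻¹ * (g * r * g⁻¹) * (g * z * g⁻¹) := by group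
      _ = _ := by rw [hgz]
  have hP := hPz'.mul_left hPz
  have hbzz : Commute (b * z) z := hbz.mul_left (Commute.refl z)
  have e := hsame 2 (by norm_num)
  rw [hcz, d.fr.ac_mul hP hbzz (by norm_num)] at e
  have e' := congrArg (ac (g * r' * g⁻¹ * (g * r * g⁻¹))⁻¹) e
  rw [d.fr.ac_inv hP (d.fr.ac_lt hbzz (by norm_num)), d.fr.ac_inv hP (by norm_num),
    d.fr.ac_mul hbz (Commute.refl z) (by norm_num), d.fr.ac_Q d.fr.es.mem (by norm_num),
    hbk 2 (by norm_num)] at e'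
  exact absurd e' (by decide +kernel)

end Duo

end Cfsg.Agent.Lib.Co1Type31
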