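import Cfsg.Agent.Lib.Co1Type31.Classes
import Cfsg.Agent.Lib.Co1Type31.CentB
import Cfsg.Agent.Lib.Co1Type31.CentC
import Cfsg.Agent.Lib.Co1Type31.Setup

/-!
# Conway type: exactly three classes of involutions

The classes are separated by Sylow two-subgroups of the centralisers of the two products, both of which
lie in `C(z)`.

Owner: helper31.
-/

set_option autoImplicit false
set_option maxRecDepth 100000

namespace Cfsg.Agent.Lib.Co1Type31

open Cfsg.Agent.Lib.LargeExtraspecial.Basic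
open Cfsg.Agent.Lib.LargeExtra.TwoConjugate

variable {G : Type*} [Group G] [Finite G] {z : G} {Q : Subgroup G} {co : G → ℕ} {ac : G → ℕ → ℕ}

/-- A conjugate of `z` in `Q` other than `z` gives the four-group and an element interchanging it. -/
theorem Frame.exists_duo (h : Frame z Q co ac) (hw : ∃ g : G, g * z * g⁻¹ ∈ Q ∧ g * z * g⁻¹ ≠ z) :
    ∃ x n, Duo z Q co ac x n := by
  obtain ⟨g, hg, hne⟩ := hw
  set w := g * z * g⁻¹ with hwdef
  have hw1 : w * w = 1 := mul_self_conj h.es.sq g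
  have h0 : co w ≠ 0 := fun e => by
    rcases h.co_zero w hg e with e | e
    · exact h.es.ne (by simpa [hwdef] using e)
    · exact hne e
  have hs : qn (co w) = false := by
    have e := h.sq w hg
    rw [hw1] at e
    cases h3 : qn (co w) with
    | false => rfl
    | true => rw [h3] at e; exact absurd e.symm h.es.ne
  obtain ⟨c, hc, hck⟩ := h.exists_to_one (h.co_lt w hg) h0 hs
  have hx1 : c * w * c⁻¹ = c * g * z * (c * g)⁻¹ := by rw [hwdef]; group
  have hxQ : c * g * z * (c * g)⁻¹ ∈ Q := hx1 ▸ h.norm c hc w hg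
  have hxc : co (c * g * z * (c * g)⁻¹) = 1 := by rw [← hx1, h.conj c hc w hg, hck]
  have hxz : c * g * z * (c * g)⁻¹ ≠ z := fun e => by
    rw [e, h.co_z] at hxc
    omega
  have s : Setting Q z (c * g) := ⟨h.es, h.cent, h.norm, hxQ, hxz, by rw [h.card]; norm_num⟩
  obtain ⟨n, h1, h2⟩ := exists_swap s
  exact ⟨_, n, h, hxQ, hxc, h1, h2⟩

namespace Duo

variable {x n : G} (d : Duo z Q co ac x n)
include d

omit [Finite G] d in
/-- The image of a two-subgroup centralising an element. -/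
theorem map_sub {S : Subgroup G} {a b k : G} (hS : IsPGroup 2 S) (hSa : ∀ s ∈ S, Commute s a)
    (hk : k * a * k⁻¹ = b) :
    ∃ S' : Subgroup G, IsPGroup 2 S' ∧ (∀ s ∈ S', Commute s b) ∧ Nat.card S' = Nat.card S ∧
      ∀ s ∈ S, k * s * k⁻¹ ∈ S' := by
  refine ⟨S.map (MulAut.conj k).toMonoidHom, hS.map _, ?_,
    Subgroup.card_map_of_injective (MulAut.conj k).injective, fun s hs => ⟨s, hs, rfl⟩⟩
  rintro _ ⟨s, hs, rfl⟩
  simpa [hk] using (hSa s hs).map (MulAut.conj k).toMonoidHom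

/-- Three classes of involutions. -/
theorem three_classes : ∃ a b c : G, orderOf a = 2 ∧ orderOf b = 2 ∧ orderOf c = 2 ∧
    ¬ IsConj a b ∧ ¬ IsConj a c ∧ ¬ IsConj b c ∧
    ∀ t : G, orderOf t = 2 → IsConj t a ∨ IsConj t b ∨ IsConj t c := by
  have : Fact (Nat.Prime 2) := ⟨Nat.prime_two⟩
  have h4 : (4 : ℕ) ∈ w6 := by decide +kernel
  have h12 : (12 : ℕ) ∈ w6 := by decide +kernel
  obtain ⟨b, hb⟩ := d.exists_form h4 (show (16 : ℕ) ∈ w6 by decide +kernel)
  obtain ⟨c, hc⟩ := d.exists_form h12 (show (52 : ℕ) ∈ w6 by decide +kernel)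
  have hb2 : b * b = 1 := by rw [d.form_sq h4 hb]; exact d.ee_zero
  have hc2 : c * c = 1 := by rw [d.form_sq h12 hc]; exact d.ee_zero
  have hord : ∀ {t : G} {a v : ℕ}, Form Q co ac n z t a v → t * t = 1 → eich a 2 ≠ 2 → orderOf t = 2 :=
    fun {t a v} hF h2 hne => orderOf_eq_prime (by rw [pow_two, h2]) fun e => hne (by
      rw [← (d.form_commute hF).2 2 (by norm_num), e, d.fr.ac_Q (one_mem Q) (by norm_num)])
  have hob := hord hb hb2 (by decide +kernel)
  have hoc := hord hc hc2 (by decide +kernel)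
  obtain ⟨T, hT, hTc, hzT, hTlt, hTcen, hTtop⟩ := d.sylC_top hc hc2
  have hnz : ∀ {a : G}, (∀ S : Subgroup G, IsPGroup 2 S → (∀ s ∈ S, Commute s a) → Nat.card S < 2 ^ 21) →
      ¬ IsConj z a := by
    intro a hlt h
    obtain ⟨k, hk⟩ := isConj_iff.1 h
    obtain ⟨S, hS, hSa, hcard, -⟩ := map_sub d.fr.sylU_isPGroup (fun s hs => hs.1) hk
    have := hlt S hS hSa
    rw [hcard, d.fr.sylU_card] at this
    exact lt_irrefl _ this
  have hzb : ¬ IsConj z b :=
    hnz fun S hS hSb => (d.sylB_top hb hb2 hS hSb).trans_lt (d.sylB_card_lt hb)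
  have hzc : ¬ IsConj z c := hnz fun S hS hSc => (hTtop S hS hSc).trans_lt hTlt
  have hbc : ¬ IsConj b c := by
    intro h
    obtain ⟨k, hk⟩ := isConj_iff.1 h
    obtain ⟨B', hB', hBc, hBcard, hBmem⟩ :=
      map_sub d.sylB_isPGroup (fun s hs => (d.mem_sylB.1 hs).2) hk
    obtain ⟨T', hT', hTb, hTcard, -⟩ := map_sub hT (fun s hs => (hTc s hs).2)
      (show k⁻¹ * c * k⁻¹⁻¹ = b by rw [← hk]; group)
    have hcard : Nat.card T ≤ Nat.card B' := by
      rw [← hTcard, hBcard]
      exact d.sylB_top hb hb2 hT' hTb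
    -- both are Sylow subgroups of `C(c)`
    set C := Subgroup.centralizer ({c} : Set G) with hC
    have hmem : ∀ {a : G}, a ∈ C ↔ Commute a c := fun {a} => Subgroup.mem_centralizer_singleton_iff
    have hTC : T ≤ C := fun a ha => hmem.2 (hTc a ha).2
    have hBC : B' ≤ C := fun a ha => hmem.2 (hBc a ha)
    have hmap : ∀ (P : Sylow 2 C) (J : Subgroup G) (hJC : J ≤ C), Nat.card T ≤ Nat.card J →
        J.subgroupOf C ≤ (P : Subgroup C) → (P : Subgroup C).map C.subtype = J := by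
      intro P J hJC hJ hle
      have hJP : J ≤ (P : Subgroup C).map C.subtype := fun a ha => ⟨⟨a, hJC ha⟩, hle ha, rfl⟩
      refine (Subgroup.eq_of_le_of_card_ge hJP ?_).symm
      exact (hTtop _ (P.2.map _) fun a ha => hmem.1 (Subgroup.map_subtype_le _ ha)).trans hJ
    obtain ⟨P, hP⟩ := (hT.of_equiv (Subgroup.subgroupOfEquivOfLe hTC).symm).exists_le_sylow
    obtain ⟨R, hR⟩ := (hB'.of_equiv (Subgroup.subgroupOfEquivOfLe hBC).symm).exists_le_sylow
    obtain ⟨e, he⟩ := MulAction.exists_smul_eq C R P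
    have heT : ∀ a ∈ B', (e : G) * a * (e : G)⁻¹ ∈ T := fun a ha => by
      rw [← hmap P T hTC le_rfl hP, ← he, Sylow.coe_subgroup_smul]
      refine ⟨e * ⟨a, hBC ha⟩ * e⁻¹, ⟨⟨a, hBC ha⟩, hR ?_, rfl⟩, rfl⟩
      exact ha
    have hsurj : ∀ a ∈ T, ∃ s ∈ d.sylB b, (e : G) * k * s * ((e : G) * k)⁻¹ = a := by
      have hinj : Function.Injective fun s : d.sylB b =>
          (⟨(e : G) * (k * s * k⁻¹) * (e : G)⁻¹, heT _ (hBmem _ s.2)⟩ : T) :=
        fun u v h => Subtype.ext (by simpa using congrArg Subtype.val h)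
      have hbij := (Nat.bijective_iff_injective_and_card _).2 ⟨hinj,
        le_antisymm (Nat.card_le_card_of_injective _ hinj) (hcard.trans_eq hBcard)⟩
      intro a ha
      obtain ⟨s, hs⟩ := hbij.2 ⟨a, ha⟩
      refine ⟨s, s.2, ?_⟩
      have := congrArg Subtype.val hs
      simp only at this
      rw [← this]
      group
    set m := (e : G) * k with hm
    have hmb : m * b * m⁻¹ = c := by
      rw [hm, show (e : G) * k * b * ((e : G) * k)⁻¹ = e * (k * b * k⁻¹) * (e : G)⁻¹ by group, hk]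
      exact mul_inv_eq_iff_eq_mul.2 (hmem.1 e.2).eq
    obtain ⟨hbz, hbk⟩ := d.form_commute hb
    have hzB : z ∈ d.sylB b := d.mem_sylB.2 ⟨d.fr.Q_le_sylU d.fr.es.mem, hbz.symm⟩
    have hy : m * z * m⁻¹ ∈ T := by
      have := heT _ (hBmem z hzB)
      rwa [hm, show (e : G) * k * z * ((e : G) * k)⁻¹ = e * (k * z * k⁻¹) * (e : G)⁻¹ by group]
    obtain ⟨j, hj⟩ := hTcen _ hy (mul_self_conj d.fr.es.sq m) fun a ha => by
      obtain ⟨s, hs, rfl⟩ := hsurj a ha
      simpa using (d.mem_sylB.1 hs).1.1.symm.map (MulAut.conj m).toMonoidHom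
    rcases hj with hj | hj <;> cases j
    · exact d.fr.es.ne (by simpa [pw] using hj)
    · -- the images in `C(z) / Q` are not conjugate
      have hmz : Commute m z := mul_inv_eq_iff_eq_mul.1 hj
      obtain ⟨hcz, hck⟩ := d.form_commute hc
      have hG := d.fr.iso hmz
      set i := ac m⁻¹ 2 with hi
      have hil := d.fr.ac_lt hmz.inv_left (show 2 < 256 by norm_num)
      have e1 : ac m (eich 4 i) = eich 12 2 := by
        rw [← hbk i hil, ← d.fr.ac_mul hmz hbz hil, show m * b = c * m by rw [← hmb]; group,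
          d.fr.ac_mul hcz hmz hil, d.fr.ac_inv' hmz (by norm_num), hck 2 (by norm_num)]
      have e2 : qn (eich 12 2 ^^^ 2) = false := by
        rw [← e1, show (2 : ℕ) = ac m i from (d.fr.ac_inv' hmz (by norm_num)).symm,
          ← hG.add _ (eich_lt h4 hil) _ hil, hG.pres _ (xor_lt (eich_lt h4 hil) hil)]
        exact eich4_sing _ hil
      exact absurd e2 (by decide +kernel)
    · -- `m` cannot send both `z` and `b` to `c`
      simp only [pw, cond_false, mul_one] at hj
      have e : z = b := by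
        have := hj.trans hmb.symm
        simpa using this
      have := hbk 2 (by norm_num)
      rw [← e, d.fr.ac_Q d.fr.es.mem (by norm_num)] at this
      exact absurd this (by decide +kernel)
    · -- `b z` would be conjugate to `z`
      simp only [pw, cond_true] at hj
      have e : m * (b * z) * m⁻¹ = z := by
        rw [show m * (b * z) * m⁻¹ = (m * b * m⁻¹) * (m * z * m⁻¹) by group, hmb, hj, ← mul_assoc, hc2,
          one_mul]
      obtain ⟨w, hw, hwk⟩ := d.fr.co_surj 32 (by norm_num)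
      have e' : w * b * w⁻¹ = b * z := by
        rw [d.form_wconj h4 hb ⟨hw, by rw [hwk]; decide +kernel⟩, hwk,
          show bn 4 32 = false by decide +kernel, show bn 16 32 = true by decide +kernel]
        simp [ee, pw]
      exact hzb ((isConj_iff.2 ⟨w, e'⟩).trans (isConj_iff.2 ⟨m, e⟩)).symm
  refine ⟨z, b, c, d.fr.ord, hob, hoc, hzb, hzc, hbc, fun t ht => ?_⟩
  rcases d.isConj_std ht with h | ⟨t', htt, hF | hF⟩
  · exact Or.inl h
  · obtain ⟨w, -, hw⟩ := d.form_unique h4 sep_b hF hb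
    exact Or.inr (Or.inl (htt.trans (isConj_iff.2 ⟨w, hw⟩)))
  · obtain ⟨w, -, hw⟩ := d.form_unique h12 sep_c hF hc
    exact Or.inr (Or.inr (htt.trans (isConj_iff.2 ⟨w, hw⟩)))

end Duo

theorem three_classes_of {G : Type*} [Group G] [Finite G] (z : G) (hz : orderOf z = 2)
    (Q : Subgroup (Subgroup.centralizer ({z} : Set G))) [Q.Normal]
    (hF : Cfsg.generalizedFittingSubgroup (Subgroup.centralizer ({z} : Set G)) = Q)
    (hQ : Cfsg.IsExtraspecial 2 Q) (hcard : Nat.card Q = 2 ^ 9)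
    (e : (Subgroup.centralizer ({z} : Set G)) ⧸ Q ≃*
      Cfsg.Omega (ZMod 2) (Cfsg.quadFormPlus 4 (ZMod 2)))
    (hnwc : ∃ g : G, (∃ hq : g * z * g⁻¹ ∈ Subgroup.centralizer ({z} : Set G),
      (⟨g * z * g⁻¹, hq⟩ : Subgroup.centralizer ({z} : Set G)) ∈ Q) ∧ g * z * g⁻¹ ≠ z) :
    ∃ a b c : G, orderOf a = 2 ∧ orderOf b = 2 ∧ orderOf c = 2 ∧
      ¬ IsConj a b ∧ ¬ IsConj a c ∧ ¬ IsConj b c ∧
      ∀ x : G, orderOf x = 2 → IsConj x a ∨ IsConj x b ∨ IsConj x c := by
  obtain ⟨co, ac, h⟩ := exists_frame z hz _ rfl Q hF hQ hcard e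
  obtain ⟨g, ⟨hq, hgQ⟩, hne⟩ := hnwc
  obtain ⟨x, n, d⟩ := h.exists_duo ⟨g, ⟨_, hgQ, rfl⟩, hne⟩
  exact d.three_classes

end Cfsg.Agent.Lib.Co1Type31
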