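import Cfsg.Agent.Lib.Co1Type31.Values

/-!
# Conway type: products `u r` of a lift and an element of `Q ∩ C(x)`

After `Lib/SuzType52/Classes` (helper52).

Owner: helper31.
-/

set_option autoImplicit false

namespace Cfsg.Agent.Lib.Co1Type31

variable {G : Type*} [Group G]

/-- A product of a lift with parameter `a` and an element with parameter `v`. -/
def Form (Q : Subgroup G) (co : G → ℕ) (ac : G → ℕ → ℕ) (n z t : G) (a v : ℕ) : Prop :=
  ∃ u r, InB Q n z u ∧ Act ac u a ∧ InA Q co r ∧ co r &&& 252 = v ∧ t = u * r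

namespace Duo

variable {z : G} {Q : Subgroup G} {co : G → ℕ} {ac : G → ℕ → ℕ} {x n : G}
  (d : Duo z Q co ac x n)
include d

theorem isConj_x : IsConj z x := isConj_iff.2 ⟨n, d.nz⟩

theorem xz_conj {q : G} (hq : q ∈ Q) (hc : co q = 2) : q * x * q⁻¹ = x * z := by
  rw [d.fr.comm_Q hq d.xQ, hc, d.cox]
  rfl

/-- A singular non-central element of `Q` is moved to `x` by `C(z)`. -/
theorem exists_to_x {q : G} (hq : q ∈ Q) (h0 : co q ≠ 0) (hs : qn (co q) = false) :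
    ∃ c, Commute c z ∧ c * q * c⁻¹ = x := by
  obtain ⟨c, hc, hck⟩ := d.fr.exists_to_one (d.fr.co_lt q hq) h0 hs
  have hm := d.fr.norm c hc q hq
  rcases d.fr.co_eq d.xQ hm (by rw [d.cox, d.fr.conj c hc q hq, hck]) with e | e
  · exact ⟨c, hc, e⟩
  · obtain ⟨w, hw, hwc⟩ := d.fr.co_surj 2 (by norm_num)
    refine ⟨w * c, (d.fr.es.comm w hw).mul_left hc, ?_⟩
    calc w * c * q * (w * c)⁻¹ = w * (c * q * c⁻¹) * w⁻¹ := by group
      _ = (w * x * w⁻¹) * (w * z * w⁻¹) := by rw [e]; group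
      _ = x := by
        rw [d.xz_conj hw hwc, mul_inv_eq_iff_eq_mul.2 (d.fr.es.comm w hw).eq, mul_assoc, d.fr.es.sq,
          mul_one]

theorem isConj_Q {q : G} (hq : q ∈ Q) (hq2 : orderOf q = 2) : IsConj z q := by
  have h1 : q * q = 1 := by rw [← pow_two, ← hq2, pow_orderOf_eq_one]
  have hs : qn (co q) = false := by
    have e := d.fr.sq q hq
    rw [h1] at e
    cases h : qn (co q) with
    | false => rfl
    | true => rw [h] at e; exact absurd e.symm d.fr.es.ne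
  by_cases h0 : co q = 0
  · rcases d.fr.co_zero q hq h0 with rfl | rfl
    · simp at hq2
    · exact IsConj.refl q
  · obtain ⟨c, -, e⟩ := d.exists_to_x hq h0 hs
    exact d.isConj_x.trans (isConj_iff.2 ⟨c, e⟩).symm

theorem isConj_B {u : G} (hu : InB Q n z u) (hu2 : orderOf u = 2) : IsConj z u := by
  have e : IsConj (n⁻¹ * u * n) u := isConj_iff.2 ⟨n, by group⟩
  refine (d.isConj_Q hu.1 ?_).trans e
  rw [← hu2]
  obtain ⟨c, hc⟩ := isConj_iff.1 e
  exact (orderOf_injective (MulAut.conj c).toMonoidHom (MulAut.conj c).injective _).symm.trans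
    (by simp [hc])

theorem ac_B_inv {u : G} {a k : ℕ} (ha : a ∈ w6) (hu : InB Q n z u) (h : Act ac u a) (hk : k < 256) :
    ac u⁻¹ k = eich a k := by
  conv_lhs => rw [← eich_self ha hk]
  rw [← h _ (eich_lt ha hk), d.fr.ac_inv hu.2 (eich_lt ha hk)]

theorem form_commute {t : G} {a v : ℕ} (h : Form Q co ac n z t a v) :
    Commute t z ∧ ∀ k < 256, ac t k = eich a k := by
  obtain ⟨u, r, hu, hua, hr, -, rfl⟩ := h
  refine ⟨hu.2.mul_left (d.A_comm hr).2, fun k hk => ?_⟩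
  rw [d.fr.ac_mul hu.2 (d.A_comm hr).2 hk, d.fr.ac_Q hr.1 hk, hua k hk]

theorem form_sq {t : G} {a v : ℕ} (ha : a ∈ w6) (h : Form Q co ac n z t a v) :
    t * t = ee z x (Bool.xor (bn a v) (qn a)) (Bool.xor (bn a v) (qn v)) := by
  obtain ⟨u, r, hu, hua, hr, hrv, rfl⟩ := h
  have hlt := d.fr.co_lt r hr.1
  have hc := d.com_act a ha u r hu hua hr
  have e : u * r * (u * r) = u * com r u * u⁻¹ * ((u * u) * (r * r)) := by
    simp only [com]; group
  rw [e, hc, d.central_conj (d.B_comm hu).1 (d.B_comm hu).2, d.sq_act a ha u hu hua, d.fr.sq r hr.1,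
    ← qn_mask hlt hr.2, ← bn_mask ha hlt hr.2, hrv]
  exact d.ee_mul _ _ _ _

theorem form_shift {t q : G} {a v : ℕ} (ha : a ∈ w6) (h : Form Q co ac n z t a v) (hq : q ∈ Q)
    (hqc : co q = 2) : Form Q co ac n z (q * t * q⁻¹) a (v ^^^ a) := by
  obtain ⟨u, r, hu, hua, hr, hrv, rfl⟩ := h
  obtain ⟨h2, h3, h4⟩ := eich_two a ha
  have hm : u⁻¹ * q * u * q⁻¹ ∈ Q := by
    refine mul_mem ?_ (inv_mem hq)
    simpa using d.fr.norm u⁻¹ hu.2.inv_left q hq
  have hr' : q * r * q⁻¹ ∈ Q := d.fr.norm q (d.fr.es.comm q hq) r hr.1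
  have hcm : co (u⁻¹ * q * u * q⁻¹) = eich a 2 ^^^ 2 := by
    have e : co (u⁻¹ * q * u⁻¹⁻¹) = eich a 2 := by
      rw [d.fr.conj u⁻¹ hu.2.inv_left q hq, hqc, d.ac_B_inv ha hu hua (by norm_num)]
    rw [inv_inv] at e
    rw [d.fr.co_mul _ (by simpa using d.fr.norm u⁻¹ hu.2.inv_left q hq) _ (inv_mem hq), e,
      d.fr.co_inv hq, hqc]
  have hA : InA Q co (u⁻¹ * q * u * q⁻¹) := ⟨hm, by rw [hcm]; exact h4⟩
  have hA' : InA Q co (q * r * q⁻¹) := ⟨hr', by rw [d.fr.co_conjQ hq hr.1]; exact hr.2⟩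
  refine ⟨u, _, hu, hua, d.A_mul hA hA', ?_, by group⟩
  rw [d.fr.co_mul _ hm _ hr', hcm, d.fr.co_conjQ hq hr.1, xor_mask, h3, hrv, Nat.xor_comm]

theorem form_conj {t c : G} {p : ℕ × ℕ} {a v : ℕ} (hp : p ∈ pairs6) (ha : a ∈ w6) (hc : Commute c z)
    (hcx : Commute c x) (hck : ∀ k < 256, ac c k = pr p k) (h : Form Q co ac n z t a v) :
    Form Q co ac n z (c * t * c⁻¹) (pr p a) (pr p v) := by
  obtain ⟨u, r, hu, hua, hr, hrv, rfl⟩ := h
  obtain ⟨h1, h2⟩ := d.act_conj hp hc hcx hck hu ha hua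
  obtain ⟨-, -, g3, g4⟩ := pr_spec hp (d.fr.co_lt r hr.1)
  have hco : co (c * r * c⁻¹) = pr p (co r) := by
    rw [d.fr.conj c hc r hr.1, hck _ (d.fr.co_lt r hr.1)]
  refine ⟨_, c * r * c⁻¹, h1, h2, ⟨d.fr.norm c hc r hr.1, by rw [hco]; exact g3.trans hr.2⟩, ?_, by group⟩
  rw [hco, g4, hrv]

/-- An involution acting as a transvection is such a product. -/
theorem form_of_act {t : G} {a : ℕ} (ha : a ∈ w6) (ha0 : a ≠ 0) (htz : Commute t z) (ht2 : t * t = 1)
    (hka : ∀ k < 256, ac t k = eich a k) :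
    ∃ v ∈ w6, Form Q co ac n z t a v ∧ bn a v = qn a ∧ qn v = qn a := by
  obtain ⟨u, hu, hua⟩ := d.lift a ha
  set r := u⁻¹ * t with hr
  have hrQ : r ∈ Q := d.fr.faithful r (hu.2.inv_left.mul_left htz) fun k hk => by
    rw [d.fr.ac_mul hu.2.inv_left htz hk, hka k hk, ← hua k hk, d.fr.ac_inv hu.2 hk]
  have htr : t = u * r := by rw [hr]; group
  have hsq : u * r * u⁻¹ * (u * u) * r = 1 := by
    rw [← ht2, htr]; group
  have huu : u * u = ee z x (qn a) false := (d.sq_act a ha u hu hua).trans (mul_one _).symm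
  have hb : b1 (co r) = false := by
    have hl := d.fr.co_lt r hrQ
    refine eich_shift a ha ha0 _ hl ?_
    have e := congrArg co hsq
    rw [huu, d.fr.co_mul _ (mul_mem (d.fr.norm u hu.2 r hrQ) (d.ee_mem _ _)) r hrQ,
      d.fr.co_mul _ (d.fr.norm u hu.2 r hrQ) _ (d.ee_mem _ _), d.fr.conj u hu.2 r hrQ, hua _ hl,
      d.co_ee, d.fr.co_one] at e
    rw [Nat.xor_assoc, Nat.xor_comm (co r), ← Nat.xor_assoc]
    exact e
  have hF : Form Q co ac n z t a (co r &&& 252) := ⟨u, r, hu, hua, ⟨hrQ, hb⟩, rfl, htr⟩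
  have he := d.form_sq ha hF
  rw [ht2, ← d.ee_zero] at he
  obtain ⟨e1, e2⟩ := d.ee_inj he
  refine ⟨_, mem_w6 (d.fr.co_lt r hrQ), hF, ?_, ?_⟩
  · revert e1
    cases bn a (co r &&& 252) <;> cases qn a <;> decide
  · revert e1 e2
    cases bn a (co r &&& 252) <;> cases qn a <;> cases qn (co r &&& 252) <;> decide

theorem form_inB {t : G} {a : ℕ} (h : Form Q co ac n z t a 0) : InB Q n z t := by
  obtain ⟨u', r', hu', -, hr', hrv', rfl⟩ := h
  obtain ⟨i, j, e⟩ := d.exists_ee hr'.1 (by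
    rcases mask_cases (d.fr.co_lt r' hr'.1) hr'.2 with e | e <;> rw [hrv'] at e
    · exact Or.inl e
    · exact Or.inr e)
  rw [e]
  exact ⟨d.P_mul hu'.1 (d.ee_inB i j).1, hu'.2.mul_left (d.ee_inB i j).2⟩

/-- An element of `Q ∩ C(x)` conjugates a product by a central element. -/
theorem form_wconj {t w : G} {a v : ℕ} (ha : a ∈ w6) (h : Form Q co ac n z t a v) (hw : InA Q co w) :
    w * t * w⁻¹ = t * ee z x (bn a (co w)) (Bool.xor (bn a (co w)) (bn v (co w))) := by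
  obtain ⟨u, r, hu, hua, hr, hrv, rfl⟩ := h
  have hc := d.com_act a ha u w hu hua hw
  have hq := d.fr.comm_Q hw.1 hr.1
  have hwr : bn (co w) (co r) = bn v (co w) := by
    rw [bn_comm, ← bn_mask2 (d.fr.co_lt r hr.1) (d.fr.co_lt w hw.1) hr.2 hw.2, hrv]
    exact bn_mask (hrv ▸ mem_w6 (d.fr.co_lt r hr.1)) (d.fr.co_lt w hw.1) hw.2
  rw [hwr] at hq
  have hce : ∀ p q, Commute r (ee z x p q) := fun p q => d.ee_comm (d.A_comm hr).1 (d.A_comm hr).2 p q
  have hue : ∀ p q, Commute u (ee z x p q) := fun p q => d.ee_comm (d.B_comm hu).1 (d.B_comm hu).2 p q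
  have hz : pw z (bn v (co w)) = ee z x false (bn v (co w)) := (one_mul _).symm
  calc w * (u * r) * w⁻¹ = com w u * u * (w * r * w⁻¹) := by simp only [com]; group
    _ = u * r * (ee z x (bn a (co w)) (bn a (co w)) * ee z x false (bn v (co w))) := by
      rw [hc, hq, ← (hue _ _).eq, mul_assoc u, ← mul_assoc (ee z x _ _) r, ← (hce _ _).eq, hz]
      group
    _ = _ := by rw [d.ee_mul, Bool.xor_false]

/-- Products with the same parameters differ by a central element. -/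
theorem form_eq {t t' : G} {a v : ℕ} (ha : a ∈ w6) (h : Form Q co ac n z t a v)
    (h' : Form Q co ac n z t' a v) : ∃ i j, t' = t * ee z x i j := by
  obtain ⟨u, r, hu, hua, hr, hrv, rfl⟩ := h
  obtain ⟨u', r', hu', hua', hr', hrv', rfl⟩ := h'
  obtain ⟨i, j, rfl⟩ := d.act_eq ha hu hu' hua hua'
  have hm : r⁻¹ * r' ∈ Q := mul_mem (inv_mem hr.1) hr'.1
  obtain ⟨i', j', e⟩ := d.exists_ee hm (by
    rw [d.fr.co_mul _ (inv_mem hr.1) _ hr'.1, d.fr.co_inv hr.1]
    rcases mask_cases (d.fr.co_lt r hr.1) hr.2 with e | e <;>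
      rcases mask_cases (d.fr.co_lt r' hr'.1) hr'.2 with e' | e' <;>
      rw [hrv] at e <;> rw [hrv'] at e' <;> rw [e, e'] <;> simp)
  rw [inv_mul_eq_iff_eq_mul] at e
  subst e
  refine ⟨Bool.xor i i', Bool.xor j j', ?_⟩
  rw [mul_assoc u (ee z x i j), ← mul_assoc (ee z x i j) r, ← (d.ee_comm (d.A_comm hr).1 (d.A_comm hr).2 i j).eq,
    mul_assoc r, d.ee_mul, mul_assoc u r]

/-- All products with the parameters `a, v` are conjugate under `Q ∩ C(x)`. -/
theorem form_unique {t t' : G} {a v : ℕ} (ha : a ∈ w6)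
    (hsep : ∀ i j : Bool, ∃ k ∈ w6, bn a k = i ∧ bn v k = j) (h : Form Q co ac n z t a v)
    (h' : Form Q co ac n z t' a v) : ∃ w, InA Q co w ∧ w * t * w⁻¹ = t' := by
  obtain ⟨i, j, rfl⟩ := d.form_eq ha h h'
  obtain ⟨k, hk, k1, k2⟩ := hsep i (Bool.xor i j)
  obtain ⟨w, hw, hwk⟩ := d.fr.co_surj k (lt_of_w6 hk)
  have hwA : InA Q co w := ⟨hw, by rw [hwk]; exact (w6_spec k hk).2.2.1⟩
  refine ⟨w, hwA, ?_⟩
  rw [d.form_wconj ha h hwA, hwk, k1, k2]
  cases i <;> cases j <;> rfl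

theorem exists_form {a v : ℕ} (ha : a ∈ w6) (hv : v ∈ w6) :
    ∃ t, Form Q co ac n z t a v := by
  obtain ⟨u, hu, hua⟩ := d.lift a ha
  obtain ⟨r, hr, hrc⟩ := d.fr.co_surj v (lt_of_w6 hv)
  exact ⟨u * r, u, r, hu, hua, ⟨hr, by rw [hrc]; exact (w6_spec v hv).2.2.1⟩,
    by rw [hrc]; exact (w6_spec v hv).2.1, rfl⟩

/-- The commutator of two lifts. -/
theorem com_BB {u v : G} {a b : ℕ} (ha : a ∈ w6) (hb : b ∈ w6) (hu : InB Q n z u) (hv : InB Q n z v)
    (h1 : Act ac u a) (h2 : Act ac v b) : com u v = pw x (bn a b) := by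
  have hval : ∀ {w : G} {e : ℕ}, e ∈ w6 → InB Q n z w → Act ac w e → qn (co (n⁻¹ * w * n)) = qn e :=
    fun he hw h => d.pw_x_inj ((d.P_sq hw.1).symm.trans (d.sq_act _ he _ hw h))
  obtain ⟨h3, h4⟩ := d.act_mul hu hv ha hb h1 h2
  have e := d.fr.comm_Q hu.1 hv.1
  have hbn : bn (co (n⁻¹ * u * n)) (co (n⁻¹ * v * n)) = bn a b := by
    rw [bn_def, bn_def, hval ha hu h1, hval hb hv h2, ← d.fr.co_mul _ hu.1 _ hv.1,
      show n⁻¹ * u * n * (n⁻¹ * v * n) = n⁻¹ * (u * v) * n by group, hval (w6_xor ha hb) h3 h4]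
  rw [hbn] at e
  calc com u v = n * ((n⁻¹ * u * n) * (n⁻¹ * v * n) * (n⁻¹ * u * n)⁻¹) * n⁻¹ * v⁻¹ := by
        simp only [com]; group
    _ = v * (n * pw z (bn a b) * n⁻¹) * v⁻¹ := by rw [e]; group
    _ = pw x (bn a b) := by
      cases bn a b
      · simp [pw]
      · show v * (n * z * n⁻¹) * v⁻¹ = x
        rw [d.nz]
        exact mul_inv_eq_iff_eq_mul.2 (d.B_comm hv).1.eq

theorem form_ee {t : G} {a v : ℕ} (h : Form Q co ac n z t a v) (i j : Bool) :
    Form Q co ac n z (t * ee z x i j) a v := by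
  obtain ⟨u, r, hu, hua, hr, hrv, rfl⟩ := h
  refine ⟨u, r * ee z x i j, hu, hua, ⟨mul_mem hr.1 (d.ee_mem i j), ?_⟩, ?_, mul_assoc _ _ _⟩ <;>
    rw [d.fr.co_mul r hr.1 _ (d.ee_mem i j), d.co_ee]
  · have key : ∀ i, b1 (bif i then 1 else 0) = false := fun i => by cases i <;> rfl
    rw [b1_xor (d.fr.co_lt r hr.1) (by cases i <;> norm_num), hr.2, key i]
    rfl
  · rw [xor_mask, hrv]
    cases i <;> exact Nat.xor_zero v

/-- The parameters of a product are unique. -/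
theorem form_params {t : G} {a v a' v' : ℕ} (ha : a ∈ w6) (ha' : a' ∈ w6)
    (h : Form Q co ac n z t a v) (h' : Form Q co ac n z t a' v') : a = a' ∧ v = v' := by
  have e : a = a' := eich_inj ha ha' fun k hk => by
    rw [← (d.form_commute h).2 k hk, (d.form_commute h').2 k hk]
  refine ⟨e, ?_⟩
  subst e
  obtain ⟨u, r, hu, hua, hr, hrv, rfl⟩ := h
  obtain ⟨u', r', hu', hua', hr', hrv', e⟩ := h'
  obtain ⟨i, j, rfl⟩ := d.act_eq ha hu hu' hua hua'
  rw [mul_assoc, mul_left_cancel_iff] at e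
  rw [e, d.fr.co_mul _ (d.ee_mem i j) _ hr'.1, d.co_ee, xor_mask, hrv'] at hrv
  rw [← hrv]
  cases i <;> exact Nat.zero_xor v'

/-- The commutator of two products. -/
theorem form_comm {t t' : G} {a v a' v' : ℕ} (ha : a ∈ w6)
    (h : Form Q co ac n z t a v) (h' : Form Q co ac n z t' a' v')
    (hl : ∀ u, InB Q n z u → Act ac u a' →
      t * u * t⁻¹ = u * ee z x (Bool.xor (bn a a') (bn v a')) (bn v a')) :
    t * t' * t⁻¹ = t' * ee z x (Bool.xor (Bool.xor (bn a a') (bn v a')) (bn a v'))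
      (Bool.xor (bn v a') (Bool.xor (bn a v') (bn v v'))) := by
  obtain ⟨u', r', hu', hua', hr', hrv', rfl⟩ := h'
  have hv6 : v ∈ w6 := by
    obtain ⟨u, r, -, -, hr, hrv, -⟩ := h
    exact hrv ▸ mem_w6 (d.fr.co_lt r hr.1)
  have e1 : bn a (co r') = bn a v' := by
    rw [← hrv', bn_mask ha (d.fr.co_lt r' hr'.1) hr'.2]
  have e2 : bn v (co r') = bn v v' := by
    rw [← hrv', bn_mask hv6 (d.fr.co_lt r' hr'.1) hr'.2]
  have hw := d.form_wconj ha h hr'
  rw [e1, e2] at hw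
  have hsq := d.ee_sq (bn a v') (Bool.xor (bn a v') (bn v v'))
  have hr2 : t * r' * t⁻¹ = r' * ee z x (bn a v') (Bool.xor (bn a v') (bn v v')) := by
    have hc := d.ee_comm (d.A_comm hr').1 (d.A_comm hr').2 (bn a v') (Bool.xor (bn a v') (bn v v'))
    have htx : Commute t x := by
      obtain ⟨u, r, hu, -, hr, -, rfl⟩ := h
      exact (d.B_comm hu).1.mul_left (d.A_comm hr).1
    calc t * r' * t⁻¹ = (t * ee z x (bn a v') (Bool.xor (bn a v') (bn v v'))) *
        (ee z x (bn a v') (Bool.xor (bn a v') (bn v v')) * r') * t⁻¹ := by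
          rw [show t * r' * t⁻¹ = t * 1 * r' * t⁻¹ by group, ← hsq]
          group
      _ = (r' * t * r'⁻¹) * (r' * ee z x (bn a v') (Bool.xor (bn a v') (bn v v'))) * t⁻¹ := by
          rw [hw, hc.eq]
      _ = r' * (t * ee z x (bn a v') (Bool.xor (bn a v') (bn v v')) * t⁻¹) := by group
      _ = _ := by
          rw [mul_inv_eq_iff_eq_mul.2 (d.ee_comm htx (d.form_commute h).1 _ _).eq]
  rw [show t * (u' * r') * t⁻¹ = (t * u' * t⁻¹) * (t * r' * t⁻¹) by group, hl u' hu' hua', hr2,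
    mul_assoc u', ← mul_assoc (ee z x _ _) r', ← (d.ee_comm (d.A_comm hr').1 (d.A_comm hr').2 _ _).eq,
    mul_assoc r', d.ee_mul, mul_assoc u']

end Duo

end Cfsg.Agent.Lib.Co1Type31
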