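import Cfsg.Agent.Lib.Co1Type31.Space
import Cfsg.Agent.Lib.LargeExtraspecial.Basic

/-!
# Conway type: the centraliser of `z` acting on the coded quotient `Q / Z(Q)`

After `Lib/SuzType52/Frame` (helper52), in dimension eight.

Owner: helper31.
-/

set_option autoImplicit false

namespace Cfsg.Agent.Lib.Co1Type31

open Cfsg.Agent.Lib.LargeExtraspecial.Basic

variable {G : Type*} [Group G]

/-- `g` or `1`. -/
def pw (g : G) (b : Bool) : G := bif b then g else 1

theorem pw_mul {g : G} (h : g * g = 1) (a b : Bool) : pw g a * pw g b = pw g (Bool.xor a b) := by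
  cases a <;> cases b <;> simp [pw, h]

/-- An additive map of the coded space preserving the form. -/
structure Iso8 (f : ℕ → ℕ) : Prop extends Lin8 f where
  pres : ∀ k < 256, qn (f k) = qn k

namespace Iso8

variable {f : ℕ → ℕ} (hf : Iso8 f)
include hf

theorem bn_eq {j k : ℕ} (hj : j < 256) (hk : k < 256) : bn (f j) (f k) = bn j k := by
  rw [bn_def, ← hf.add j hj k hk, hf.pres _ (xor_lt hj hk), hf.pres j hj, hf.pres k hk, bn_def]

theorem zero : f 0 = 0 := hf.toLin8.zero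

theorem b1_eq' (h1 : f 1 = 1) {k : ℕ} (hk : k < 256) : b1 (f k) = b1 k := by
  rw [← b1_eq (hf.lt k hk), ← h1, hf.bn_eq hk (by norm_num), b1_eq hk]

/-- A map trivial on the perpendicular of the point modulo the point is a transvection. -/
theorem eich_of_radical (h1 : f 1 = 1)
    (htr : ∀ j ∈ bits6, f j = j ∨ f j = j ^^^ 1) :
    ∃ a ∈ w6, ∀ k < 256, f k = eich a k := by
  obtain ⟨i, hi, hf6⟩ : ∃ i < 64, ∀ j ∈ bits6, f j = radImg (4 * i) (f 2) j := by
    have key : ∀ e4 < 2, ∀ e8 < 2, ∀ e16 < 2, ∀ e32 < 2, ∀ e64 < 2, ∀ e128 < 2, ∀ g2 : ℕ,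
        let i := e4 + 2 * e8 + 4 * e16 + 8 * e32 + 16 * e64 + 32 * e128
        i < 64 ∧ radImg (4 * i) g2 4 = 4 ^^^ e4 ∧ radImg (4 * i) g2 8 = 8 ^^^ e8 ∧
          radImg (4 * i) g2 16 = 16 ^^^ e16 ∧ radImg (4 * i) g2 32 = 32 ^^^ e32 ∧
          radImg (4 * i) g2 64 = 64 ^^^ e64 ∧ radImg (4 * i) g2 128 = 128 ^^^ e128 := by
      intro e4 h4 e8 h8 e16 h16 e32 h32 e64 h64 e128 h128 g2
      interval_cases e4 <;> interval_cases e8 <;> interval_cases e16 <;> interval_cases e32 <;>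
        interval_cases e64 <;> interval_cases e128 <;>
        exact ⟨by norm_num, rfl, rfl, rfl, rfl, rfl, rfl⟩
    have ex : ∀ j ∈ bits6, ∃ e < 2, f j = j ^^^ e := fun j hj => by
      rcases htr j hj with e | e
      · exact ⟨0, by norm_num, e.trans (Nat.xor_zero j).symm⟩
      · exact ⟨1, by norm_num, e⟩
    obtain ⟨e4, h4, f4⟩ := ex 4 (by simp [bits6])
    obtain ⟨e8, h8, f8⟩ := ex 8 (by simp [bits6])
    obtain ⟨e16, h16, f16⟩ := ex 16 (by simp [bits6])
    obtain ⟨e32, h32, f32⟩ := ex 32 (by simp [bits6])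
    obtain ⟨e64, h64, f64⟩ := ex 64 (by simp [bits6])
    obtain ⟨e128, h128, f128⟩ := ex 128 (by simp [bits6])
    obtain ⟨hi, k4, k8, k16, k32, k64, k128⟩ := key e4 h4 e8 h8 e16 h16 e32 h32 e64 h64 e128 h128 (f 2)
    refine ⟨_, hi, fun j hj => ?_⟩
    simp only [bits6, List.mem_cons, List.not_mem_nil, or_false] at hj
    rcases hj with rfl | rfl | rfl | rfl | rfl | rfl
    exacts [f4.trans k4.symm, f8.trans k8.symm, f16.trans k16.symm, f32.trans k32.symm, f64.trans k64.symm,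
      f128.trans k128.symm]
  have key := List.all_eq_true.1 (List.all_eq_true.1 rad_aux i (List.mem_range.2 hi))
    (f 2) (mem_all8.2 (hf.lt 2 (by norm_num)))
  have q2 : qn (f 2) = false := by rw [hf.pres 2 (by norm_num)]; decide
  have b12 : bn 1 (f 2) = true := by
    rw [← h1, hf.bn_eq (by norm_num) (by norm_num)]; decide
  have bj : bits6.all (fun j => bn (radImg (4 * i) (f 2) j) (f 2) == false) = true := by
    refine List.all_eq_true.2 fun j hj => beq_iff_eq.2 ?_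
    have hj' : ∀ j ∈ bits6, j < 256 ∧ bn j 2 = false := by decide +kernel
    rw [← hf6 j hj, hf.bn_eq (hj' j hj).1 (by norm_num)]
    exact (hj' j hj).2
  rw [q2, b12, bj] at key
  simp only [BEq.rfl, Bool.and_self, Bool.not_true, Bool.false_or] at key
  have hva : f 2 &&& 252 ∈ w6 := mem_w6 (hf.lt 2 (by norm_num))
  refine ⟨_, hva, hf.toLin8.ext (eich_lin (lt_of_w6 hva)) (List.all_eq_true.2 fun j hj => ?_)⟩
  have e : f j = radImg (4 * i) (f 2) j := by
    have h8 : ∀ j ∈ bits8, j = 1 ∨ j = 2 ∨ j ∈ bits6 := by decide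
    rcases h8 j hj with rfl | rfl | hj
    · exact h1
    · rfl
    · exact hf6 j hj
  rw [e]
  exact List.all_eq_true.1 key j hj

end Iso8

/-- The coded data of a centraliser with `C/Q` acting as an index two subgroup of the orthogonal group. -/
structure Frame (z : G) (Q : Subgroup G) (co : G → ℕ) (ac : G → ℕ → ℕ) : Prop where
  ord : orderOf z = 2
  es : ES Q z
  cent : ∀ c : G, (∀ q ∈ Q, Commute c q) → c = 1 ∨ c = z
  norm : ∀ c : G, Commute c z → ∀ q ∈ Q, c * q * c⁻¹ ∈ Q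
  card : Nat.card Q = 512
  cardC : Nat.card (Subgroup.centralizer ({z} : Set G)) = 89181388800
  co_lt : ∀ q ∈ Q, co q < 256
  co_mul : ∀ q ∈ Q, ∀ r ∈ Q, co (q * r) = co q ^^^ co r
  co_zero : ∀ q ∈ Q, co q = 0 → q = 1 ∨ q = z
  co_surj : ∀ k < 256, ∃ q ∈ Q, co q = k
  sq : ∀ q ∈ Q, q * q = pw z (qn (co q))
  conj : ∀ c, Commute c z → ∀ q ∈ Q, co (c * q * c⁻¹) = ac c (co q)
  faithful : ∀ c, Commute c z → (∀ k < 256, ac c k = k) → c ∈ Q
  exists_pair : ∀ v < 256, ∀ w < 256, qn v = true → qn w = true →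
    ∃ c, Commute c z ∧ ∀ k < 256, ac c k = pr (v, w) k
  not_refl : ∀ c, Commute c z → ∀ v < 256, qn v = true → ¬ ∀ k < 256, ac c k = refl v k

namespace Frame

variable {z : G} {Q : Subgroup G} {co : G → ℕ} {ac : G → ℕ → ℕ} (h : Frame z Q co ac)
include h

theorem co_one : co 1 = 0 := by
  have := h.co_mul 1 (one_mem Q) 1 (one_mem Q)
  rwa [one_mul, Nat.xor_self] at this

theorem co_inv {q : G} (hq : q ∈ Q) : co q⁻¹ = co q := by
  have := h.co_mul q hq q⁻¹ (inv_mem hq)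
  rw [mul_inv_cancel, h.co_one] at this
  exact (Nat.eq_of_xor_eq_zero this.symm).symm

theorem co_z : co z = 0 := by
  obtain ⟨q, hq, hq0⟩ := h.co_surj 12 (by norm_num)
  have e := h.co_mul q hq q hq
  rw [h.sq q hq, hq0, Nat.xor_self] at e
  exact e

theorem co_eq {q r : G} (hq : q ∈ Q) (hr : r ∈ Q) (e : co q = co r) : r = q ∨ r = q * z := by
  have h0 := h.co_mul q⁻¹ (inv_mem hq) r hr
  rw [h.co_inv hq, e, Nat.xor_self] at h0
  rcases h.co_zero _ (mul_mem (inv_mem hq) hr) h0 with e1 | e1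
  · exact Or.inl (inv_mul_eq_one.1 e1).symm
  · exact Or.inr (inv_mul_eq_iff_eq_mul.1 e1)

theorem co_conjQ {q r : G} (hq : q ∈ Q) (hr : r ∈ Q) : co (q * r * q⁻¹) = co r := by
  rw [h.co_mul _ (mul_mem hq hr) _ (inv_mem hq), h.co_mul q hq r hr, h.co_inv hq, Nat.xor_comm (co q),
    Nat.xor_assoc, Nat.xor_self, Nat.xor_zero]

theorem comm_Q {q r : G} (hq : q ∈ Q) (hr : r ∈ Q) : q * r * q⁻¹ = r * pw z (bn (co q) (co r)) := by
  have h1 := h.sq _ (mul_mem hq hr)
  rw [h.co_mul q hq r hr] at h1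
  have h2 := h.sq q hq
  have h3 := h.sq r hr
  have hzq : ∀ p ∈ Q, ∀ b, Commute p (pw z b) := fun p hp b => by
    cases b
    · exact Commute.one_right p
    · exact h.es.comm p hp
  have e : q * r * q⁻¹ * ((q * q) * r) = q * r * (q * r) := by group
  rw [h1, h2] at e
  calc q * r * q⁻¹ = (q * r * q⁻¹ * (pw z (qn (co q)) * r)) * r⁻¹ * (pw z (qn (co q)))⁻¹ := by group
    _ = pw z (qn (co q ^^^ co r)) * r⁻¹ * pw z (qn (co q)) := by
      rw [e]
      congr 1
      cases qn (co q) <;> simp [pw, h.es.zinv]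
    _ = r⁻¹ * (pw z (qn (co q ^^^ co r)) * pw z (qn (co q))) := by
      rw [← (hzq _ (inv_mem hr) _).eq, mul_assoc]
    _ = r * pw z (bn (co q) (co r)) := by
      have hi : r⁻¹ = r * pw z (qn (co r)) :=
        inv_eq_of_mul_eq_one_right (by rw [← mul_assoc, h3, pw_mul h.es.sq, Bool.xor_self]; rfl)
      rw [hi, mul_assoc, pw_mul h.es.sq, pw_mul h.es.sq, bn_def]
      congr 2
      cases qn (co q ^^^ co r) <;> cases qn (co q) <;> cases qn (co r) <;> rfl

theorem commute_Q {q r : G} (hq : q ∈ Q) (hr : r ∈ Q) : Commute q r ↔ bn (co q) (co r) = false := by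
  have e := h.comm_Q hq hr
  constructor
  · intro hc
    cases hb : bn (co q) (co r) with
    | false => rfl
    | true =>
      rw [hb, mul_inv_eq_iff_eq_mul.2 hc.eq] at e
      exact absurd (left_eq_mul.1 e) h.es.ne
  · intro hb
    rw [hb] at e
    exact mul_inv_eq_iff_eq_mul.1 (e.trans (mul_one r))

theorem commute_of_mem {q : G} (hq : q ∈ Q) : Commute q z := h.es.comm q hq

theorem ac_lt {c : G} (hc : Commute c z) {k : ℕ} (hk : k < 256) : ac c k < 256 := by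
  obtain ⟨q, hq, rfl⟩ := h.co_surj k hk
  rw [← h.conj c hc q hq]
  exact h.co_lt _ (h.norm c hc q hq)

theorem ac_mul {c d : G} (hc : Commute c z) (hd : Commute d z) {k : ℕ} (hk : k < 256) :
    ac (c * d) k = ac c (ac d k) := by
  obtain ⟨q, hq, rfl⟩ := h.co_surj k hk
  rw [← h.conj _ (hc.mul_left hd) q hq, ← h.conj d hd q hq, ← h.conj c hc _ (h.norm d hd q hq)]
  congr 1
  group

theorem ac_Q {c : G} (hc : c ∈ Q) {k : ℕ} (hk : k < 256) : ac c k = k := by
  obtain ⟨q, hq, rfl⟩ := h.co_surj k hk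
  rw [← h.conj c (h.es.comm c hc) q hq, h.co_conjQ hc hq]

theorem ac_inv {c : G} (hc : Commute c z) {k : ℕ} (hk : k < 256) : ac c⁻¹ (ac c k) = k := by
  rw [← h.ac_mul hc.inv_left hc hk, inv_mul_cancel, h.ac_Q (one_mem Q) hk]

theorem ac_inv' {c : G} (hc : Commute c z) {k : ℕ} (hk : k < 256) : ac c (ac c⁻¹ k) = k := by
  rw [← h.ac_mul hc hc.inv_left hk, mul_inv_cancel, h.ac_Q (one_mem Q) hk]

theorem ac_xor {c : G} (hc : Commute c z) {j k : ℕ} (hj : j < 256) (hk : k < 256) :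
    ac c (j ^^^ k) = ac c j ^^^ ac c k := by
  obtain ⟨q, hq, rfl⟩ := h.co_surj j hj
  obtain ⟨r, hr, rfl⟩ := h.co_surj k hk
  rw [← h.co_mul q hq r hr, ← h.conj c hc _ (mul_mem hq hr), ← h.conj c hc q hq, ← h.conj c hc r hr,
    ← h.co_mul _ (h.norm c hc q hq) _ (h.norm c hc r hr)]
  congr 1
  group

theorem ac_qn {c : G} (hc : Commute c z) {k : ℕ} (hk : k < 256) : qn (ac c k) = qn k := by
  obtain ⟨q, hq, rfl⟩ := h.co_surj k hk
  rw [← h.conj c hc q hq]
  have e := h.sq _ (h.norm c hc q hq)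
  have e2 : c * q * c⁻¹ * (c * q * c⁻¹) = pw z (qn (co q)) := by
    rw [← h.sq q hq, show c * q * c⁻¹ * (c * q * c⁻¹) = c * (q * q) * c⁻¹ by group, h.sq q hq]
    cases qn (co q)
    · simp [pw]
    · exact mul_inv_eq_iff_eq_mul.2 hc.eq
  rw [e2] at e
  cases h1 : qn (co (c * q * c⁻¹)) <;> cases h2 : qn (co q) <;> rw [h1, h2] at e <;>
    first | rfl | exact absurd e h.es.ne | exact absurd e.symm h.es.ne

theorem ac_bn {c : G} (hc : Commute c z) {j k : ℕ} (hj : j < 256) (hk : k < 256) :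
    bn (ac c j) (ac c k) = bn j k := by
  rw [bn_def, ← h.ac_xor hc hj hk, h.ac_qn hc (xor_lt hj hk), h.ac_qn hc hj, h.ac_qn hc hk, bn_def]

theorem iso {c : G} (hc : Commute c z) : Iso8 (ac c) :=
  ⟨⟨fun _ hk => h.ac_lt hc hk, fun _ hj _ hk => h.ac_xor hc hj hk⟩, fun _ hk => h.ac_qn hc hk⟩

theorem exists_prs : ∀ {ws : List (ℕ × ℕ)}, okWord ws = true →
    ∃ c, Commute c z ∧ ∀ k < 256, ac c k = prs ws k
  | [], _ => ⟨1, Commute.one_left z, fun _ hk => h.ac_Q (one_mem Q) hk⟩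
  | p :: _, hw => by
    obtain ⟨⟨l1, l2, q1, q2⟩, hw'⟩ := okWord_cons hw
    obtain ⟨d, hd, hdk⟩ := exists_prs hw'
    obtain ⟨c, hc, hck⟩ := h.exists_pair p.1 l1 p.2 l2 q1 q2
    refine ⟨c * d, hc.mul_left hd, fun k hk => ?_⟩
    rw [h.ac_mul hc hd hk, hdk k hk, hck _ ((prs_lin hw').lt k hk)]
    rfl

theorem exists_pr {p : ℕ × ℕ} (hp : p ∈ pairs6) :
    ∃ c, Commute c z ∧ ∀ k < 256, ac c k = pr p k := by
  obtain ⟨h1, h2⟩ := mem_pairs6 hp
  exact h.exists_pair p.1 (ns6_spec _ h1).1 p.2 (ns6_spec _ h2).1 (ns6_spec _ h1).2.1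
    (ns6_spec _ h2).2.1

theorem exists_to_one {k : ℕ} (hk : k < 256) (h0 : k ≠ 0) (hq : qn k = false) :
    ∃ c, Commute c z ∧ ac c k = 1 := by
  obtain ⟨v, hv, w, hw, hqv, hqw, e⟩ := sing_trans hk h0 hq
  obtain ⟨c, hc, hck⟩ := h.exists_pair v hv w hw hqv hqw
  exact ⟨c, hc, (hck k hk).trans e⟩

theorem ac_conj {c d : G} (hc : Commute c z) (hd : Commute d z) {k : ℕ} (hk : k < 256) :
    ac (d * c * d⁻¹) k = ac d (ac c (ac d⁻¹ k)) := by
  rw [h.ac_mul (hd.mul_left hc) hd.inv_left hk, h.ac_mul hd hc (h.ac_lt hd.inv_left hk)]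

end Frame

end Cfsg.Agent.Lib.Co1Type31
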