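import Cfsg.Agent.Lib.Co1Type31.Sylow
import Cfsg.Agent.Lib.Co1Type31.Forms

/-!
# Conway type: two-subgroups of the centraliser of an involution commuting with `z`

If a two-subgroup of `C(z) ∩ C(b)` is maximal there but not in `C(b)`, an element of `C(b)` normalises
it and moves `z`.

Owner: helper31.
-/

set_option autoImplicit false

namespace Cfsg.Agent.Lib.Co1Type31

variable {G : Type*} [Group G] [Finite G]

theorem exists_moved {T S : Subgroup G} {b z : G} (hTz : ∀ a ∈ T, Commute a z)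
    (hTb : ∀ a ∈ T, Commute a b) (hT : IsPGroup 2 T) (hS : IsPGroup 2 S)
    (hSb : ∀ a ∈ S, Commute a b) (hlt : Nat.card T < Nat.card S)
    (hmax : ∀ J : Subgroup G, IsPGroup 2 J → (∀ a ∈ J, Commute a z ∧ Commute a b) → T ≤ J → J = T) :
    ∃ g, Commute g b ∧ g * z * g⁻¹ ≠ z ∧ (∀ a ∈ T, g * a * g⁻¹ ∈ T) ∧ ∀ a ∈ T, g⁻¹ * a * g ∈ T := by
  have : Fact (Nat.Prime 2) := ⟨Nat.prime_two⟩
  set C := Subgroup.centralizer ({b} : Set G) with hC
  have hTC : T ≤ C := fun a ha => Subgroup.mem_centralizer_singleton_iff.2 (hTb a ha).eq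
  have hSC : S ≤ C := fun a ha => Subgroup.mem_centralizer_singleton_iff.2 (hSb a ha).eq
  obtain ⟨R, hR⟩ := (hT.of_equiv (Subgroup.subgroupOfEquivOfLe hTC).symm).exists_le_sylow
  obtain ⟨R', hR'⟩ := (hS.of_equiv (Subgroup.subgroupOfEquivOfLe hSC).symm).exists_le_sylow
  have h1 : Nat.card S ≤ Nat.card (R : Subgroup C) := by
    rw [Nat.card_congr (Subgroup.subgroupOfEquivOfLe hSC).symm.toEquiv,
      Nat.card_congr (Sylow.equiv R R').toEquiv]
    exact Subgroup.card_le_of_le hR'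
  set U := (R : Subgroup C).map C.subtype with hU
  have hUC : U ≤ C := Subgroup.map_subtype_le _
  have hTU : T ≤ U := fun a ha => ⟨⟨a, hTC ha⟩, hR ha, rfl⟩
  have hU2 : IsPGroup 2 U := R.2.map _
  have hUcard : Nat.card U = Nat.card (R : Subgroup C) :=
    Subgroup.card_map_of_injective C.subtype_injective
  have hne : T.subgroupOf U < ⊤ := by
    refine lt_top_iff_ne_top.2 fun e => ?_
    rw [Subgroup.subgroupOf_eq_top] at e
    have := Subgroup.card_le_of_le e
    omega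
  have : Group.IsNilpotent U := hU2.isNilpotent
  obtain ⟨y, hyN, hy⟩ :=
    SetLike.exists_of_lt (Group.normalizerCondition_of_isNilpotent (T.subgroupOf U) hne)
  have hyinv : ∀ a ∈ T, (y : G)⁻¹ * a * (y : G) ∈ T := fun a ha => by
    have := (Subgroup.mem_normalizer_iff.1 (inv_mem hyN) ⟨a, hTU ha⟩).1 ha
    rw [inv_inv, Subgroup.mem_subgroupOf] at this
    simpa only [Subgroup.coe_mul, Subgroup.coe_inv] using this
  have hyfwd : ∀ a ∈ T, (y : G) * a * (y : G)⁻¹ ∈ T := fun a ha => by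
    have := (Subgroup.mem_normalizer_iff.1 hyN ⟨a, hTU ha⟩).1 ha
    rw [Subgroup.mem_subgroupOf] at this
    simpa only [Subgroup.coe_mul, Subgroup.coe_inv] using this
  have hyb : Commute (y : G) b := Subgroup.mem_centralizer_singleton_iff.1 (hUC y.2)
  refine ⟨y, hyb, fun e => hy ?_, hyfwd, hyinv⟩
  have hle : T ⊔ Subgroup.zpowers (y : G) ≤ U := sup_le hTU (Subgroup.zpowers_le.2 y.2)
  have he := hmax _ (hU2.to_le hle) (fun a ha => ⟨?_, ?_⟩) le_sup_left
  · show (y : G) ∈ T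
    rw [← he]
    exact Subgroup.mem_sup_right (Subgroup.mem_zpowers _)
  · have hsub : T ⊔ Subgroup.zpowers (y : G) ≤ Subgroup.centralizer ({z} : Set G) :=
      sup_le (fun a ha => Subgroup.mem_centralizer_singleton_iff.2 (hTz a ha).eq)
        (Subgroup.zpowers_le.2 (Subgroup.mem_centralizer_singleton_iff.2 (mul_inv_eq_iff_eq_mul.1 e)))
    exact Subgroup.mem_centralizer_singleton_iff.1 (hsub ha)
  · exact Subgroup.mem_centralizer_singleton_iff.1 (hUC (hle ha))

namespace Duo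

variable {z : G} {Q : Subgroup G} {co : G → ℕ} {ac : G → ℕ → ℕ} {x n : G}
  (d : Duo z Q co ac x n)
include d

omit [Finite G] in
/-- An element moving `x` to `x z` on the four-group. -/
theorem ee_flip {h : G} (hz : Commute h z) (hx : h * x * h⁻¹ = x * z) (i j : Bool) :
    h * ee z x i j * h⁻¹ = ee z x i (Bool.xor i j) := by
  have hz' : h * z * h⁻¹ = z := mul_inv_eq_iff_eq_mul.2 hz.eq
  cases i <;> cases j <;> simp only [ee, pw, cond_true, cond_false, mul_one, one_mul, mul_inv_cancel,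
    Bool.xor_false, Bool.xor_true, Bool.not_true, Bool.not_false]
  · exact hz'
  · exact hx
  · calc h * (x * z) * h⁻¹ = (h * x * h⁻¹) * (h * z * h⁻¹) := by group
      _ = x := by rw [hx, hz', mul_assoc, d.fr.es.sq, mul_one]

omit [Finite G] in
/-- A product with parameters `a, v` and an element `h` fixing it and moving `x` to `x z`, from a pair
of reflections fixing `a` and adding `a` to `v`. -/
theorem exists_flip {b : G} {a v : ℕ} {p : ℕ × ℕ} (ha : a ∈ w6) (hp : p ∈ pairs6) (hpa : pr p a = a)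
    (hpv : pr p v ^^^ a = v) (hsep : ∀ i j : Bool, ∃ k ∈ w6, bn a k = i ∧ bn v k = j)
    (hb : Form Q co ac n z b a v) :
    ∃ h, Commute h z ∧ Commute h b ∧ h * x * h⁻¹ = x * z ∧ (∀ k < 256, ac h k = pr p k) ∧
      ∀ t a' v', a' ∈ w6 → Form Q co ac n z t a' v' →
        Form Q co ac n z (h * t * h⁻¹) (pr p a') (pr p v' ^^^ pr p a') := by
  obtain ⟨c, hc, hcx, hck⟩ := d.exists_prE hp
  obtain ⟨g, hg, hg2⟩ := d.fr.co_surj 2 (by norm_num)
  have hF := d.form_shift ha (d.form_conj hp ha hc hcx hck hb |> fun h => hpa ▸ h) hg hg2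
  rw [hpv] at hF
  obtain ⟨w, hw, hwb⟩ := d.form_unique ha hsep hF hb
  have hwz := (d.A_comm hw).2
  refine ⟨w * g * c, (hwz.mul_left (d.fr.es.comm g hg)).mul_left hc, ?_, ?_, fun k hk => ?_,
    fun t a' v' ha' ht => ?_⟩
  · refine mul_inv_eq_iff_eq_mul.1 ?_
    calc w * g * c * b * (w * g * c)⁻¹ = w * (g * (c * b * c⁻¹) * g⁻¹) * w⁻¹ := by group
      _ = b := hwb
  · calc w * g * c * x * (w * g * c)⁻¹ = w * (g * (c * x * c⁻¹) * g⁻¹) * w⁻¹ := by group
      _ = x * z := by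
        rw [mul_inv_eq_iff_eq_mul.2 hcx.eq, d.xz_conj hg hg2]
        exact mul_inv_eq_iff_eq_mul.2 ((d.A_comm hw).1.mul_right hwz).eq
  · rw [d.fr.ac_mul (hwz.mul_left (d.fr.es.comm g hg)) hc hk, hck k hk,
      d.fr.ac_Q (mul_mem hw.1 hg) (pr_spec hp hk).1]
  · have hF' := d.form_shift (pr_w6 hp ha') (d.form_conj hp ha' hc hcx hck ht) hg hg2
    rw [show w * g * c * t * (w * g * c)⁻¹ = w * (g * (c * t * c⁻¹) * g⁻¹) * w⁻¹ by group,
      d.form_wconj (pr_w6 hp ha') hF' hw]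
    exact d.form_ee hF' _ _

omit [Finite G] in
/-- An element fixing `b` and moving `z` to `b z` preserves `C(z) ∩ C(b)`. -/
theorem pair_norm {g b : G} (hb2 : b * b = 1) (hgb : Commute g b) (hgz : g * z * g⁻¹ = b * z) {a : G}
    (haz : Commute a z) (hab : Commute a b) :
    (Commute (g * a * g⁻¹) z ∧ Commute (g * a * g⁻¹) b) ∧
      (Commute (g⁻¹ * a * g) z ∧ Commute (g⁻¹ * a * g) b) := by
  have hgi : g⁻¹ * b * g = b := by rw [mul_assoc, ← hgb.eq, inv_mul_cancel_left]
  have hgi' : g * b * g⁻¹ = b := mul_inv_eq_iff_eq_mul.2 hgb.eq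
  have h1 : Commute (g * a * g⁻¹) b := by
    simpa [hgi'] using hab.map (MulAut.conj g).toMonoidHom
  have h2 : Commute (g⁻¹ * a * g) b := by
    simpa [hgi] using hab.map (MulAut.conj g⁻¹).toMonoidHom
  have hgiz : g⁻¹ * z * g = b * z := by
    have e : g⁻¹ * (b * z) * g = z := by rw [← hgz]; group
    calc g⁻¹ * z * g = (g⁻¹ * b * g) * (g⁻¹ * b * g) * (g⁻¹ * z * g) := by rw [hgi, hb2, one_mul]
      _ = (g⁻¹ * b * g) * (g⁻¹ * (b * z) * g) := by group
      _ = b * z := by rw [e, hgi]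
  refine ⟨⟨?_, h1⟩, ?_, h2⟩
  · have h3 : Commute (g * a * g⁻¹) (b * z) := by
      simpa [hgz] using haz.map (MulAut.conj g).toMonoidHom
    have := h1.mul_right h3
    rwa [← mul_assoc, hb2, one_mul] at this
  · have h3 : Commute (g⁻¹ * a * g) (b * z) := by
      simpa [hgiz] using haz.map (MulAut.conj g⁻¹).toMonoidHom
    have := h2.mul_right h3
    rwa [← mul_assoc, hb2, one_mul] at this

end Duo

end Cfsg.Agent.Lib.Co1Type31
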