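import Cfsg.Agent.Lib.Co1Type31.Frame

/-!
# Conway type: two commuting conjugates `z, x` with `x ∈ Q`, and `C_P(z)` as transvections

`P` is `n Q n⁻¹` for an element `n` interchanging `z` and `x`.

After `Lib/SuzType52/Pair` (helper52).

Owner: helper31.
-/

set_option autoImplicit false

namespace Cfsg.Agent.Lib.Co1Type31

variable {G : Type*} [Group G]

/-- The commutator used here. -/
def com (r u : G) : G := r * u * r⁻¹ * u⁻¹

/-- An element of the four-group. -/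
def ee (z x : G) (i j : Bool) : G := pw x i * pw z j

theorem com_mul_left (r r' u : G) : com (r * r') u = r * com r' u * r⁻¹ * com r u := by
  simp only [com]; group

theorem com_mul_right (r u u' : G) : com r (u * u') = com r u * (u * com r u' * u⁻¹) := by
  simp only [com]; group

theorem com_conj (c r u : G) : com (c * r * c⁻¹) (c * u * c⁻¹) = c * com r u * c⁻¹ := by
  simp only [com]; group

theorem com_inv (r u : G) : (com r u)⁻¹ = com u r := by simp only [com]; group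

/-- `z`, a conjugate `x` of it in `Q` and an element interchanging the two. -/
structure Duo (z : G) (Q : Subgroup G) (co : G → ℕ) (ac : G → ℕ → ℕ) (x n : G) : Prop where
  fr : Frame z Q co ac
  xQ : x ∈ Q
  cox : co x = 1
  nz : n * z * n⁻¹ = x
  nx : n * x * n⁻¹ = z

/-- The first abelian-by-four part: `Q ∩ C(x)`. -/
def InA (Q : Subgroup G) (co : G → ℕ) (r : G) : Prop := r ∈ Q ∧ b1 (co r) = false

/-- The second part: `P ∩ C(z)`. -/
def InB (Q : Subgroup G) (n z u : G) : Prop := n⁻¹ * u * n ∈ Q ∧ Commute u z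

/-- `u` acts as the transvection with parameter `a`. -/
def Act (ac : G → ℕ → ℕ) (u : G) (a : ℕ) : Prop := ∀ k < 256, ac u k = eich a k

namespace Duo

variable {z : G} {Q : Subgroup G} {co : G → ℕ} {ac : G → ℕ → ℕ} {x n : G}
  (d : Duo z Q co ac x n)
include d

theorem xsq : x * x = 1 := by
  rw [d.fr.sq x d.xQ, d.cox]
  rfl

theorem xz : Commute x z := d.fr.es.comm x d.xQ

theorem x_ne : x ≠ 1 ∧ x ≠ z := by
  constructor <;> intro e <;> have := d.cox <;> rw [e] at this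
  · rw [d.fr.co_one] at this; omega
  · rw [d.fr.co_z] at this; omega

theorem ee_mul (i j i' j' : Bool) :
    ee z x i j * ee z x i' j' = ee z x (Bool.xor i i') (Bool.xor j j') := by
  have hc : Commute (pw z j) (pw x i') := by
    cases j <;> cases i' <;> first | exact Commute.one_left _ | exact Commute.one_right _ | exact d.xz.symm
  simp only [ee]
  rw [mul_assoc (pw x i), ← mul_assoc (pw z j), hc.eq, mul_assoc (pw x i'), ← mul_assoc (pw x i),
    pw_mul d.xsq, pw_mul d.fr.es.sq]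

theorem ee_zero : ee z x false false = 1 := one_mul 1

theorem ee_mem (i j : Bool) : ee z x i j ∈ Q := by
  refine mul_mem ?_ ?_
  · cases i
    · exact one_mem Q
    · exact d.xQ
  · cases j
    · exact one_mem Q
    · exact d.fr.es.mem

theorem co_ee (i j : Bool) : co (ee z x i j) = bif i then 1 else 0 := by
  have hj : co (pw z j) = 0 := by
    cases j
    · exact d.fr.co_one
    · exact d.fr.co_z
  have hj' : pw z j ∈ Q := by
    cases j
    · exact one_mem Q
    · exact d.fr.es.mem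
  have hi' : pw x i ∈ Q := by
    cases i
    · exact one_mem Q
    · exact d.xQ
  rw [ee, d.fr.co_mul _ hi' _ hj', hj, Nat.xor_zero]
  cases i
  · exact d.fr.co_one
  · exact d.cox

theorem ee_inj {i j i' j' : Bool} (e : ee z x i j = ee z x i' j') : i = i' ∧ j = j' := by
  have hi : i = i' := by
    have := congrArg co e
    rw [d.co_ee, d.co_ee] at this
    cases i <;> cases i' <;> simp at this ⊢
  subst hi
  refine ⟨rfl, ?_⟩
  have e' : pw z j = pw z j' := mul_left_cancel e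
  cases j <;> cases j' <;> first | rfl | exact absurd e' d.fr.es.ne | exact absurd e'.symm d.fr.es.ne

theorem exists_ee {r : G} (hr : r ∈ Q) (h : co r = 0 ∨ co r = 1) : ∃ i j, r = ee z x i j := by
  have key : ∀ i, co r = co (ee z x i false) → ∃ i j, r = ee z x i j := fun i e => by
    rcases d.fr.co_eq (d.ee_mem i false) hr e.symm with e' | e'
    · exact ⟨i, false, e'⟩
    · exact ⟨i, true, e'.trans (by simp [ee, pw])⟩
  rcases h with h | h
  · exact key false (by rw [d.co_ee]; exact h)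
  · exact key true (by rw [d.co_ee]; exact h)

theorem ee_comm {g : G} (hx : Commute g x) (hz : Commute g z) (i j : Bool) :
    Commute g (ee z x i j) := by
  refine Commute.mul_right ?_ ?_
  · cases i
    · exact Commute.one_right g
    · exact hx
  · cases j
    · exact Commute.one_right g
    · exact hz

theorem ee_sq (i j : Bool) : ee z x i j * ee z x i j = 1 := by
  rw [d.ee_mul, Bool.xor_self, Bool.xor_self, d.ee_zero]

theorem commute_x_iff {r : G} (hr : r ∈ Q) : Commute r x ↔ b1 (co r) = false := by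
  rw [d.fr.commute_Q hr d.xQ, d.cox, b1_eq (d.fr.co_lt r hr)]

theorem nz' : n⁻¹ * x * n = z := by rw [← d.nz]; group

theorem nx' : n⁻¹ * z * n = x := by rw [← d.nx]; group

theorem sq_commute {c : G} (hc : Commute c z) : Commute (n * c * n⁻¹) x := by
  have := hc.map (MulAut.conj n).toMonoidHom
  simpa [d.nz] using this

theorem P_comm {u : G} (hu : n⁻¹ * u * n ∈ Q) : Commute u x := by
  have := d.sq_commute (d.fr.es.comm _ hu)
  simpa [mul_assoc] using this

/-- `n u n⁻¹ ∈ Q` for `u ∈ P`. -/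
theorem P_swap {u : G} (hu : n⁻¹ * u * n ∈ Q) : n * u * n⁻¹ ∈ Q := by
  have hc : Commute (n * n) z := by
    refine mul_inv_eq_iff_eq_mul.1 ?_
    calc n * n * z * (n * n)⁻¹ = n * (n * z * n⁻¹) * n⁻¹ := by group
      _ = z := by rw [d.nz, d.nx]
  have := d.fr.norm _ hc _ hu
  convert this using 1
  group

theorem P_conj {c u : G} (hc : Commute c x) (hu : n⁻¹ * u * n ∈ Q) : n⁻¹ * (c * u * c⁻¹) * n ∈ Q := by
  have hc' : Commute (n⁻¹ * c * n) z := by
    have := hc.map (MulAut.conj n⁻¹).toMonoidHom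
    simpa [d.nz'] using this
  have := d.fr.norm _ hc' _ hu
  convert this using 1
  group

theorem P_mul {u v : G} (hu : n⁻¹ * u * n ∈ Q) (hv : n⁻¹ * v * n ∈ Q) : n⁻¹ * (u * v) * n ∈ Q := by
  convert mul_mem hu hv using 1
  group

theorem P_inv {u : G} (hu : n⁻¹ * u * n ∈ Q) : n⁻¹ * u⁻¹ * n ∈ Q := by
  convert inv_mem hu using 1
  group

theorem P_sq {u : G} (hu : n⁻¹ * u * n ∈ Q) : u * u = pw x (qn (co (n⁻¹ * u * n))) := by
  have e := d.fr.sq _ hu
  calc u * u = n * ((n⁻¹ * u * n) * (n⁻¹ * u * n)) * n⁻¹ := by group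
    _ = _ := by
      rw [e]
      cases qn (co (n⁻¹ * u * n))
      · simp [pw]
      · exact d.nz

theorem B_of_A {r : G} (hr : InA Q co r) : InB Q n z (n * r * n⁻¹) := by
  refine ⟨?_, ?_⟩
  · convert hr.1 using 1
    group
  · have := ((d.commute_x_iff hr.1).2 hr.2).map (MulAut.conj n).toMonoidHom
    simpa [d.nx] using this

theorem A_of_B {u : G} (hu : InB Q n z u) : InA Q co (n * u * n⁻¹) :=
  ⟨d.P_swap hu.1, (d.commute_x_iff (d.P_swap hu.1)).1 (d.sq_commute hu.2)⟩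

theorem A_comm {r : G} (hr : InA Q co r) : Commute r x ∧ Commute r z :=
  ⟨(d.commute_x_iff hr.1).2 hr.2, d.fr.es.comm r hr.1⟩

theorem B_comm {u : G} (hu : InB Q n z u) : Commute u x ∧ Commute u z := ⟨d.P_comm hu.1, hu.2⟩

theorem exists_prE {p : ℕ × ℕ} (hp : p ∈ pairs6) :
    ∃ c, Commute c z ∧ Commute c x ∧ ∀ k < 256, ac c k = pr p k := by
  obtain ⟨c, hc, hck⟩ := d.fr.exists_pr hp
  have hcx : co (c * x * c⁻¹) = 1 := by
    rw [d.fr.conj c hc x d.xQ, d.cox, hck 1 (by norm_num), pr_one hp]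
  rcases d.fr.co_eq d.xQ (d.fr.norm c hc x d.xQ) (d.cox.trans hcx.symm) with e | e
  · exact ⟨c, hc, mul_inv_eq_iff_eq_mul.1 e, hck⟩
  · obtain ⟨q, hq, hqc⟩ := d.fr.co_surj 2 (by norm_num)
    refine ⟨c * q, hc.mul_left (d.fr.es.comm q hq), mul_inv_eq_iff_eq_mul.1 ?_, fun k hk => ?_⟩
    · have hb : q * x * q⁻¹ = x * z := by
        rw [d.fr.comm_Q hq d.xQ, hqc, d.cox]
        rfl
      calc c * q * x * (c * q)⁻¹ = c * (q * x * q⁻¹) * c⁻¹ := by group
        _ = (c * x * c⁻¹) * (c * z * c⁻¹) := by rw [hb]; group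
        _ = x := by rw [e, mul_inv_eq_iff_eq_mul.2 hc.eq, mul_assoc, d.fr.es.sq, mul_one]
    · rw [d.fr.ac_mul hc (d.fr.es.comm q hq) hk, d.fr.ac_Q hq hk, hck k hk]

/-- `Q ∩ P` is the four-group. -/
theorem inter {u : G} (hu : u ∈ Q) (hu' : n⁻¹ * u * n ∈ Q) : ∃ i j, u = ee z x i j := by
  refine d.exists_ee hu ?_
  have hlt := d.fr.co_lt u hu
  have hb : b1 (co u) = false := (d.commute_x_iff hu).1 (d.P_comm hu')
  have hq : qn (co u) = false := by
    have e1 := d.fr.sq u hu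
    rw [d.P_sq hu'] at e1
    cases h2 : qn (co u) with
    | false => rfl
    | true =>
      rw [h2] at e1
      cases h3 : qn (co (n⁻¹ * u * n)) <;> rw [h3] at e1
      · exact absurd e1.symm d.fr.es.ne
      · exact absurd e1 d.x_ne.2
  by_contra hne
  have hw : co u &&& 252 ≠ 0 := fun h0 => hne (by
    rcases mask_cases hlt hb with e | e <;> rw [h0] at e
    · exact Or.inl e
    · exact Or.inr e)
  obtain ⟨p, hp, hpb⟩ := sing_moved _ (mem_w6 hlt) hw (by rw [qn_mask hlt hb]; exact hq)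
  obtain ⟨c, hc, hcx, hck⟩ := d.exists_prE hp
  have hv := d.fr.norm c hc u hu
  have hv' := d.P_conj hcx hu'
  have hcomm : Commute (c * u * c⁻¹) u := by
    rw [d.fr.commute_Q hv hu]
    cases hB : bn (co (c * u * c⁻¹)) (co u) with
    | false => rfl
    | true =>
      exfalso
      have e := d.fr.comm_Q hv hu
      rw [hB] at e
      have e' := d.fr.comm_Q hv' hu'
      have h1 : c * u * c⁻¹ * u * (c * u * c⁻¹)⁻¹ =
          u * pw x (bn (co (n⁻¹ * (c * u * c⁻¹) * n)) (co (n⁻¹ * u * n))) := by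
        calc c * u * c⁻¹ * u * (c * u * c⁻¹)⁻¹ = n * ((n⁻¹ * (c * u * c⁻¹) * n) * (n⁻¹ * u * n) *
            (n⁻¹ * (c * u * c⁻¹) * n)⁻¹) * n⁻¹ := by group
          _ = u * (n * pw z (bn (co (n⁻¹ * (c * u * c⁻¹) * n)) (co (n⁻¹ * u * n))) * n⁻¹) := by
            rw [e']; group
          _ = _ := by
            cases bn (co (n⁻¹ * (c * u * c⁻¹) * n)) (co (n⁻¹ * u * n))
            · simp [pw]
            · exact congrArg (u * ·) d.nz
      rw [e] at h1
      have h2 := mul_left_cancel h1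
      cases h3 : bn (co (n⁻¹ * (c * u * c⁻¹) * n)) (co (n⁻¹ * u * n)) <;> rw [h3] at h2
      · exact d.fr.es.ne h2
      · exact d.x_ne.2 h2.symm
  have h0 := (d.fr.commute_Q hv hu).1 hcomm
  rw [d.fr.conj c hc u hu, hck _ hlt] at h0
  obtain ⟨hl, -, hb', hm⟩ := pr_spec hp hlt
  rw [← bn_mask2 hl hlt (hb'.trans hb) hb, hm, hpb] at h0
  cases h0

theorem com_mem {r u : G} (hr : InA Q co r) (hu : InB Q n z u) : ∃ i j, com r u = ee z x i j := by
  refine d.inter ?_ ?_
  · have h1 := mul_mem hr.1 (d.fr.norm u hu.2 _ (inv_mem hr.1))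
    convert h1 using 1
    simp only [com]; group
  · exact d.P_mul (d.P_conj (d.A_comm hr).1 hu.1) (d.P_inv hu.1)

theorem ac_one {u : G} (hu : InB Q n z u) : ac u 1 = 1 := by
  rw [← d.cox, ← d.fr.conj u hu.2 x d.xQ, mul_inv_eq_iff_eq_mul.2 (d.B_comm hu).1.eq]

theorem exists_act {u : G} (hu : InB Q n z u) : ∃ a ∈ w6, Act ac u a := by
  refine (d.fr.iso hu.2).eich_of_radical (d.ac_one hu) fun j hj => ?_
  have hj' : ∀ j ∈ bits6, j < 256 ∧ b1 j = false := by decide +kernel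
  obtain ⟨r, hr, rfl⟩ := d.fr.co_surj j (hj' j hj).1
  obtain ⟨i, j', e⟩ := d.com_mem ⟨hr, (hj' _ hj).2⟩ hu
  have h1 : co (com r u) = co r ^^^ ac u (co r) := by
    have e1 : com r u = r * (u * r⁻¹ * u⁻¹) := by simp only [com]; group
    rw [e1, d.fr.co_mul r hr _ (d.fr.norm u hu.2 _ (inv_mem hr)), d.fr.conj u hu.2 _ (inv_mem hr),
      d.fr.co_inv hr]
  rw [e, d.co_ee] at h1
  cases i
  · exact Or.inl (Nat.eq_of_xor_eq_zero h1.symm).symm
  · refine Or.inr ?_
    have h2 := congrArg (co r ^^^ ·) h1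
    simp only [cond_true, ← Nat.xor_assoc, Nat.xor_self, Nat.zero_xor] at h2
    exact h2.symm

theorem act_mul {u v : G} {a b : ℕ} (hu : InB Q n z u) (hv : InB Q n z v) (ha : a ∈ w6) (hb : b ∈ w6)
    (h1 : Act ac u a) (h2 : Act ac v b) : InB Q n z (u * v) ∧ Act ac (u * v) (a ^^^ b) :=
  ⟨⟨d.P_mul hu.1 hv.1, hu.2.mul_left hv.2⟩, fun k hk => by
    rw [d.fr.ac_mul hu.2 hv.2 hk, h2 k hk, h1 _ (eich_lt hb hk), eich_mul ha hb hk]⟩

theorem act_conj {c u : G} {p : ℕ × ℕ} {a : ℕ} (hp : p ∈ pairs6) (hc : Commute c z) (hcx : Commute c x)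
    (hck : ∀ k < 256, ac c k = pr p k) (hu : InB Q n z u) (ha : a ∈ w6) (h1 : Act ac u a) :
    InB Q n z (c * u * c⁻¹) ∧ Act ac (c * u * c⁻¹) (pr p a) := by
  refine ⟨⟨d.P_conj hcx hu.1, (hc.mul_left hu.2).mul_left hc.inv_left⟩, fun k hk => ?_⟩
  have hk' := d.fr.ac_lt hc.inv_left hk
  rw [d.fr.ac_conj hu.2 hc hk, h1 _ hk', hck _ (eich_lt ha hk'), pr_eich hp ha hk', ← hck _ hk',
    d.fr.ac_inv' hc hk]

theorem act_zero {u : G} (hu : InB Q n z u) (h : Act ac u 0) : ∃ i j, u = ee z x i j :=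
  d.inter (d.fr.faithful u hu.2 fun k hk => (h k hk).trans (eich_zero hk)) hu.1

theorem ee_inB (i j : Bool) : InB Q n z (ee z x i j) := by
  refine ⟨?_, d.fr.es.comm _ (d.ee_mem i j)⟩
  have h1 : n⁻¹ * pw x i * n ∈ Q := by
    cases i
    · simpa [pw] using one_mem Q
    · show n⁻¹ * x * n ∈ Q
      rw [d.nz']; exact d.fr.es.mem
  have h2 : n⁻¹ * pw z j * n ∈ Q := by
    cases j
    · simpa [pw] using one_mem Q
    · show n⁻¹ * z * n ∈ Q
      rw [d.nx']; exact d.xQ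
  exact d.P_mul h1 h2

theorem exists_noncomm : ∃ u v, InB Q n z u ∧ InB Q n z v ∧ ¬ Commute u v := by
  obtain ⟨r, hr, hrc⟩ := d.fr.co_surj 4 (by norm_num)
  obtain ⟨r', hr', hrc'⟩ := d.fr.co_surj 8 (by norm_num)
  refine ⟨n * r * n⁻¹, n * r' * n⁻¹, d.B_of_A ⟨hr, by rw [hrc]; rfl⟩,
    d.B_of_A ⟨hr', by rw [hrc']; rfl⟩, fun hc => ?_⟩
  have := hc.of_map (f := (MulAut.conj n).toMonoidHom) (MulAut.conj n).injective
  rw [d.fr.commute_Q hr hr', hrc, hrc'] at this
  exact absurd this (by decide)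

theorem lift : ∀ a ∈ w6, ∃ u, InB Q n z u ∧ Act ac u a := by
  have h0 : ∃ a ∈ w6, a ≠ 0 ∧ ∃ u, InB Q n z u ∧ Act ac u a := by
    obtain ⟨u, v, hu, hv, huv⟩ := d.exists_noncomm
    obtain ⟨a, ha, hau⟩ := d.exists_act hu
    obtain ⟨b, hb, hbv⟩ := d.exists_act hv
    by_cases ha0 : a = 0
    · by_cases hb0 : b = 0
      · subst ha0 hb0
        obtain ⟨i, j, rfl⟩ := d.act_zero hu hau
        exact absurd (d.ee_comm (d.B_comm hv).1 (d.B_comm hv).2 i j).symm huv
      · exact ⟨b, hb, hb0, v, hv, hbv⟩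
    · exact ⟨a, ha, ha0, u, hu, hau⟩
  have hmul : ∀ {p q}, p ∈ w6 → q ∈ w6 → (∃ v, InB Q n z v ∧ Act ac v p) →
      (∃ v, InB Q n z v ∧ Act ac v q) → ∃ v, InB Q n z v ∧ Act ac v (p ^^^ q) :=
    fun {p q} hp hq ⟨v, hv, hv'⟩ ⟨w, hw, hw'⟩ => ⟨_, d.act_mul hv hw hp hq hv' hw'⟩
  have hmove : ∀ {a p}, p ∈ pairs6 → a ∈ w6 → (∃ v, InB Q n z v ∧ Act ac v a) →
      ∃ v, InB Q n z v ∧ Act ac v (pr p a) := fun {a p} hp ha ⟨v, hv, hv'⟩ => by
    obtain ⟨c, hc, hcx, hck⟩ := d.exists_prE hp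
    exact ⟨_, d.act_conj hp hc hcx hck hv ha hv'⟩
  have hback : ∀ {a b p}, p ∈ pairs6 → a ∈ w6 → pr p a = b →
      (∃ v, InB Q n z v ∧ Act ac v b) → ∃ v, InB Q n z v ∧ Act ac v a := fun {a b p} hp ha e h => by
    subst e
    obtain ⟨h1, h2⟩ := mem_pairs6 hp
    have := hmove (pairs6_mk h2 h1) (pr_w6 hp ha) h
    rwa [pr_swap (ns6_spec _ h1).1 (ns6_spec _ h2).1 (lt_of_w6 ha)] at this
  obtain ⟨a, ha, ha0, hau⟩ := h0
  have hne : ∀ b ∈ w6, b = 0 → ∃ v, InB Q n z v ∧ Act ac v b := fun b hb e => by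
    have := hmul ha ha hau hau
    rwa [Nat.xor_self, ← e] at this
  have f12 : ∃ v, InB Q n z v ∧ Act ac v 12 := by
    cases hq : qn a with
    | true =>
      obtain ⟨p, hp, e⟩ := ns_trans a (mem_ns6 ha hq)
      exact e ▸ hmove hp ha hau
    | false =>
      obtain ⟨p, hp, e⟩ := sg_trans a ha ha0 hq
      have h8 : (8 : ℕ) ∈ w6 := by decide +kernel
      obtain ⟨p', hp', e'⟩ := sg_trans 8 h8 (by norm_num) (by decide)
      have h4 := e ▸ hmove hp ha hau
      exact hmul (by decide +kernel : (4 : ℕ) ∈ w6) h8 h4 (hback hp' h8 e' h4)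
  have hns : ∀ b ∈ ns6, ∃ v, InB Q n z v ∧ Act ac v b := fun b hb => by
    obtain ⟨p, hp, e⟩ := ns_trans b hb
    exact hback hp (ns6_spec b hb).2.2 e f12
  intro b hb
  cases hq : qn b with
  | true => exact hns b (mem_ns6 hb hq)
  | false =>
    rcases sing_split b hb hq with e | ⟨c, hc, e, he, rfl⟩
    · exact hne b hb e
    · exact hmul (ns6_spec c hc).2.2 (ns6_spec e he).2.2 (hns c hc) (hns e he)

theorem act_eq {u v : G} {a : ℕ} (ha : a ∈ w6) (hu : InB Q n z u) (hv : InB Q n z v)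
    (h1 : Act ac u a) (h2 : Act ac v a) : ∃ i j, v = u * ee z x i j := by
  have hw : InB Q n z (u⁻¹ * v) := ⟨d.P_mul (d.P_inv hu.1) hv.1, hu.2.inv_left.mul_left hv.2⟩
  obtain ⟨i, j, e⟩ := d.act_zero hw fun k hk => by
    rw [d.fr.ac_mul hu.2.inv_left hv.2 hk, h2 k hk, ← h1 k hk, d.fr.ac_inv hu.2 hk, eich_zero hk]
  exact ⟨i, j, inv_mul_eq_iff_eq_mul.1 e⟩

end Duo

end Cfsg.Agent.Lib.Co1Type31
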