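import Cfsg.Agent.Lib.Co1Type31.Forms

/-!
# Conway type: a conjugate `m` of a transvection lift acting as the transvection of a singular line

`m` centralises the elements of `Q` over the perpendicular of the line `⟨4, 16⟩`, and inverts the lifts
of that perpendicular up to `z`.

Owner: helper31.
-/

set_option autoImplicit false
set_option maxRecDepth 100000

namespace Cfsg.Agent.Lib.Co1Type31

/-- The perpendicular of the line in the space of dimension six. -/
def lp : List ℕ := [0, 4, 16, 20, 64, 68, 80, 84, 128, 132, 144, 148, 192, 196, 208, 212]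

/-- The representatives of the perpendicular modulo the line. -/
def lq : List ℕ := [0, 64, 128, 192]

theorem lp_spec : ∀ e ∈ lp, e ∈ w6 ∧ bn e 4 = false ∧ bn e 16 = false := by decide +kernel

theorem lp_xor : ∀ a ∈ lp, ∀ b ∈ lp, a ^^^ b ∈ lp := by decide +kernel

theorem lq_lp : ∀ e ∈ lq, e ∈ lp := by decide +kernel

theorem lp_two : ∀ e ∈ lp, bn (eich e 2 ^^^ 2) 4 = false ∧ bn (eich e 2 ^^^ 2) 16 = false := by
  decide +kernel

theorem lp_split : ∀ e ∈ lp, ∃ a ∈ [0, 4], ∃ b ∈ [0, 16], ∃ c ∈ [0, 64], ∃ f ∈ [0, 128],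
    a ^^^ b ∈ lp ∧ a ^^^ b ^^^ c ∈ lp ∧ e = a ^^^ b ^^^ c ^^^ f := by decide +kernel

/-- The word of the first frame. -/
def wd1 : List (ℕ × ℕ) := [(35, 50), (11, 14)]

/-- The word of the second frame. -/
def wd2 : List (ℕ × ℕ) := [(35, 50)]

theorem wd_spec : ∀ e ∈ [(4, wd1, 16), (16, wd2, 4)],
    okWord e.2.1 = true ∧ prs e.2.1 1 = e.1 ∧ prs e.2.1 4 = e.2.2 ∧ prs e.2.1 16 = 1 ∧
      agree (fun k => prs e.2.1 (eich 4 k)) (fun k => sg 4 16 (prs e.2.1 k)) = true ∧
      agree (fun k => prs e.2.1 (eich 16 k)) (fun k => eich e.1 (prs e.2.1 k)) = true := by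
  decide +kernel

theorem line_perp : ∀ k < 256, ([1, 2, 4, 16, 64, 128].all fun e => !(bn k e)) = true →
    (b1 k = false ∧ bn k 4 = false ∧ bn k 16 = false) := by decide +kernel

theorem pt_perp : ∀ k < 256, (all8.all fun e => !(!(bn e 1) && !(bn e 4)) || !(bn k e)) = true →
    b1 k = false ∧ bn k 4 = false ∧ bn k 16 = false := by decide +kernel

theorem pt_perp' : ∀ k < 256, (all8.all fun e => !(!(bn e 1) && !(bn e 16)) || !(bn k e)) = true →
    b1 k = false ∧ bn k 4 = false ∧ bn k 16 = false := by decide +kernel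

theorem rho_eich : ∀ e ∈ lp, agree (fun k => sg 4 16 (eich e (sg 4 16 k))) (eich e) = true := by
  decide +kernel

theorem rho_lin : Lin8 (sg 4 16) := sg_lin (by norm_num) (by norm_num)

variable {G : Type*} [Group G]

/-- The properties of the middle element. -/
structure Mid (Q : Subgroup G) (co : G → ℕ) (ac : G → ℕ → ℕ) (z m : G) : Prop where
  comm : Commute m z
  sq : m * m = 1
  act : ∀ k < 256, ac m k = sg 4 16 k
  cent : ∀ r ∈ Q, bn (co r) 4 = false → bn (co r) 16 = false → Commute r m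

namespace Duo

variable {z : G} {Q : Subgroup G} {co : G → ℕ} {ac : G → ℕ → ℕ} {x n : G}
  (d : Duo z Q co ac x n)
include d

theorem com_one {r u : G} {e : ℕ} (he : e ∈ w6) (hu : InB Q n z u) (hua : Act ac u e)
    (hr : r ∈ Q) (h1 : bn (co r) 1 = false) (h2 : bn (co r) e = false) : Commute r u := by
  have hb : b1 (co r) = false := by rw [← b1_eq (d.fr.co_lt r hr)]; exact h1
  have e1 := d.com_act e he u r hu hua ⟨hr, hb⟩
  rw [bn_comm, h2, d.ee_zero] at e1
  exact mul_inv_eq_iff_eq_mul.1 (mul_inv_eq_one.1 e1)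

/-- The middle element from a frame, and an element acting as a lift which commutes with it. -/
theorem exists_mid_frame {p q : ℕ} {ws : List (ℕ × ℕ)} (h : (p, ws, q) ∈ [(4, wd1, 16), (16, wd2, 4)]) :
    ∃ m y, Mid Q co ac z m ∧ Commute y z ∧ (∀ k < 256, ac y k = eich p k) ∧ Commute m y ∧
      ∀ r ∈ Q, bn (co r) 1 = false → bn (co r) p = false → Commute r y := by
  obtain ⟨hok, hw1, hw4, hw16, hm, hy⟩ := wd_spec _ h
  simp only at hw1 hw4 hw16 hm hy
  have hpq : (p = 4 ∧ q = 16) ∨ (p = 16 ∧ q = 4) := by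
    simp only [List.mem_cons, Prod.mk.injEq, List.not_mem_nil, or_false] at h
    rcases h with ⟨h1, -, h2⟩ | ⟨h1, -, h2⟩
    · exact Or.inl ⟨h1, h2⟩
    · exact Or.inr ⟨h1, h2⟩
  obtain ⟨c, hc, hck⟩ := d.fr.exists_prs hok
  have h4 : (4 : ℕ) ∈ w6 := by decide +kernel
  have h16 : (16 : ℕ) ∈ w6 := by decide +kernel
  obtain ⟨u, hu, hua⟩ := d.lift 4 h4
  obtain ⟨v, hv, hva⟩ := d.lift 16 h16
  have hL := prs_lin hok
  have hact : ∀ {g : G} {f f' : ℕ → ℕ}, Commute g z → (∀ k < 256, ac g k = f k) → Lin8 f → Lin8 f' →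
      agree (fun k => prs ws (f k)) (fun k => f' (prs ws k)) = true →
      ∀ k < 256, ac (c * g * c⁻¹) k = f' k := by
    intro g f f' hg hgk hf hf' hagree k hk
    have hk' := d.fr.ac_lt hc.inv_left hk
    rw [d.fr.ac_conj hg hc hk, hgk _ hk', hck _ (hf.lt _ hk'),
      (hL.comp hf).ext (hf'.comp hL) hagree _ hk', ← hck _ hk', d.fr.ac_inv' hc hk]
  have hcent : ∀ {g : G} {e e' : ℕ}, e ∈ w6 → InB Q n z g → Act ac g e → prs ws e = e' →
      ∀ r ∈ Q, bn (co r) p = false → bn (co r) e' = false → Commute r (c * g * c⁻¹) := by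
    intro g e e' he hg hge hee r hr h1 h2
    have hr' := d.fr.norm c⁻¹ hc.inv_left r hr
    have hco : co (c⁻¹ * r * c⁻¹⁻¹) = ac c⁻¹ (co r) := d.fr.conj _ hc.inv_left r hr
    have hlt := d.fr.co_lt r hr
    have k1 : ∀ j < 256, bn (co r) (prs ws j) = false → bn (ac c⁻¹ (co r)) j = false := fun j hj hjb => by
      rw [← d.fr.ac_bn hc (d.fr.ac_lt hc.inv_left hlt) hj, d.fr.ac_inv' hc hlt, hck j hj, hjb]
    have := d.com_one he hg hge hr' (by rw [hco]; exact k1 1 (by norm_num) (by rw [hw1]; exact h1))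
      (by rw [hco]; exact k1 e (lt_of_w6 he) (by rw [hee]; exact h2))
    simpa [mul_assoc] using this.map (MulAut.conj c).toMonoidHom
  refine ⟨c * u * c⁻¹, c * v * c⁻¹, ⟨(hc.mul_left hu.2).mul_left hc.inv_left, ?_,
    hact hu.2 hua (eich_lin (by norm_num)) rho_lin hm, fun r hr h1 h2 => ?_⟩,
    (hc.mul_left hv.2).mul_left hc.inv_left, hact hv.2 hva (eich_lin (by norm_num))
      (eich_lin (by rcases hpq with ⟨rfl, -⟩ | ⟨rfl, -⟩ <;> norm_num)) hy, ?_, fun r hr h1 h2 => ?_⟩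
  · rw [show c * u * c⁻¹ * (c * u * c⁻¹) = c * (u * u) * c⁻¹ by group, d.sq_act 4 h4 u hu hua]
    simp [pw, show qn 4 = false from rfl]
  · rcases hpq with ⟨rfl, rfl⟩ | ⟨rfl, rfl⟩
    · exact hcent h4 hu hua hw4 r hr h1 h2
    · exact hcent h4 hu hua hw4 r hr h2 h1
  · have e := d.com_BB h4 h16 hu hv hua hva
    rw [show bn 4 16 = false from rfl] at e
    have huv : Commute u v := mul_inv_eq_iff_eq_mul.1 (mul_inv_eq_one.1 e)
    simpa using huv.map (MulAut.conj c).toMonoidHom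
  · exact hcent h16 hv hva hw16 r hr h2 h1

/-- An element of `Q` with coordinate perpendicular to the perpendicular of the line. -/
theorem mid_quot {m m' : G} (hm : Mid Q co ac z m) (hm' : Mid Q co ac z m') :
    ∃ s ∈ Q, m = m' * s ∧ b1 (co s) = false ∧ bn (co s) 4 = false ∧ bn (co s) 16 = false := by
  have hs : m'⁻¹ * m ∈ Q := d.fr.faithful _ (hm'.comm.inv_left.mul_left hm.comm) fun k hk => by
    rw [d.fr.ac_mul hm'.comm.inv_left hm.comm hk, hm.act k hk, ← hm'.act k hk,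
      d.fr.ac_inv hm'.comm hk]
  refine ⟨_, hs, by group, line_perp _ (d.fr.co_lt _ hs) (List.all_eq_true.2 fun e he => ?_)⟩
  have he' : e < 256 ∧ bn e 4 = false ∧ bn e 16 = false := by
    revert e; decide +kernel
  obtain ⟨r, hr, rfl⟩ := d.fr.co_surj e he'.1
  have h1 := hm.cent r hr he'.2.1 he'.2.2
  have h2 := hm'.cent r hr he'.2.1 he'.2.2
  rw [(d.fr.commute_Q hs hr).1 (h2.inv_right.mul_right h1).symm]
  rfl

/-- A lift of a vector of the line commutes with the middle element. -/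
theorem mid_line {m u : G} {p : ℕ} (hp : p = 4 ∨ p = 16) (hm : Mid Q co ac z m)
    (hu : InB Q n z u) (hua : Act ac u p) : Commute m u := by
  have hp6 : p ∈ w6 := by rcases hp with rfl | rfl <;> decide +kernel
  obtain ⟨m', y, hm', hyz, hyk, hmy, hyc⟩ : ∃ m' y, Mid Q co ac z m' ∧ Commute y z ∧
      (∀ k < 256, ac y k = eich p k) ∧ Commute m' y ∧
      ∀ r ∈ Q, bn (co r) 1 = false → bn (co r) p = false → Commute r y := by
    rcases hp with rfl | rfl
    · exact d.exists_mid_frame (p := 4) (ws := wd1) (q := 16) (by simp)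
    · exact d.exists_mid_frame (p := 16) (ws := wd2) (q := 4) (by simp)
  have hsQ : y⁻¹ * u ∈ Q := d.fr.faithful _ (hyz.inv_left.mul_left hu.2) fun k hk => by
    rw [d.fr.ac_mul hyz.inv_left hu.2 hk, hua k hk, ← hyk k hk, d.fr.ac_inv hyz hk]
  have hperp : ∀ e < 256, bn e 1 = false → bn e p = false → bn (co (y⁻¹ * u)) e = false := by
    intro e he h1 h2
    obtain ⟨r, hr, rfl⟩ := d.fr.co_surj e he
    exact (d.fr.commute_Q hsQ hr).1
      ((hyc r hr h1 h2).inv_right.mul_right (d.com_one hp6 hu hua hr h1 h2)).symm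
  have hs3 : b1 (co (y⁻¹ * u)) = false ∧ bn (co (y⁻¹ * u)) 4 = false ∧ bn (co (y⁻¹ * u)) 16 = false := by
    have hlt := d.fr.co_lt _ hsQ
    have key : ∀ e ∈ all8, (!(!(bn e 1) && !(bn e p)) || !(bn (co (y⁻¹ * u)) e)) = true := fun e he => by
      cases h1 : bn e 1
      · cases h2 : bn e p
        · rw [hperp e (mem_all8.1 he) h1 h2]; rfl
        · rfl
      · rfl
    rcases hp with rfl | rfl
    · exact pt_perp _ hlt (List.all_eq_true.2 key)
    · exact pt_perp' _ hlt (List.all_eq_true.2 key)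
  have h' : Commute m' u := by
    have := hmy.mul_right (hm'.cent _ hsQ hs3.2.1 hs3.2.2).symm
    rwa [mul_inv_cancel_left] at this
  obtain ⟨t, ht, rfl, t1, t4, t16⟩ := d.mid_quot hm hm'
  refine h'.mul_left (d.com_one hp6 hu hua ht (by rw [b1_eq (d.fr.co_lt t ht)]; exact t1) ?_)
  rcases hp with rfl | rfl
  · exact t4
  · exact t16

theorem mid_x {m : G} (hm : Mid Q co ac z m) : Commute m x :=
  (hm.cent x d.xQ (by rw [d.cox]; rfl) (by rw [d.cox]; rfl)).symm

/-- The middle element inverts a lift of the perpendicular up to `z`. -/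
theorem mid_conj {m u : G} {e : ℕ} (hm : Mid Q co ac z m) (he : e ∈ lp) (hu : InB Q n z u)
    (hua : Act ac u e) : ∃ j, m * u * m⁻¹ = u * ee z x false j := by
  obtain ⟨he6, -, -⟩ := lp_spec e he
  have hB : InB Q n z (m * u * m⁻¹) :=
    ⟨d.P_conj (d.mid_x hm) hu.1, (hm.comm.mul_left hu.2).mul_left hm.comm.inv_left⟩
  have hA : Act ac (m * u * m⁻¹) e := fun k hk => by
    have hk' := d.fr.ac_lt hm.comm.inv_left hk
    have hmi : m⁻¹ = m := inv_eq_of_mul_eq_one_right hm.sq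
    rw [d.fr.ac_conj hu.2 hm.comm hk, hua _ hk', hm.act _ (eich_lt he6 hk'), hmi, hm.act k hk]
    exact ((rho_lin.comp (eich_lin (lt_of_w6 he6))).comp rho_lin).ext (eich_lin (lt_of_w6 he6))
      (rho_eich e he) k hk
  obtain ⟨i, j, hij⟩ := d.act_eq he6 hu hB hua hA
  refine ⟨j, ?_⟩
  obtain ⟨g, hg, hg2⟩ := d.fr.co_surj 2 (by norm_num)
  have hgm : Commute g m := hm.cent g hg (by rw [hg2]; rfl) (by rw [hg2]; rfl)
  have hrQ : g * u * g⁻¹ * u⁻¹ ∈ Q := by
    have := mul_mem hg (d.fr.norm u hu.2 g⁻¹ (inv_mem hg))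
    simpa [mul_assoc] using this
  have hrc : co (g * u * g⁻¹ * u⁻¹) = 2 ^^^ eich e 2 := by
    rw [show g * u * g⁻¹ * u⁻¹ = g * (u * g⁻¹ * u⁻¹) by group,
      d.fr.co_mul g hg _ (d.fr.norm u hu.2 g⁻¹ (inv_mem hg)), d.fr.conj u hu.2 _ (inv_mem hg),
      d.fr.co_inv hg, hg2, hua 2 (by norm_num)]
  set r := g * u * g⁻¹ * u⁻¹ with hr
  have hmr : Commute r m := by
    obtain ⟨h1, h2⟩ := lp_two e he
    exact hm.cent r hrQ (by rw [hrc, Nat.xor_comm]; exact h1) (by rw [hrc, Nat.xor_comm]; exact h2)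
  have hgu : g * u * g⁻¹ = r * u := by rw [hr]; group
  have hgx : g * ee z x i j * g⁻¹ = ee z x i (Bool.xor i j) := by
    have hgx : g * x * g⁻¹ = x * z := by
      rw [d.fr.comm_Q hg d.xQ, hg2, d.cox]
      rfl
    have hgz : g * z * g⁻¹ = z := mul_inv_eq_iff_eq_mul.2 (d.fr.es.comm g hg).eq
    cases i <;> cases j <;> simp only [ee, pw, cond_true, cond_false, mul_one, one_mul, mul_inv_cancel,
      Bool.xor_false, Bool.xor_true, Bool.not_true, Bool.not_false]
    · exact hgz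
    · exact hgx
    · calc g * (x * z) * g⁻¹ = (g * x * g⁻¹) * (g * z * g⁻¹) := by group
        _ = x := by rw [hgx, hgz, mul_assoc, d.fr.es.sq, mul_one]
  have e1 : g * (m * u * m⁻¹) * g⁻¹ = r * u * ee z x i j := by
    calc g * (m * u * m⁻¹) * g⁻¹ = (g * m) * u * (g * m)⁻¹ := by group
      _ = m * (g * u * g⁻¹) * m⁻¹ := by rw [hgm.eq]; group
      _ = (m * r * m⁻¹) * (m * u * m⁻¹) := by rw [hgu]; group
      _ = _ := by rw [mul_inv_eq_iff_eq_mul.2 hmr.eq.symm, hij, ← mul_assoc]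
  have e2 : g * (m * u * m⁻¹) * g⁻¹ = r * u * ee z x i (Bool.xor i j) := by
    rw [hij, show g * (u * ee z x i j) * g⁻¹ = (g * u * g⁻¹) * (g * ee z x i j * g⁻¹) by group, hgu, hgx]
  have hi := (d.ee_inj (mul_left_cancel (e1.symm.trans e2))).2
  cases i
  · exact hij
  · cases j <;> cases hi

/-- The sign of the middle element is given by a vector modulo the line. -/
theorem mid_sign {m : G} (hm : Mid Q co ac z m) :
    ∃ y ∈ lq, ∀ e ∈ lp, ∀ u, InB Q n z u → Act ac u e → m * u * m⁻¹ = u * ee z x false (bn y e) := by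
  classical
  choose! L hL using d.lift
  set jf : ℕ → Bool := fun e => decide (m * L e * m⁻¹ = L e * ee z x false true) with hjf
  have hwd : ∀ e ∈ lp, ∀ u, InB Q n z u → Act ac u e → m * u * m⁻¹ = u * ee z x false (jf e) := by
    intro e he u hu hua
    have he6 := (lp_spec e he).1
    obtain ⟨i, j, rfl⟩ := d.act_eq he6 (hL e he6).1 hu (hL e he6).2 hua
    obtain ⟨j', hj'⟩ := d.mid_conj hm he (hL e he6).1 (hL e he6).2
    have hj : jf e = j' := by
      cases j'
      · refine decide_eq_false fun h => ?_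
        rw [hj'] at h
        exact absurd (d.ee_inj (mul_left_cancel h)).2 (by decide)
      · exact decide_eq_true hj'
    rw [hj]
    calc m * (L e * ee z x i j) * m⁻¹ = (m * L e * m⁻¹) * (m * ee z x i j * m⁻¹) := by group
      _ = _ := by
        rw [hj', mul_inv_eq_iff_eq_mul.2 (d.ee_comm (d.mid_x hm) hm.comm i j).eq, mul_assoc, mul_assoc,
          d.ee_mul, d.ee_mul, Bool.xor_comm false, Bool.xor_comm j']
  have hadd : ∀ e ∈ lp, ∀ f ∈ lp, jf (e ^^^ f) = Bool.xor (jf e) (jf f) := by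
    intro e he f hf
    have he6 := (lp_spec e he).1
    have hf6 := (lp_spec f hf).1
    obtain ⟨h1, h2⟩ := d.act_mul (hL e he6).1 (hL f hf6).1 he6 hf6 (hL e he6).2 (hL f hf6).2
    have h3 := hwd _ (lp_xor e he f hf) _ h1 h2
    have hc := (d.ee_comm (d.B_comm (hL f hf6).1).1 (d.B_comm (hL f hf6).1).2 false (jf e)).eq
    rw [show m * (L e * L f) * m⁻¹ = (m * L e * m⁻¹) * (m * L f * m⁻¹) by group,
      hwd e he _ (hL e he6).1 (hL e he6).2, hwd f hf _ (hL f hf6).1 (hL f hf6).2,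
      show L e * ee z x false (jf e) * (L f * ee z x false (jf f)) =
        L e * (ee z x false (jf e) * L f) * ee z x false (jf f) by group, ← hc,
      show L e * (L f * ee z x false (jf e)) * ee z x false (jf f) =
        L e * L f * (ee z x false (jf e) * ee z x false (jf f)) by group, d.ee_mul] at h3
    exact (d.ee_inj (mul_left_cancel h3)).2.symm
  have hline : ∀ e, e = 4 ∨ e = 16 → jf e = false := fun e he => by
    have he' : e ∈ lp := by rcases he with rfl | rfl <;> decide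
    have he6 := (lp_spec e he').1
    have h1 := hwd e he' _ (hL e he6).1 (hL e he6).2
    have h2 : m * L e * m⁻¹ = L e * ee z x false false := by
      rw [d.ee_zero, mul_one]
      exact mul_inv_eq_iff_eq_mul.2 (d.mid_line he hm (hL e he6).1 (hL e he6).2).eq
    exact (d.ee_inj (mul_left_cancel (h1.symm.trans h2))).2
  obtain ⟨y, hy, y64, y128⟩ : ∃ y ∈ lq, bn y 64 = jf 64 ∧ bn y 128 = jf 128 := by
    have key : ∀ a b : Bool, ∃ y ∈ lq, bn y 64 = a ∧ bn y 128 = b := by
      intro a b; cases a <;> cases b <;> decide +kernel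
    exact key _ _
  refine ⟨y, hy, fun e he u hu hua => ?_⟩
  have hj0 : jf 0 = false := by
    have := hadd 0 (by decide) 0 (by decide)
    rw [Nat.xor_self, Bool.xor_self] at this
    exact this
  have hy' : ∀ y ∈ lq, y < 256 ∧ bn y 0 = false ∧ bn y 4 = false ∧ bn y 16 = false := by decide +kernel
  obtain ⟨hyl, hy0, hy4, hy16⟩ := hy' y hy
  suffices hs : bn y e = jf e by rw [hs]; exact hwd e he u hu hua
  obtain ⟨a, ha, b, hb, c, hc, f, hf, hab, habc, rfl⟩ := lp_split e he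
  have hsm : (∀ a ∈ [0, 4], a ∈ lp ∧ a < 256) ∧ (∀ a ∈ [0, 16], a ∈ lp ∧ a < 256) ∧
      (∀ a ∈ [0, 64], a ∈ lp ∧ a < 256) ∧ (∀ a ∈ [0, 128], a ∈ lp ∧ a < 256) := by decide +kernel
  obtain ⟨sa, la⟩ := hsm.1 a ha
  obtain ⟨sb, lb⟩ := hsm.2.1 b hb
  obtain ⟨sc, lc⟩ := hsm.2.2.1 c hc
  obtain ⟨sf, lf⟩ := hsm.2.2.2 f hf
  rw [hadd _ habc f sf, hadd _ hab c sc, hadd a sa b sb, bn_add hyl (xor_lt (xor_lt la lb) lc) lf,
    bn_add hyl (xor_lt la lb) lc, bn_add hyl la lb]
  simp only [List.mem_cons, List.not_mem_nil, or_false] at ha hb hc hf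
  rcases ha with rfl | rfl <;> rcases hb with rfl | rfl <;> rcases hc with rfl | rfl <;>
    rcases hf with rfl | rfl <;> simp only [hj0, hy0, hline 4 (Or.inl rfl), hline 16 (Or.inr rfl),
      hy4, hy16, y64, y128]

end Duo

end Cfsg.Agent.Lib.Co1Type31
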