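import Mathlib

/-!
# Conway type: computations in the hyperbolic quadratic space of dimension eight over two elements

A vector is a number below `256`; the pairs of bits `0, 1`, `2, 3`, `4, 5`, `6, 7` are hyperbolic pairs.
The vector `1` is the distinguished singular point, `2` its partner, and the multiples of four are the
hyperbolic space of dimension six.

Owner: helper31.
-/

set_option autoImplicit false
set_option maxRecDepth 100000

namespace Cfsg.Agent.Lib.Co1Type31

/-- The quadratic form on four bits, as a table. -/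
def qh (k : ℕ) : Bool := Nat.beq ((30856 >>> k) &&& 1) 1

/-- The bilinear form on four bits, as a table. -/
def bh (j k : ℕ) : Bool :=
  Nat.beq ((47759017396062753973214979822864098321531523587131311212147840787252868022272 >>> (16 * j + k)) &&& 1) 1

/-- The quadratic form. -/
def qn (k : ℕ) : Bool := Bool.xor (qh (k &&& 15)) (qh ((k >>> 4) &&& 15))

/-- The bilinear form. -/
def bn (j k : ℕ) : Bool :=
  Bool.xor (bh (j &&& 15) (k &&& 15)) (bh ((j >>> 4) &&& 15) ((k >>> 4) &&& 15))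

/-- The coefficient at the partner of the distinguished point. -/
def b1 (k : ℕ) : Bool := Nat.beq (k &&& 2) 2

/-- The reflection in a non-singular vector. -/
def refl (v k : ℕ) : ℕ := bif bn v k then k ^^^ v else k

/-- The transvection along the singular point `p` with parameter `a`. -/
def sg (p a k : ℕ) : ℕ :=
  (k ^^^ (bif bn k p then a else 0)) ^^^ (bif Bool.xor (bn a k) (bn k p && qn a) then p else 0)

/-- The transvection along the distinguished point with parameter `a`. -/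
def eich (a k : ℕ) : ℕ :=
  (k ^^^ (bif b1 k then a else 0)) ^^^ (bif Bool.xor (bn a k) (b1 k && qn a) then 1 else 0)

/-- A product of two reflections. -/
def pr (p : ℕ × ℕ) (k : ℕ) : ℕ := refl p.1 (refl p.2 k)

/-- A product of pairs of reflections. -/
def prs (ws : List (ℕ × ℕ)) (k : ℕ) : ℕ := ws.foldr pr k

/-- The eight unit vectors. -/
def bits8 : List ℕ := [1, 2, 4, 8, 16, 32, 64, 128]

/-- The six unit vectors of the hyperbolic space of dimension six. -/
def bits6 : List ℕ := [4, 8, 16, 32, 64, 128]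

/-- The vectors. -/
def all8 : List ℕ := List.range 256

/-- The space of dimension six. -/
def w6 : List ℕ := (List.range 64).map (4 * ·)

/-- The non-singular vectors of the space of dimension six. -/
def ns6 : List ℕ := w6.filter qn

/-- The pairs of non-singular vectors of the space of dimension six. -/
def pairs6 : List (ℕ × ℕ) := ns6.flatMap fun p => ns6.map fun q => (p, q)

/-- Agreement on the unit vectors. -/
def agree (f g : ℕ → ℕ) : Bool := bits8.all fun k => Nat.beq (f k) (g k)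

theorem mem_all8 {k : ℕ} : k ∈ all8 ↔ k < 256 := List.mem_range

theorem mem_w6 {k : ℕ} (hk : k < 256) : k &&& 252 ∈ w6 := by
  revert k; decide +kernel

theorem mem_w6_of : ∀ k < 256, k &&& 3 = 0 → k ∈ w6 := by decide +kernel

theorem w6_spec : ∀ a ∈ w6, a < 256 ∧ a &&& 252 = a ∧ b1 a = false ∧ a &&& 3 = 0 := by decide +kernel

theorem lt_of_w6 {a : ℕ} (ha : a ∈ w6) : a < 256 := (w6_spec a ha).1

theorem ns6_spec : ∀ p ∈ ns6, p < 256 ∧ qn p = true ∧ p ∈ w6 := by decide +kernel

theorem mem_ns6 {a : ℕ} (ha : a ∈ w6) (h : qn a = true) : a ∈ ns6 := List.mem_filter.2 ⟨ha, h⟩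

theorem mem_pairs6 {p : ℕ × ℕ} (h : p ∈ pairs6) : p.1 ∈ ns6 ∧ p.2 ∈ ns6 := by
  simp only [pairs6, List.mem_flatMap, List.mem_map] at h
  obtain ⟨a, ha, b, hb, rfl⟩ := h
  exact ⟨ha, hb⟩

theorem pairs6_mk {p q : ℕ} (hp : p ∈ ns6) (hq : q ∈ ns6) : (p, q) ∈ pairs6 := by
  simp only [pairs6, List.mem_flatMap, List.mem_map]
  exact ⟨p, hp, q, hq, rfl⟩

theorem xor_lt {j k : ℕ} (hj : j < 256) (hk : k < 256) : j ^^^ k < 256 :=
  Nat.xor_lt_two_pow (n := 8) hj hk

theorem w6_xor {a b : ℕ} (ha : a ∈ w6) (hb : b ∈ w6) : a ^^^ b ∈ w6 := by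
  refine mem_w6_of _ (xor_lt (lt_of_w6 ha) (lt_of_w6 hb)) ?_
  rw [Nat.and_xor_distrib_right, (w6_spec a ha).2.2.2, (w6_spec b hb).2.2.2]
  rfl

theorem bits8_lt : ∀ j ∈ bits8, j < 256 := by decide

theorem bits6_w6 : ∀ j ∈ bits6, j ∈ w6 := by decide +kernel

theorem bits8_step : ∀ k < 256, k ≠ 0 → ∃ j ∈ bits8, k ^^^ j < k := by decide +kernel

theorem bits6_step : ∀ k ∈ w6, k ≠ 0 → ∃ j ∈ bits6, k ^^^ j < k ∧ k ^^^ j ∈ w6 := by decide +kernel

/-- Induction over the unit vectors. -/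
theorem ind8 {P : ℕ → Prop} (h0 : P 0) (hs : ∀ j ∈ bits8, ∀ k < 256, P k → P (k ^^^ j)) :
    ∀ k < 256, P k := by
  intro k
  induction k using Nat.strong_induction_on with
  | _ k ih =>
    intro hk
    rcases eq_or_ne k 0 with rfl | h
    · exact h0
    · obtain ⟨j, hj, hlt⟩ := bits8_step k hk h
      have := hs j hj _ (hlt.trans hk) (ih _ hlt (hlt.trans hk))
      rwa [Nat.xor_assoc, Nat.xor_self, Nat.xor_zero] at this

/-- Induction over the unit vectors of the space of dimension six. -/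
theorem ind6 {P : ℕ → Prop} (h0 : P 0) (hs : ∀ j ∈ bits6, ∀ k ∈ w6, P k → P (k ^^^ j)) :
    ∀ k ∈ w6, P k := by
  intro k
  induction k using Nat.strong_induction_on with
  | _ k ih =>
    intro hk
    rcases eq_or_ne k 0 with rfl | h
    · exact h0
    · obtain ⟨j, hj, hlt, hm⟩ := bits6_step k hk h
      have := hs j hj _ hm (ih _ hlt hm)
      rwa [Nat.xor_assoc, Nat.xor_self, Nat.xor_zero] at this

theorem bh_aux : (List.range 16).all (fun j => (List.range 16).all fun k =>
    (bh j k == Bool.xor (Bool.xor (qh (j ^^^ k)) (qh j)) (qh k)) &&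
      (List.range 16).all fun a => bh a (j ^^^ k) == Bool.xor (bh a j) (bh a k)) = true := by
  decide +kernel

theorem and15 (x : ℕ) : x &&& 15 < 16 := Nat.lt_succ_of_le Nat.and_le_right

theorem bh_def (x y : ℕ) :
    bh (x &&& 15) (y &&& 15) = Bool.xor (Bool.xor (qh ((x &&& 15) ^^^ (y &&& 15))) (qh (x &&& 15)))
      (qh (y &&& 15)) := by
  have := List.all_eq_true.1 (List.all_eq_true.1 bh_aux _ (List.mem_range.2 (and15 x))) _
    (List.mem_range.2 (and15 y))
  rw [Bool.and_eq_true, beq_iff_eq] at this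
  exact this.1

theorem bh_add (x y w : ℕ) : bh (x &&& 15) ((y &&& 15) ^^^ (w &&& 15)) =
    Bool.xor (bh (x &&& 15) (y &&& 15)) (bh (x &&& 15) (w &&& 15)) := by
  have := List.all_eq_true.1 (List.all_eq_true.1 bh_aux _ (List.mem_range.2 (and15 y))) _
    (List.mem_range.2 (and15 w))
  rw [Bool.and_eq_true] at this
  exact beq_iff_eq.1 (List.all_eq_true.1 this.2 _ (List.mem_range.2 (and15 x)))

theorem bn_def (j k : ℕ) : bn j k = Bool.xor (Bool.xor (qn (j ^^^ k)) (qn j)) (qn k) := by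
  simp only [bn, qn, bh_def, Nat.and_xor_distrib_right, Nat.shiftRight_xor_distrib]
  generalize qh ((j &&& 15) ^^^ (k &&& 15)) = a
  generalize qh (((j >>> 4) &&& 15) ^^^ ((k >>> 4) &&& 15)) = b
  generalize qh (j &&& 15) = c
  generalize qh ((j >>> 4) &&& 15) = d
  generalize qh (k &&& 15) = e
  generalize qh ((k >>> 4) &&& 15) = f
  revert a b c d e f
  decide

theorem bn_add {a j k : ℕ} (_ha : a < 256) (_hj : j < 256) (_hk : k < 256) :
    bn a (j ^^^ k) = Bool.xor (bn a j) (bn a k) := by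
  simp only [bn, Nat.and_xor_distrib_right, Nat.shiftRight_xor_distrib, bh_add]
  generalize bh (a &&& 15) (j &&& 15) = p
  generalize bh (a &&& 15) (k &&& 15) = q
  generalize bh ((a >>> 4) &&& 15) ((j >>> 4) &&& 15) = r
  generalize bh ((a >>> 4) &&& 15) ((k >>> 4) &&& 15) = s
  revert p q r s
  decide

theorem bn_comm (j k : ℕ) : bn j k = bn k j := by
  rw [bn_def, bn_def, Nat.xor_comm, Bool.xor_assoc, Bool.xor_comm (qn j), Bool.xor_assoc]

theorem bn_add' {a j k : ℕ} (ha : a < 256) (hj : j < 256) (hk : k < 256) :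
    bn (j ^^^ k) a = Bool.xor (bn j a) (bn k a) := by
  rw [bn_comm, bn_add ha hj hk, bn_comm a, bn_comm a]

theorem bn_zero (j : ℕ) : bn j 0 = false := by
  rw [bn_def, Nat.xor_zero, Bool.xor_self, Bool.false_xor]
  rfl

theorem bn_self : ∀ j < 256, bn j j = false := by decide +kernel

theorem qn_zero : qn 0 = false := rfl

theorem qn_add (j k : ℕ) : qn (j ^^^ k) = Bool.xor (Bool.xor (qn j) (qn k)) (bn j k) := by
  rw [bn_def]
  generalize qn (j ^^^ k) = a
  generalize qn j = b
  generalize qn k = c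
  revert a b c
  decide

/-- The form is quadratic. -/
theorem qn_three {a b c : ℕ} (ha : a < 256) (hb : b < 256) (hc : c < 256) :
    qn (a ^^^ (b ^^^ c)) = Bool.xor (qn (a ^^^ b)) (Bool.xor (qn (a ^^^ c)) (Bool.xor (qn (b ^^^ c))
      (Bool.xor (qn a) (Bool.xor (qn b) (qn c))))) := by
  have h := bn_add ha hb hc
  simp only [bn_def] at h
  revert h
  cases qn (a ^^^ (b ^^^ c)) <;> cases qn (a ^^^ b) <;> cases qn (a ^^^ c) <;> cases qn (b ^^^ c) <;>
    cases qn a <;> cases qn b <;> cases qn c <;> decide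

theorem b1_eq {k : ℕ} (hk : k < 256) : bn k 1 = b1 k := by revert k; decide +kernel

theorem qn_mask {k : ℕ} (hk : k < 256) (h : b1 k = false) : qn (k &&& 252) = qn k := by
  revert k; decide +kernel

theorem mask_cases {k : ℕ} (hk : k < 256) (h : b1 k = false) :
    k = k &&& 252 ∨ k = (k &&& 252) ^^^ 1 := by
  revert k; decide +kernel

theorem xor_mask (j k : ℕ) : (j ^^^ k) &&& 252 = (j &&& 252) ^^^ (k &&& 252) :=
  Nat.and_xor_distrib_right

theorem b1_xor {j k : ℕ} (hj : j < 256) (hk : k < 256) :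
    b1 (j ^^^ k) = Bool.xor (b1 j) (b1 k) := by
  rw [← b1_eq (xor_lt hj hk), bn_add' (by norm_num) hj hk, b1_eq hj, b1_eq hk]

theorem bn_mask2 {j k : ℕ} (hj : j < 256) (hk : k < 256) (h1 : b1 j = false) (h2 : b1 k = false) :
    bn (j &&& 252) (k &&& 252) = bn j k := by
  rw [bn_def, bn_def, ← xor_mask, qn_mask (xor_lt hj hk) (by rw [b1_xor hj hk, h1, h2]; rfl), qn_mask hj h1,
    qn_mask hk h2]

theorem bn_mask {a k : ℕ} (ha : a ∈ w6) (hk : k < 256) (h : b1 k = false) :
    bn a (k &&& 252) = bn a k := by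
  conv_lhs => rw [← (w6_spec a ha).2.1]
  exact bn_mask2 (lt_of_w6 ha) hk (w6_spec a ha).2.2.1 h

theorem refl_lt {v k : ℕ} (hv : v < 256) (hk : k < 256) : refl v k < 256 := by
  rw [refl]
  cases bn v k
  · exact hk
  · exact xor_lt hk hv

theorem refl_xor {v j k : ℕ} (hv : v < 256) (hj : j < 256) (hk : k < 256) :
    refl v (j ^^^ k) = refl v j ^^^ refl v k := by
  rw [refl, refl, refl, bn_add hv hj hk]
  cases bn v j <;> cases bn v k <;>
    simp [Nat.xor_left_comm, Nat.xor_comm]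

theorem refl_qn {v k : ℕ} (hq : qn v = true) : qn (refl v k) = qn k := by
  rw [refl]
  cases h : bn v k
  · rfl
  · rw [cond_true, qn_add, bn_comm, h, hq]
    cases qn k <;> rfl

theorem refl_refl {v k : ℕ} (hv : v < 256) (hk : k < 256) : refl v (refl v k) = k := by
  cases h : bn v k
  · simp [refl, h]
  · simp [refl, h, bn_add hv hk hv, bn_self v hv]

theorem eich_eq_sg {a k : ℕ} (hk : k < 256) : eich a k = sg 1 a k := by
  rw [eich, sg, b1_eq hk]

theorem sg_lt {p a k : ℕ} (hp : p < 256) (ha : a < 256) (hk : k < 256) : sg p a k < 256 := by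
  rw [sg]
  refine xor_lt (xor_lt hk ?_) ?_
  · cases bn k p
    · exact Nat.zero_lt_succ _
    · exact ha
  · cases Bool.xor (bn a k) (bn k p && qn a)
    · exact Nat.zero_lt_succ _
    · exact hp

theorem sg_xor {p a j k : ℕ} (hp : p < 256) (ha : a < 256) (hj : j < 256) (hk : k < 256) :
    sg p a (j ^^^ k) = sg p a j ^^^ sg p a k := by
  rw [sg, sg, sg, bn_add' hp hj hk, bn_add ha hj hk]
  cases bn j p <;> cases bn k p <;> cases bn a j <;> cases bn a k <;> cases qn a <;>
    simp [Nat.xor_left_comm, Nat.xor_comm]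

/-- An additive map of the coded space. -/
structure Lin8 (f : ℕ → ℕ) : Prop where
  lt : ∀ k < 256, f k < 256
  add : ∀ j < 256, ∀ k < 256, f (j ^^^ k) = f j ^^^ f k

namespace Lin8

variable {f g : ℕ → ℕ}

theorem comp (hf : Lin8 f) (hg : Lin8 g) : Lin8 fun k => f (g k) :=
  ⟨fun k hk => hf.lt _ (hg.lt k hk),
    fun j hj k hk => by rw [hg.add j hj k hk, hf.add _ (hg.lt j hj) _ (hg.lt k hk)]⟩

theorem zero (hf : Lin8 f) : f 0 = 0 := by
  have := hf.add 0 (by norm_num) 0 (by norm_num)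
  rwa [Nat.xor_self, Nat.xor_self] at this

theorem ext (hf : Lin8 f) (hg : Lin8 g) (h : agree f g = true) : ∀ k < 256, f k = g k :=
  ind8 (by rw [hf.zero, hg.zero]) fun j hj k hk e => by
    rw [hf.add k hk j (bits8_lt j hj), hg.add k hk j (bits8_lt j hj), e,
      Nat.eq_of_beq_eq_true (List.all_eq_true.1 h j hj)]

theorem id' : Lin8 fun k => k := ⟨fun _ hk => hk, fun _ _ _ _ => rfl⟩

end Lin8

theorem refl_lin {v : ℕ} (hv : v < 256) : Lin8 (refl v) :=
  ⟨fun _ hk => refl_lt hv hk, fun _ hj _ hk => refl_xor hv hj hk⟩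

theorem sg_lin {p a : ℕ} (hp : p < 256) (ha : a < 256) : Lin8 (sg p a) :=
  ⟨fun _ hk => sg_lt hp ha hk, fun _ hj _ hk => sg_xor hp ha hj hk⟩

theorem eich_lin {a : ℕ} (ha : a < 256) : Lin8 (eich a) :=
  ⟨fun _ hk => by rw [eich_eq_sg hk]; exact sg_lt (by norm_num) ha hk, fun _ hj _ hk => by
    rw [eich_eq_sg hj, eich_eq_sg hk, eich_eq_sg (xor_lt hj hk)]
    exact sg_xor (by norm_num) ha hj hk⟩

theorem pr_lin {p : ℕ × ℕ} (h1 : p.1 < 256) (h2 : p.2 < 256) : Lin8 (pr p) :=
  (refl_lin h1).comp (refl_lin h2)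

/-- Validity of a word. -/
def okWord (ws : List (ℕ × ℕ)) : Bool :=
  ws.all fun p => decide (p.1 < 256) && decide (p.2 < 256) && qn p.1 && qn p.2

theorem okWord_cons {p : ℕ × ℕ} {ws : List (ℕ × ℕ)} (h : okWord (p :: ws) = true) :
    (p.1 < 256 ∧ p.2 < 256 ∧ qn p.1 = true ∧ qn p.2 = true) ∧ okWord ws = true := by
  simp only [okWord, List.all_cons, Bool.and_eq_true, decide_eq_true_eq] at h
  exact ⟨⟨h.1.1.1.1, h.1.1.1.2, h.1.1.2, h.1.2⟩, h.2⟩

theorem prs_lin : ∀ {ws : List (ℕ × ℕ)}, okWord ws = true → Lin8 (prs ws)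
  | [], _ => Lin8.id'
  | _ :: _, h => (pr_lin (okWord_cons h).1.1 (okWord_cons h).1.2.1).comp (prs_lin (okWord_cons h).2)

theorem pr_qn {p : ℕ × ℕ} {k : ℕ} (h1 : qn p.1 = true) (h2 : qn p.2 = true) : qn (pr p k) = qn k :=
  (refl_qn h1).trans (refl_qn h2)

theorem eich_zero {k : ℕ} (hk : k < 256) : eich 0 k = k := by revert k; decide +kernel

theorem eich_mul_aux : w6.all (fun a => w6.all fun b =>
    agree (fun k => eich a (eich b k)) (eich (a ^^^ b))) = true := by decide +kernel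

theorem eich_mul {a b k : ℕ} (ha : a ∈ w6) (hb : b ∈ w6) (hk : k < 256) :
    eich a (eich b k) = eich (a ^^^ b) k :=
  ((eich_lin (lt_of_w6 ha)).comp (eich_lin (lt_of_w6 hb))).ext (eich_lin (lt_of_w6 (w6_xor ha hb)))
    (List.all_eq_true.1 (List.all_eq_true.1 eich_mul_aux a ha) b hb) k hk

theorem eich_lt {a k : ℕ} (ha : a ∈ w6) (hk : k < 256) : eich a k < 256 :=
  (eich_lin (lt_of_w6 ha)).lt k hk

theorem eich_self {a k : ℕ} (ha : a ∈ w6) (hk : k < 256) : eich a (eich a k) = k := by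
  rw [eich_mul ha ha hk, Nat.xor_self, eich_zero hk]

theorem eich_two : ∀ a ∈ w6, eich a 2 ^^^ 2 < 256 ∧ (eich a 2 ^^^ 2) &&& 252 = a ∧
    b1 (eich a 2 ^^^ 2) = false := by decide +kernel

theorem eich_inj {a b : ℕ} (ha : a ∈ w6) (hb : b ∈ w6) (h : ∀ k < 256, eich a k = eich b k) : a = b := by
  have := h 2 (by norm_num)
  rw [← (eich_two a ha).2.1, ← (eich_two b hb).2.1, this]

theorem eich_trivial {a k : ℕ} (h : b1 k = false) :
    eich a k = bif bn a k then k ^^^ 1 else k := by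
  rw [eich, h]
  cases bn a k <;> simp

theorem refl_w6_aux : ns6.all (fun p => Nat.beq (refl p 1) 1 && Nat.beq (refl p 2) 2 &&
    (bits6.all fun j => decide (refl p j ∈ w6))) = true := by decide +kernel

theorem refl_one {p : ℕ} (hp : p ∈ ns6) : refl p 1 = 1 := by
  have := List.all_eq_true.1 refl_w6_aux p hp
  simp only [Bool.and_eq_true] at this
  exact Nat.eq_of_beq_eq_true this.1.1

theorem refl_w6 {p a : ℕ} (hp : p ∈ ns6) (ha : a ∈ w6) : refl p a ∈ w6 := by
  have hl := refl_lin (ns6_spec p hp).1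
  refine ind6 (P := fun a => refl p a ∈ w6) (by rw [hl.zero]; decide +kernel) (fun j hj k hk h => ?_) a ha
  rw [hl.add k (lt_of_w6 hk) j (lt_of_w6 (bits6_w6 j hj))]
  refine w6_xor h ?_
  have := List.all_eq_true.1 refl_w6_aux p hp
  simp only [Bool.and_eq_true] at this
  exact of_decide_eq_true (List.all_eq_true.1 this.2 j hj)

theorem pr_w6 {p : ℕ × ℕ} {a : ℕ} (hp : p ∈ pairs6) (ha : a ∈ w6) : pr p a ∈ w6 :=
  refl_w6 (mem_pairs6 hp).1 (refl_w6 (mem_pairs6 hp).2 ha)

theorem pr_one {p : ℕ × ℕ} (hp : p ∈ pairs6) : pr p 1 = 1 := by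
  rw [pr, refl_one (mem_pairs6 hp).2, refl_one (mem_pairs6 hp).1]

theorem pairs6_lin {p : ℕ × ℕ} (hp : p ∈ pairs6) : Lin8 (pr p) :=
  pr_lin (ns6_spec _ (mem_pairs6 hp).1).1 (ns6_spec _ (mem_pairs6 hp).2).1

theorem refl_mask_aux : ns6.all (fun p => all8.all fun k => Nat.beq (refl p k &&& 252) (refl p (k &&& 252)) &&
    (b1 (refl p k) == b1 k)) = true := by decide +kernel

theorem refl_mask {p k : ℕ} (hp : p ∈ ns6) (hk : k < 256) :
    refl p k &&& 252 = refl p (k &&& 252) ∧ b1 (refl p k) = b1 k := by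
  have := List.all_eq_true.1 (List.all_eq_true.1 refl_mask_aux p hp) k (mem_all8.2 hk)
  simp only [Bool.and_eq_true, beq_iff_eq] at this
  exact ⟨Nat.eq_of_beq_eq_true this.1, this.2⟩

theorem pr_spec {p : ℕ × ℕ} {k : ℕ} (hp : p ∈ pairs6) (hk : k < 256) : pr p k < 256 ∧
    qn (pr p k) = qn k ∧ b1 (pr p k) = b1 k ∧ pr p k &&& 252 = pr p (k &&& 252) := by
  obtain ⟨h1, h2⟩ := mem_pairs6 hp
  obtain ⟨a1, q1, -⟩ := ns6_spec _ h1
  obtain ⟨a2, q2, -⟩ := ns6_spec _ h2
  have hl := refl_lt a2 hk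
  exact ⟨refl_lt a1 hl, pr_qn q1 q2, (refl_mask h1 hl).2.trans (refl_mask h2 hk).2,
    (refl_mask h1 hl).1.trans (congrArg (refl p.1) (refl_mask h2 hk).1)⟩

theorem refl_eich_aux : ns6.all (fun p => w6.all fun a =>
    agree (fun k => refl p (eich a k)) (fun k => eich (refl p a) (refl p k))) = true := by
  decide +kernel

theorem refl_eich {p a k : ℕ} (hp : p ∈ ns6) (ha : a ∈ w6) (hk : k < 256) :
    refl p (eich a k) = eich (refl p a) (refl p k) :=
  have hl := refl_lin (ns6_spec p hp).1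
  (hl.comp (eich_lin (lt_of_w6 ha))).ext ((eich_lin (lt_of_w6 (refl_w6 hp ha))).comp hl)
    (List.all_eq_true.1 (List.all_eq_true.1 refl_eich_aux p hp) a ha) k hk

theorem pr_eich {p : ℕ × ℕ} {a k : ℕ} (hp : p ∈ pairs6) (ha : a ∈ w6) (hk : k < 256) :
    pr p (eich a k) = eich (pr p a) (pr p k) := by
  obtain ⟨h1, h2⟩ := mem_pairs6 hp
  rw [pr, refl_eich h2 ha hk, refl_eich h1 (refl_w6 h2 ha) (refl_lt (ns6_spec _ h2).1 hk)]
  rfl

theorem pr_bn {p : ℕ × ℕ} {a b : ℕ} (hp : p ∈ pairs6) (ha : a < 256) (hb : b < 256) :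
    bn (pr p a) (pr p b) = bn a b := by
  rw [bn_def, ← (pairs6_lin hp).add a ha b hb, (pr_spec hp (xor_lt ha hb)).2.1, (pr_spec hp ha).2.1,
    (pr_spec hp hb).2.1, bn_def]

theorem pr_swap {p : ℕ × ℕ} {k : ℕ} (h1 : p.1 < 256) (h2 : p.2 < 256) (hk : k < 256) :
    pr (p.2, p.1) (pr p k) = k := by
  show refl p.2 (refl p.1 (refl p.1 (refl p.2 k))) = k
  rw [refl_refl h1 (refl_lt h2 hk), refl_refl h2 hk]

/-- Pairs sending the singular vectors to the point, coded. -/
def to1 : List ℕ :=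
  [771, 771, 780, 771, 2830, 775, 1803, 771, 1806, 779, 1804, 771, 771, 771,
    771, 781, 9010, 787, 3091, 771, 2846, 791, 2844, 771, 1822, 795, 1820, 771,
    771, 771, 771, 797, 4914, 803, 3107, 771, 2862, 807, 2860, 771, 1838, 811,
    1836, 771, 771, 771, 771, 813, 771, 771, 771, 817, 771, 771, 771, 821,
    771, 771, 771, 825, 1850, 831, 1848, 771, 33730, 835, 3139, 771, 2894, 839,
    2892, 771, 1870, 843, 1868, 771, 771, 771, 771, 845, 9074, 851, 3155, 771,
    2910, 855, 2908, 771, 1886, 859, 1884, 771, 771, 771, 771, 861, 4978, 867,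
    3171, 771, 2926, 871, 2924, 771, 1902, 875, 1900, 771, 771, 771, 771, 877,
    771, 771, 771, 881, 771, 771, 771, 885, 771, 771, 771, 889, 1914, 895,
    1912, 771, 17346, 899, 3203, 771, 2958, 903, 2956, 771, 1934, 907, 1932, 771,
    771, 771, 771, 909, 9138, 915, 3219, 771, 2974, 919, 2972, 771, 1950, 923,
    1948, 771, 771, 771, 771, 925, 5042, 931, 3235, 771, 2990, 935, 2988, 771,
    1966, 939, 1964, 771, 771, 771, 771, 941, 771, 771, 771, 945, 771, 771,
    771, 949, 771, 771, 771, 953, 1978, 959, 1976, 771, 771, 771, 771, 961,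
    771, 771, 771, 965, 771, 771, 771, 969, 1994, 975, 1992, 771, 771, 771,
    771, 977, 771, 771, 771, 981, 771, 771, 771, 985, 2010, 991, 2008, 771,
    771, 771, 771, 993, 771, 771, 771, 997, 771, 771, 771, 1001, 2026, 1007,
    2024, 771, 5090, 1011, 3315, 771, 3070, 1015, 3068, 771, 2046, 1019, 2044, 771,
    771, 771, 771, 1021]

theorem to1_aux : all8.all (fun k => qn k || Nat.beq k 0 ||
    (let e := to1.getD k 0
     decide (e / 256 < 256) && qn (e / 256) && qn (e % 256) && Nat.beq (pr (e / 256, e % 256) k) 1)) =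
    true := by decide +kernel

/-- The singular vectors are one orbit. -/
theorem sing_trans {k : ℕ} (hk : k < 256) (h0 : k ≠ 0) (hq : qn k = false) :
    ∃ v < 256, ∃ w < 256, qn v = true ∧ qn w = true ∧ pr (v, w) k = 1 := by
  have h := List.all_eq_true.1 to1_aux k (mem_all8.2 hk)
  have h0' : Nat.beq k 0 = false := by cases k <;> simp_all [Nat.beq]
  rw [hq, h0'] at h
  simp only [Bool.false_or, Bool.and_eq_true, decide_eq_true_eq] at h
  exact ⟨_, h.1.1.1, _, Nat.mod_lt _ (by norm_num), h.1.1.2, h.1.2, Nat.eq_of_beq_eq_true h.2⟩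

/-- The non-singular vectors of the space of dimension six are one orbit. -/
theorem ns_trans : ∀ a ∈ ns6, ∃ p ∈ pairs6, pr p a = 12 := by decide +kernel

/-- The singular vectors of the space of dimension six are one orbit. -/
theorem sg_trans : ∀ a ∈ w6, a ≠ 0 → qn a = false → ∃ p ∈ pairs6, pr p a = 4 := by decide +kernel

theorem sing_moved : ∀ a ∈ w6, a ≠ 0 → qn a = false → ∃ p ∈ pairs6, bn (pr p a) a = true := by
  decide +kernel

theorem sing_split : ∀ a ∈ w6, qn a = false → a = 0 ∨ ∃ c ∈ ns6, ∃ d ∈ ns6, a = c ^^^ d := by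
  decide +kernel

/-- The functionals invariant under the stabiliser of `12`. -/
theorem functional_aux : w6.all (fun y =>
    Nat.beq y 0 || Nat.beq y 12 || [(12, 28), (44, 76), (12, 140)].any fun p =>
      bits6.any fun e => !(bn y (pr p e) == bn y e)) = true := by decide +kernel

theorem functional_pairs : ∀ p ∈ [((12 : ℕ), (28 : ℕ)), (44, 76), (12, 140)],
    p ∈ pairs6 ∧ pr p 12 = 12 := by decide +kernel

theorem eich_shift : ∀ a ∈ w6, a ≠ 0 → ∀ k < 256,
    eich a k ^^^ k ^^^ (bif qn a then 1 else 0) = 0 → b1 k = false := by decide +kernel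

/-- Isometries fixing the point and trivial on its perpendicular modulo it. -/
def radImg (i g2 : ℕ) (j : ℕ) : ℕ :=
  bif Nat.beq j 2 then g2 else bif Nat.beq j 1 then 1 else j ^^^ ((i / j) &&& 1)

theorem rad_aux : (List.range 64).all (fun i => all8.all fun g2 =>
    !(qn g2 == false && bn 1 g2 == true && bits6.all fun j => bn (radImg (4 * i) g2 j) g2 == false) ||
      (bits8.all fun k => Nat.beq (radImg (4 * i) g2 k) (eich (g2 &&& 252) k))) = true := by
  decide +kernel

end Cfsg.Agent.Lib.Co1Type31
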