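import Cfsg.Agent.Lib.Co1Type31.Pair

/-!
# Conway type: squares and commutators in `(Q ∩ C(x))(P ∩ C(z))`

With the invariance under `C(z) ∩ C(x)`, the transvection with parameter `a` has a lift with square
`x ^ q(a)`, and its commutator with an element of parameter `v` is `(x z) ^ B(a, v)`.

After `Lib/SuzType52/Values` (helper52).

Owner: helper31.
-/

set_option autoImplicit false

namespace Cfsg.Agent.Lib.Co1Type31

/-- An invariant functional. -/
theorem functional_cases (φ : ℕ → Bool) (h : ∀ a ∈ w6, ∀ b ∈ w6, φ (a ^^^ b) = Bool.xor (φ a) (φ b))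
    (hinv : ∀ p ∈ pairs6, pr p 12 = 12 → ∀ v ∈ w6, φ (pr p v) = φ v) :
    (∀ v ∈ w6, φ v = false) ∨ ∀ v ∈ w6, φ v = bn 12 v := by
  have key : ∀ b4 b8 b16 b32 b64 b128 : Bool, ∃ y ∈ w6, bn y 4 = b4 ∧ bn y 8 = b8 ∧ bn y 16 = b16 ∧
      bn y 32 = b32 ∧ bn y 64 = b64 ∧ bn y 128 = b128 := by
    intro b4 b8 b16 b32 b64 b128
    cases b4 <;> cases b8 <;> cases b16 <;> cases b32 <;> cases b64 <;> cases b128 <;> decide +kernel
  obtain ⟨y, hy, h4, h8, h16, h32, h64, h128⟩ := key (φ 4) (φ 8) (φ 16) (φ 32) (φ 64) (φ 128)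
  have h0 : φ 0 = false := by
    have := h 0 (by decide +kernel) 0 (by decide +kernel)
    rw [Nat.xor_self, Bool.xor_self] at this
    exact this
  have hy' : ∀ v ∈ w6, φ v = bn y v := by
    refine ind6 (P := fun v => φ v = bn y v) (h0.trans (bn_zero y).symm) fun j hj k hk e => ?_
    rw [h k hk j (bits6_w6 j hj), bn_add (lt_of_w6 hy) (lt_of_w6 hk) (lt_of_w6 (bits6_w6 j hj)), e]
    congr 1
    simp only [bits6, List.mem_cons, List.not_mem_nil, or_false] at hj
    rcases hj with rfl | rfl | rfl | rfl | rfl | rfl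
    exacts [h4.symm, h8.symm, h16.symm, h32.symm, h64.symm, h128.symm]
  have k := List.all_eq_true.1 functional_aux y hy
  simp only [Bool.or_eq_true, List.any_eq_true] at k
  rcases k with (k | k) | ⟨p, hp, e, he, k⟩
  · refine Or.inl fun v hv => ?_
    rw [hy' v hv, Nat.eq_of_beq_eq_true k, bn_comm, bn_zero]
  · refine Or.inr fun v hv => ?_
    rw [hy' v hv, Nat.eq_of_beq_eq_true k]
  · exfalso
    obtain ⟨hp6, hp12⟩ := functional_pairs p hp
    have he6 := bits6_w6 e he
    rw [← hy' _ (pr_w6 hp6 he6), ← hy' e he6, hinv p hp6 hp12 e he6] at k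
    simp at k

variable {G : Type*} [Group G]

namespace Duo

variable {z : G} {Q : Subgroup G} {co : G → ℕ} {ac : G → ℕ → ℕ} {x n : G}
  (d : Duo z Q co ac x n)
include d

theorem pw_x_inj {i j : Bool} (e : pw x i = pw x j) : i = j := by
  cases i <;> cases j <;> first | rfl | exact absurd e d.x_ne.1 | exact absurd e.symm d.x_ne.1

/-- The square of a lift depends on the parameter only, and is the value of the form. -/
theorem sq_act : ∀ a ∈ w6, ∀ u, InB Q n z u → Act ac u a → u * u = pw x (qn a) := by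
  classical
  choose! L hL using d.lift
  set s : ℕ → Bool := fun a => qn (co (n⁻¹ * L a * n)) with hs
  have hwd : ∀ a ∈ w6, ∀ u, InB Q n z u → Act ac u a → u * u = pw x (s a) := by
    intro a ha u hu h
    obtain ⟨i, j, e⟩ := d.act_eq ha (hL a ha).1 hu (hL a ha).2 h
    have hc := d.ee_comm (d.B_comm (hL a ha).1).1 (d.B_comm (hL a ha).1).2 i j
    rw [e, mul_assoc, ← mul_assoc (ee z x i j) (L a), ← hc.eq, mul_assoc (L a), d.ee_sq, mul_one,
      d.P_sq (hL a ha).1.1]
  have hval : ∀ a ∈ w6, ∀ u, InB Q n z u → Act ac u a → qn (co (n⁻¹ * u * n)) = s a :=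
    fun a ha u hu h => d.pw_x_inj ((d.P_sq hu.1).symm.trans (hwd a ha u hu h))
  have hinv : ∀ p ∈ pairs6, ∀ a ∈ w6, s (pr p a) = s a := by
    intro p hp a ha
    obtain ⟨c, hc, hcx, hck⟩ := d.exists_prE hp
    obtain ⟨h1, h2⟩ := d.act_conj hp hc hcx hck (hL a ha).1 ha (hL a ha).2
    refine d.pw_x_inj ?_
    rw [← hwd _ (pr_w6 hp ha) _ h1 h2,
      show c * L a * c⁻¹ * (c * L a * c⁻¹) = c * (L a * L a) * c⁻¹ by group,
      hwd a ha _ (hL a ha).1 (hL a ha).2]
    cases s a
    · simp [pw]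
    · exact mul_inv_eq_iff_eq_mul.2 hcx.eq
  have hco : ∀ a ∈ w6, ∀ b ∈ w6, qn (co (n⁻¹ * L a * n) ^^^ co (n⁻¹ * L b * n)) = s (a ^^^ b) := by
    intro a ha b hb
    obtain ⟨h1, h2⟩ := d.act_mul (hL a ha).1 (hL b hb).1 ha hb (hL a ha).2 (hL b hb).2
    rw [← d.fr.co_mul _ (hL a ha).1.1 _ (hL b hb).1.1, ← hval _ (w6_xor ha hb) _ h1 h2]
    congr 2
    group
  have hσ : s 4 = false := by
    have m4 : (4 : ℕ) ∈ w6 := by decide
    have m48 : (48 : ℕ) ∈ w6 := by decide
    have m208 : (208 : ℕ) ∈ w6 := by decide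
    have hA : ∀ a ∈ w6, n⁻¹ * L a * n ∈ Q := fun a ha => (hL a ha).1.1
    have e3 := qn_three (d.fr.co_lt _ (hA 4 m4)) (d.fr.co_lt _ (hA 48 m48)) (d.fr.co_lt _ (hA 208 m208))
    obtain ⟨h1, h2⟩ := d.act_mul (hL 48 m48).1 (hL 208 m208).1 m48 m208 (hL 48 m48).2 (hL 208 m208).2
    obtain ⟨h3, h4⟩ := d.act_mul (hL 4 m4).1 h1 m4 (by decide : (48 : ℕ) ^^^ 208 ∈ w6) (hL 4 m4).2 h2
    have e228 : qn (co (n⁻¹ * L 4 * n) ^^^ (co (n⁻¹ * L 48 * n) ^^^ co (n⁻¹ * L 208 * n))) = s 228 := by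
      rw [← d.fr.co_mul _ (hA 48 m48) _ (hA 208 m208), ← d.fr.co_mul _ (hA 4 m4) _ (mul_mem (hA 48 m48) (hA 208 m208)),
        ← hval 228 (by decide) _ h3 h4]
      congr 2
      group
    rw [e228, hco 4 m4 48 m48, hco 4 m4 208 m208, hco 48 m48 208 m208] at e3
    have hns : ∀ b ∈ ns6, s b = s 12 := fun b hb => by
      obtain ⟨p, hp, e⟩ := ns_trans b hb
      rw [← hinv p hp b (ns6_spec b hb).2.2, e]
    have r1 : s (4 ^^^ 48) = s 12 := hns 52 (by decide)
    have r2 : s (4 ^^^ 208) = s 12 := hns 212 (by decide)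
    have r3 : s (48 ^^^ 208) = s 12 := hns 224 (by decide)
    have r4 : s 228 = s 12 := hns 228 (by decide)
    have r5 : s 208 = s 12 := hns 208 (by decide)
    have r6 : s 48 = s 12 := hns 48 (by decide)
    rw [r1, r2, r3, r4] at e3
    change s 12 = Bool.xor (s 12) (Bool.xor (s 12) (Bool.xor (s 12) (Bool.xor (s 4)
      (Bool.xor (s 48) (s 208))))) at e3
    rw [r5, r6] at e3
    revert e3
    cases s 12 <;> cases s 4 <;> decide
  have hsing : ∀ a ∈ w6, a ≠ 0 → qn a = false → s a = false := fun a ha h0 hq => by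
    obtain ⟨p, hp, e⟩ := sg_trans a ha h0 hq
    rw [← hinv p hp a ha, e, hσ]
  have hz : s 0 = false := by
    obtain ⟨i, j, e⟩ := d.act_zero (hL 0 (by decide)).1 (hL 0 (by decide)).2
    refine d.pw_x_inj ?_
    rw [← hwd 0 (by decide) _ (hL 0 (by decide)).1 (hL 0 (by decide)).2, e, d.ee_sq]
    rfl
  have hnu : ∀ a ∈ w6, qn a = true → s a = s 12 := fun a ha hq => by
    obtain ⟨p, hp, e⟩ := ns_trans a (mem_ns6 ha hq)
    rw [← hinv p hp a ha, e]
  have h12 : s 12 = true := by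
    by_contra hne
    obtain ⟨u, v, hu, hv, huv⟩ := d.exists_noncomm
    refine huv ?_
    have h1 : ∀ w, InB Q n z w → w * w = 1 := fun w hw => by
      obtain ⟨a, ha, h⟩ := d.exists_act hw
      rw [hwd a ha w hw h]
      have hsa : s a = false := by
        cases hq : qn a with
        | false =>
          rcases eq_or_ne a 0 with rfl | h0
          · exact hz
          · exact hsing a ha h0 hq
        | true => exact (hnu a ha hq).trans (Bool.eq_false_iff.2 hne)
      rw [hsa]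
      rfl
    have h2 := h1 (u * v) ⟨d.P_mul hu.1 hv.1, hu.2.mul_left hv.2⟩
    show u * v = v * u
    rw [← inv_eq_of_mul_eq_one_right h2, mul_inv_rev, inv_eq_of_mul_eq_one_right (h1 u hu),
      inv_eq_of_mul_eq_one_right (h1 v hv)]
  intro a ha u hu h
  rw [hwd a ha u hu h]
  congr 1
  cases hq : qn a with
  | false =>
    rcases eq_or_ne a 0 with rfl | h0
    · exact hz
    · exact hsing a ha h0 hq
  | true => rw [hnu a ha hq, h12]

theorem A_mul {r r' : G} (hr : InA Q co r) (hr' : InA Q co r') : InA Q co (r * r') :=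
  ⟨mul_mem hr.1 hr'.1, by
    rw [d.fr.co_mul r hr.1 r' hr'.1]
    rw [b1_xor (d.fr.co_lt r hr.1) (d.fr.co_lt r' hr'.1), hr.2, hr'.2]; rfl⟩

theorem co_com {r u : G} {a : ℕ} (_ha : a ∈ w6) (hr : InA Q co r) (hu : InB Q n z u) (h : Act ac u a) :
    co (com r u) = bif bn a (co r) then 1 else 0 := by
  have hlt := d.fr.co_lt r hr.1
  have e1 : com r u = r * (u * r⁻¹ * u⁻¹) := by simp only [com]; group
  rw [e1, d.fr.co_mul r hr.1 _ (d.fr.norm u hu.2 _ (inv_mem hr.1)), d.fr.conj u hu.2 _ (inv_mem hr.1),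
    d.fr.co_inv hr.1, h _ hlt, eich_trivial hr.2]
  cases bn a (co r)
  · exact Nat.xor_self _
  · show co r ^^^ (co r ^^^ 1) = 1
    rw [← Nat.xor_assoc, Nat.xor_self, Nat.zero_xor]

theorem central_conj {g : G} (hx : Commute g x) (hz : Commute g z) (i j : Bool) :
    g * ee z x i j * g⁻¹ = ee z x i j :=
  mul_inv_eq_iff_eq_mul.2 (d.ee_comm hx hz i j).eq

/-- The commutator of the two halves. -/
theorem com_act : ∀ a ∈ w6, ∀ u r, InB Q n z u → Act ac u a → InA Q co r →
    com r u = ee z x (bn a (co r)) (bn a (co r)) := by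
  classical
  choose! L hL using d.lift
  choose! R hR using d.fr.co_surj
  have hRA : ∀ v ∈ w6, InA Q co (R v) := fun v hv =>
    ⟨(hR v (w6_spec v hv).1).1, by
      rw [(hR v (w6_spec v hv).1).2]; exact (w6_spec v hv).2.2.1⟩
  have hRc : ∀ v ∈ w6, co (R v) = v := fun v hv => (hR v (w6_spec v hv).1).2
  set β : ℕ → ℕ → Bool := fun v a => decide (com (R v) (L a) = ee z x (bn a v) true) with hβ
  have hbase : ∀ v ∈ w6, ∀ a ∈ w6, com (R v) (L a) = ee z x (bn a v) (β v a) := by
    intro v hv a ha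
    obtain ⟨i, j, e⟩ := d.com_mem (hRA v hv) (hL a ha).1
    have hc := d.co_com ha (hRA v hv) (hL a ha).1 (hL a ha).2
    rw [e, d.co_ee, hRc v hv] at hc
    have hi : i = bn a v := by
      revert hc
      cases i <;> cases bn a v <;> simp
    subst hi
    by_cases hj : com (R v) (L a) = ee z x (bn a v) true
    · have hb : β v a = true := decide_eq_true hj
      rw [hb, hj]
    · have hb : β v a = false := decide_eq_false hj
      rw [hb, e]
      cases j
      · rfl
      · exact absurd e hj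
  have hwd : ∀ v ∈ w6, ∀ a ∈ w6, ∀ u r, InB Q n z u → Act ac u a → InA Q co r → co r &&& 252 = v →
      com r u = ee z x (bn a v) (β v a) := by
    intro v hv a ha u r hu h hr hrv
    obtain ⟨i, j, eu⟩ := d.act_eq ha (hL a ha).1 hu (hL a ha).2 h
    have hr' : ∃ i' j', r = R v * ee z x i' j' := by
      have hm : (R v)⁻¹ * r ∈ Q := mul_mem (inv_mem (hRA v hv).1) hr.1
      obtain ⟨i', j', e⟩ := d.exists_ee hm (by
        rw [d.fr.co_mul _ (inv_mem (hRA v hv).1) _ hr.1, d.fr.co_inv (hRA v hv).1, hRc v hv]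
        rcases mask_cases (d.fr.co_lt r hr.1) hr.2 with e | e <;> rw [hrv] at e <;> rw [e]
        · exact Or.inl (Nat.xor_self v)
        · exact Or.inr (by rw [← Nat.xor_assoc, Nat.xor_self, Nat.zero_xor]))
      exact ⟨i', j', inv_mul_eq_iff_eq_mul.1 e⟩
    obtain ⟨i', j', er⟩ := hr'
    have c1 := d.central_conj (d.A_comm (hRA v hv)).1 (d.A_comm (hRA v hv)).2
    have c2 := d.central_conj (d.B_comm (hL a ha).1).1 (d.B_comm (hL a ha).1).2
    have z1 : com (ee z x i' j') (L a * ee z x i j) = 1 := by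
      have hc : Commute (ee z x i' j') (L a * ee z x i j) := by
        refine ((d.ee_comm (d.B_comm (hL a ha).1).1 (d.B_comm (hL a ha).1).2 i' j').symm).mul_right ?_
        show ee z x i' j' * ee z x i j = ee z x i j * ee z x i' j'
        rw [d.ee_mul, d.ee_mul, Bool.xor_comm i, Bool.xor_comm j]
      simp only [com]
      rw [hc.eq, mul_inv_cancel_right, mul_inv_cancel]
    have z2 : com (R v) (ee z x i j) = 1 := by
      simp only [com]
      rw [c1, mul_inv_cancel]
    rw [eu, er, com_mul_left, z1, com_mul_right, z2]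
    simp only [mul_one, mul_inv_cancel, hbase v hv a ha, one_mul]
  have hadd : ∀ v ∈ w6, ∀ v' ∈ w6, ∀ a ∈ w6, β (v ^^^ v') a = Bool.xor (β v a) (β v' a) := by
    intro v hv v' hv' a ha
    have hA := d.A_mul (hRA v hv) (hRA v' hv')
    have e := hwd _ (w6_xor hv hv') a ha (L a) _ (hL a ha).1 (hL a ha).2 hA (by
      rw [d.fr.co_mul _ (hRA v hv).1 _ (hRA v' hv').1, hRc v hv, hRc v' hv']
      exact (w6_spec _ (w6_xor hv hv')).2.1)
    rw [com_mul_left, hbase v hv a ha, hbase v' hv' a ha,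
      d.central_conj (d.A_comm (hRA v hv)).1 (d.A_comm (hRA v hv)).2, d.ee_mul] at e
    rw [← (d.ee_inj e).2, Bool.xor_comm]
  have haddr : ∀ v ∈ w6, ∀ a ∈ w6, ∀ b ∈ w6, β v (a ^^^ b) = Bool.xor (β v a) (β v b) := by
    intro v hv a ha b hb
    obtain ⟨h1, h2⟩ := d.act_mul (hL a ha).1 (hL b hb).1 ha hb (hL a ha).2 (hL b hb).2
    have e := hwd v hv _ (w6_xor ha hb) _ (R v) h1 h2 (hRA v hv)
      (by rw [hRc v hv]; exact (w6_spec v hv).2.1)
    rw [com_mul_right, hbase v hv a ha, hbase v hv b hb,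
      d.central_conj (d.B_comm (hL a ha).1).1 (d.B_comm (hL a ha).1).2, d.ee_mul] at e
    exact (d.ee_inj e).2.symm
  have hinv : ∀ p ∈ pairs6, ∀ v ∈ w6, ∀ a ∈ w6, β (pr p v) (pr p a) = β v a := by
    intro p hp v hv a ha
    obtain ⟨c, hc, hcx, hck⟩ := d.exists_prE hp
    obtain ⟨h1, h2⟩ := d.act_conj hp hc hcx hck (hL a ha).1 ha (hL a ha).2
    have hm := d.fr.norm c hc _ (hRA v hv).1
    have hcv : co (c * R v * c⁻¹) = pr p v := by
      rw [d.fr.conj c hc _ (hRA v hv).1, hRc v hv, hck v (w6_spec v hv).1]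
    have e := hwd _ (pr_w6 hp hv) _ (pr_w6 hp ha) _ _ h1 h2
      (show InA Q co (c * R v * c⁻¹) from
        ⟨hm, by rw [hcv]; exact (w6_spec _ (pr_w6 hp hv)).2.2.1⟩)
      (by rw [hcv]; exact (w6_spec _ (pr_w6 hp hv)).2.1)
    rw [com_conj, hbase v hv a ha, d.central_conj hcx hc] at e
    exact (d.ee_inj e).2.symm
  have h12 : (12 : ℕ) ∈ w6 := by decide
  have hbn : ∀ p ∈ pairs6, ∀ a ∈ w6, ∀ v ∈ w6, bn (pr p a) (pr p v) = bn a v := fun p hp a ha v hv =>
    pr_bn hp (w6_spec a ha).1 (w6_spec v hv).1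
  rcases functional_cases (fun v => β v 12) (fun a ha b hb => hadd a ha b hb 12 h12)
      (fun p hp e v hv => by
        have := hinv p hp v hv 12 h12
        rwa [e] at this) with h0 | h0
  · exfalso
    obtain ⟨u, hu, h⟩ := d.lift 12 h12
    obtain ⟨r, hr, hrc⟩ := d.fr.co_surj 52 (by norm_num)
    have hrA : InA Q co r := ⟨hr, by rw [hrc]; rfl⟩
    have e1 : com r u = ee z x true false := by
      rw [hwd 52 (by decide) 12 h12 u r hu h hrA (by rw [hrc]; rfl), h0 52 (by decide)]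
      rfl
    have hz0 : ∀ a ∈ w6, ∀ v ∈ w6, β v a = false := by
      intro a ha v hv
      have hns : ∀ b ∈ ns6, β v b = false := fun b hb => by
        obtain ⟨p, hp, e⟩ := ns_trans b hb
        rw [← hinv p hp v hv b (ns6_spec b hb).2.2, e]
        exact h0 _ (pr_w6 hp hv)
      cases hq : qn a with
      | true => exact hns a (mem_ns6 ha hq)
      | false =>
        rcases sing_split a ha hq with rfl | ⟨b, hb, c, hc, rfl⟩
        · have := haddr v hv 0 ha 0 ha
          revert this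
          cases β v 0 <;> simp
        · rw [haddr v hv b (ns6_spec b hb).2.2 c (ns6_spec c hc).2.2, hns b hb, hns c hc]
          rfl
    have hu' := d.A_of_B hu
    have hr' := d.B_of_A hrA
    obtain ⟨b, hb, hb'⟩ := d.exists_act hr'
    have e2 := hwd _ (mem_w6 (d.fr.co_lt _ hu'.1)) b hb _ _ hr' hb' hu' rfl
    rw [hz0 b hb _ (mem_w6 (d.fr.co_lt _ hu'.1))] at e2
    have e3 : com (n * r * n⁻¹) (n * u * n⁻¹) = ee z x false true := by
      rw [com_conj, e1]
      show n * (x * 1) * n⁻¹ = 1 * z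
      rw [mul_one, one_mul, d.nx]
    rw [← com_inv, e3, inv_eq_of_mul_eq_one_right (d.ee_sq false true)] at e2
    exact Bool.noConfusion (d.ee_inj e2).2
  intro a ha u r hu h hr
  have hv := mem_w6 (d.fr.co_lt r hr.1)
  have hbm : bn a (co r &&& 252) = bn a (co r) := bn_mask ha (d.fr.co_lt r hr.1) hr.2
  have key : β (co r &&& 252) a = bn a (co r &&& 252) := by
    have hns : ∀ b ∈ ns6, ∀ v ∈ w6, β v b = bn b v := fun b hb v hv => by
      obtain ⟨p, hp, e⟩ := ns_trans b hb
      have hb4 := (ns6_spec b hb).2.2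
      rw [← hinv p hp v hv b hb4, ← hbn p hp b hb4 v hv, e]
      exact h0 _ (pr_w6 hp hv)
    generalize co r &&& 252 = v at hv ⊢
    cases hq : qn a with
    | true => exact hns a (mem_ns6 ha hq) v hv
    | false =>
      rcases sing_split a ha hq with rfl | ⟨b, hb, c, hc, rfl⟩
      · have e := haddr v hv 0 ha 0 ha
        have e0 : bn 0 v = false := by
          fin_cases hv <;> rfl
        rw [e0]
        revert e
        cases β v 0 <;> simp
      · have hb4 := (ns6_spec b hb).2.2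
        have hc4 := (ns6_spec c hc).2.2
        rw [haddr v hv b hb4 c hc4, hns b hb v hv, hns c hc v hv, bn_comm (b ^^^ c),
          bn_add (w6_spec v hv).1 (w6_spec b hb4).1 (w6_spec c hc4).1, bn_comm v b,
          bn_comm v c]
  rw [hwd _ hv a ha u r hu h hr rfl, key, hbm]

end Duo

end Cfsg.Agent.Lib.Co1Type31
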